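import Mathlib.GroupTheory.Sylow
import Mathlib.Algebra.Group.Subgroup.Pointwise
import Mathlib.Tactic
import Cfsg.Prelude.Def_BaumannBlocks

/-!
# Chermak–Delgado measure: product formula and the basic lattice argument

Helper library of seat helper50 (statements S3004, S3005, ...).
-/

set_option autoImplicit false
open scoped Pointwise

namespace Cfsg.Agent.Lib.Helper50

variable {G : Type*} [Group G]

/-- The product formula `|H| * |K| = |H ∩ K| * |HK|`. -/
theorem card_mul_card_eq_card_inf_mul_card_mul [Finite G] (H K : Subgroup G) :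
    Nat.card H * Nat.card K =
      Nat.card (H ⊓ K : Subgroup G) * Nat.card ((H : Set G) * (K : Set G) : Set G) := by
  classical
  rw [← Nat.card_prod, ← Nat.card_prod]
  -- choose a decomposition for each element of H * K
  have hdec : ∀ x : ((H : Set G) * (K : Set G) : Set G),
      ∃ hk : H × K, (hk.1 : G) * (hk.2 : G) = x := by
    rintro ⟨x, h, hh, k, hk, rfl⟩
    exact ⟨(⟨h, hh⟩, ⟨k, hk⟩), rfl⟩
  choose dec hdec using hdec
  let prodElt : H × K → ((H : Set G) * (K : Set G) : Set G) :=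
    fun hk => ⟨(hk.1 : G) * (hk.2 : G), Set.mul_mem_mul hk.1.2 hk.2.2⟩
  have hmem1 : ∀ hk : H × K, ((dec (prodElt hk)).1 : G)⁻¹ * hk.1 ∈ H ⊓ K := by
    intro hk
    refine ⟨H.mul_mem (H.inv_mem (dec _).1.2) hk.1.2, ?_⟩
    have h1 : ((dec (prodElt hk)).1 : G) * ((dec (prodElt hk)).2 : G) = (hk.1 : G) * (hk.2 : G) :=
      hdec (prodElt hk)
    have h2 : ((dec (prodElt hk)).1 : G)⁻¹ * hk.1 = ((dec (prodElt hk)).2 : G) * (hk.2 : G)⁻¹ := by
      rw [inv_mul_eq_iff_eq_mul, ← mul_assoc, h1]; group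
    rw [h2]
    exact K.mul_mem (dec _).2.2 (K.inv_mem hk.2.2)
  refine Nat.card_congr ?_
  refine
    { toFun := fun hk => (⟨((dec (prodElt hk)).1 : G)⁻¹ * hk.1, hmem1 hk⟩, prodElt hk)
      invFun := fun dx => (⟨((dec dx.2).1 : G) * (dx.1 : G), H.mul_mem (dec dx.2).1.2 dx.1.2.1⟩,
        ⟨(dx.1 : G)⁻¹ * ((dec dx.2).2 : G), K.mul_mem (K.inv_mem dx.1.2.2) (dec dx.2).2.2⟩)
      left_inv := ?_
      right_inv := ?_ }
  · rintro ⟨h, k⟩
    have h1 : ((dec (prodElt (h, k))).1 : G) * ((dec (prodElt (h, k))).2 : G) = (h : G) * (k : G) :=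
      hdec (prodElt (h, k))
    apply Prod.ext
    · apply Subtype.ext
      simp
    · apply Subtype.ext
      simp only
      rw [mul_inv_rev, inv_inv, mul_assoc, h1]; group
  · rintro ⟨d, x⟩
    have h1 : ((dec x).1 : G) * ((dec x).2 : G) = x := hdec x
    have hx : prodElt (⟨((dec x).1 : G) * (d : G), H.mul_mem (dec x).1.2 d.2.1⟩,
        ⟨(d : G)⁻¹ * ((dec x).2 : G), K.mul_mem (K.inv_mem d.2.2) (dec x).2.2⟩) = x := by
      apply Subtype.ext
      simp only [prodElt]
      rw [← h1]; group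
    apply Prod.ext
    · apply Subtype.ext
      simp only
      rw [hx]; group
    · exact hx

/-- `HK ⊆ H ⊔ K` as sets. -/
theorem mul_subset_sup (H K : Subgroup G) :
    (H : Set G) * (K : Set G) ⊆ ((H ⊔ K : Subgroup G) : Set G) := by
  rintro _ ⟨h, hh, k, hk, rfl⟩
  exact Subgroup.mul_mem _ (Subgroup.mem_sup_left hh) (Subgroup.mem_sup_right hk)

/-- `|HK| ≤ |H ⊔ K|`. -/
theorem card_mul_le_card_sup [Finite G] (H K : Subgroup G) :
    Nat.card ((H : Set G) * (K : Set G) : Set G) ≤ Nat.card (H ⊔ K : Subgroup G) :=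
  Nat.card_mono (Set.toFinite _) (mul_subset_sup H K)

/-- If `|HK| = |H ⊔ K|` then `H ⊔ K = HK` as sets. -/
theorem sup_eq_mul_of_card_eq [Finite G] (H K : Subgroup G)
    (h : Nat.card ((H : Set G) * (K : Set G) : Set G) = Nat.card (H ⊔ K : Subgroup G)) :
    ((H ⊔ K : Subgroup G) : Set G) = (H : Set G) * (K : Set G) := by
  symm
  apply Set.eq_of_subset_of_ncard_le (mul_subset_sup H K) _ (Set.toFinite _)
  rw [← Nat.card_coe_set_eq, ← Nat.card_coe_set_eq]
  exact h.ge

/-- `|H| * |K| ≤ |H ∩ K| * |H ⊔ K|`. -/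
theorem card_mul_card_le_card_inf_mul_card_sup [Finite G] (H K : Subgroup G) :
    Nat.card H * Nat.card K ≤ Nat.card (H ⊓ K : Subgroup G) * Nat.card (H ⊔ K : Subgroup G) := by
  rw [card_mul_card_eq_card_inf_mul_card_mul]
  exact Nat.mul_le_mul_left _ (card_mul_le_card_sup H K)

theorem centralizer_sup (H K : Subgroup G) :
    Subgroup.centralizer ((H ⊔ K : Subgroup G) : Set G) =
      Subgroup.centralizer (H : Set G) ⊓ Subgroup.centralizer (K : Set G) := by
  apply le_antisymm
  · exact le_inf (Subgroup.centralizer_le (SetLike.coe_subset_coe.mpr le_sup_left))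
      (Subgroup.centralizer_le (SetLike.coe_subset_coe.mpr le_sup_right))
  · rw [Subgroup.le_centralizer_iff]
    apply sup_le
    · rw [Subgroup.le_centralizer_iff]; exact inf_le_left
    · rw [Subgroup.le_centralizer_iff]; exact inf_le_right

theorem centralizer_sup_le_centralizer_inf (H K : Subgroup G) :
    Subgroup.centralizer (H : Set G) ⊔ Subgroup.centralizer (K : Set G) ≤
      Subgroup.centralizer ((H ⊓ K : Subgroup G) : Set G) :=
  sup_le (Subgroup.centralizer_le (SetLike.coe_subset_coe.mpr inf_le_left))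
    (Subgroup.centralizer_le (SetLike.coe_subset_coe.mpr inf_le_right))

theorem cd_arith (a b i j s ca cb ci cj cs M : ℕ) (hi : 0 < i) (hci : 0 < ci) (hM : 0 < M)
    (hs : 0 < s) (hcs : 0 < cs)
    (h1 : a * b = i * s) (h2 : s ≤ j) (h3 : ca * cb = ci * cs) (h4 : cs ≤ cj)
    (h5 : a * ca = M) (h6 : b * cb = M) (h7 : i * cj ≤ M) (h8 : j * ci ≤ M) :
    i * cj = M ∧ j * ci = M ∧ s = j ∧ cs = cj := by
  have e1 : M * M = (i * ci) * (s * cs) := by
    calc M * M = (a * ca) * (b * cb) := by rw [h5, h6]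
      _ = (a * b) * (ca * cb) := by ring
      _ = (i * s) * (ci * cs) := by rw [h1, h3]
      _ = (i * ci) * (s * cs) := by ring
  have e2 : (i * ci) * (s * cs) ≤ (i * ci) * (j * cj) :=
    Nat.mul_le_mul_left _ (Nat.mul_le_mul h2 h4)
  have e3 : (i * ci) * (j * cj) = (i * cj) * (j * ci) := by ring
  have e4 : (i * cj) * (j * ci) ≤ M * M := Nat.mul_le_mul h7 h8
  have e5 : (i * cj) * (j * ci) = M * M := le_antisymm e4 (by rw [← e3, e1]; exact e2)
  have e6 : (i * ci) * (s * cs) = (i * ci) * (j * cj) := le_antisymm e2 (by rw [e3, e5, e1])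
  have e7 : s * cs = j * cj := Nat.eq_of_mul_eq_mul_left (Nat.mul_pos hi hci) e6
  have r1 : i * cj = M := by
    by_contra hne
    have hlt : i * cj < M := lt_of_le_of_ne h7 hne
    have : (i * cj) * (j * ci) < M * M := by
      calc (i * cj) * (j * ci) ≤ (i * cj) * M := Nat.mul_le_mul_left _ h8
        _ < M * M := Nat.mul_lt_mul_of_pos_right hlt hM
    omega
  have r2 : j * ci = M := by
    by_contra hne
    have hlt : j * ci < M := lt_of_le_of_ne h8 hne
    have : (i * cj) * (j * ci) < M * M := by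
      calc (i * cj) * (j * ci) ≤ M * (j * ci) := Nat.mul_le_mul_right _ h7
        _ < M * M := Nat.mul_lt_mul_of_pos_left hlt hM
    omega
  have r3 : s = j := by
    by_contra hne
    have hlt : s < j := lt_of_le_of_ne h2 hne
    have : s * cs < j * cj := by
      calc s * cs < j * cs := Nat.mul_lt_mul_of_pos_right hlt hcs
        _ ≤ j * cj := Nat.mul_le_mul_left _ h4
    omega
  have r4 : cs = cj := by
    by_contra hne
    have hlt : cs < cj := lt_of_le_of_ne h4 hne
    have : s * cs < j * cj := by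
      calc s * cs < s * cj := Nat.mul_lt_mul_of_pos_left hlt hs
        _ ≤ j * cj := Nat.mul_le_mul_right _ h2
    omega
  exact ⟨r1, r2, r3, r4⟩

/-- The Chermak–Delgado measure `|H| * |C_G(H)|`. -/
noncomputable def cdMeasure (H : Subgroup G) : ℕ :=
  Nat.card H * Nat.card (Subgroup.centralizer (H : Set G))

/-- The core of the Chermak–Delgado argument. -/
theorem cd_core [Finite G] (H K : Subgroup G) (M : ℕ) (hM : ∀ X : Subgroup G, cdMeasure X ≤ M)
    (hH : cdMeasure H = M) (hK : cdMeasure K = M) :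
    cdMeasure (H ⊓ K) = M ∧ cdMeasure (H ⊔ K) = M ∧
      ((H ⊔ K : Subgroup G) : Set G) = (H : Set G) * (K : Set G) ∧
      ((Subgroup.centralizer ((H ⊓ K : Subgroup G) : Set G) : Subgroup G) : Set G) =
        (Subgroup.centralizer (H : Set G) : Set G) * (Subgroup.centralizer (K : Set G) : Set G) := by
  have hsub : (Subgroup.centralizer (H : Set G) : Set G) * (Subgroup.centralizer (K : Set G) : Set G) ⊆
      ((Subgroup.centralizer ((H ⊓ K : Subgroup G) : Set G) : Subgroup G) : Set G) :=
    (mul_subset_sup _ _).trans (SetLike.coe_subset_coe.mpr (centralizer_sup_le_centralizer_inf H K))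
  have hMpos : 0 < M := by
    rw [← hH]; exact Nat.mul_pos Nat.card_pos Nat.card_pos
  have hcspos : 0 < Nat.card ((Subgroup.centralizer (H : Set G) : Set G) *
      (Subgroup.centralizer (K : Set G) : Set G) : Set G) := by
    have : Nonempty ((Subgroup.centralizer (H : Set G) : Set G) *
      (Subgroup.centralizer (K : Set G) : Set G) : Set G) :=
      ⟨⟨1 * 1, Set.mul_mem_mul (Subgroup.one_mem _) (Subgroup.one_mem _)⟩⟩
    exact Nat.card_pos
  have hspos : 0 < Nat.card ((H : Set G) * (K : Set G) : Set G) := by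
    have : Nonempty ((H : Set G) * (K : Set G) : Set G) :=
      ⟨⟨1 * 1, Set.mul_mem_mul (Subgroup.one_mem _) (Subgroup.one_mem _)⟩⟩
    exact Nat.card_pos
  have h3 := card_mul_card_eq_card_inf_mul_card_mul (Subgroup.centralizer (H : Set G))
    (Subgroup.centralizer (K : Set G))
  rw [← centralizer_sup] at h3
  have h8 := hM (H ⊔ K)
  have h7 := hM (H ⊓ K)
  unfold cdMeasure at hH hK h7 h8
  obtain ⟨r1, r2, r3, r4⟩ := cd_arith _ _ _ _ _ _ _ _ _ _ M Nat.card_pos Nat.card_pos hMpos hspos hcspos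
    (card_mul_card_eq_card_inf_mul_card_mul H K) (card_mul_le_card_sup H K) h3
    (Nat.card_mono (Set.toFinite _) hsub) hH hK h7 h8
  refine ⟨r1, r2, sup_eq_mul_of_card_eq H K r3, ?_⟩
  symm
  apply Set.eq_of_subset_of_ncard_le hsub _ (Set.toFinite _)
  rw [← Nat.card_coe_set_eq, ← Nat.card_coe_set_eq]
  exact r4.ge

/-- Under the hypotheses of `cd_core`, `C(H ∩ K) = C(H) ⊔ C(K)` and `C(H) ⊔ C(K) = C(H) C(K)`. -/
theorem cd_centralizer_inf [Finite G] (H K : Subgroup G) (M : ℕ)
    (hM : ∀ X : Subgroup G, cdMeasure X ≤ M) (hH : cdMeasure H = M) (hK : cdMeasure K = M) :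
    Subgroup.centralizer ((H ⊓ K : Subgroup G) : Set G) =
        Subgroup.centralizer (H : Set G) ⊔ Subgroup.centralizer (K : Set G) ∧
      ((Subgroup.centralizer (H : Set G) ⊔ Subgroup.centralizer (K : Set G) : Subgroup G) : Set G) =
        (Subgroup.centralizer (H : Set G) : Set G) * (Subgroup.centralizer (K : Set G) : Set G) := by
  obtain ⟨-, -, -, h4⟩ := cd_core H K M hM hH hK
  have heq : Subgroup.centralizer ((H ⊓ K : Subgroup G) : Set G) =
      Subgroup.centralizer (H : Set G) ⊔ Subgroup.centralizer (K : Set G) := by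
    apply le_antisymm _ (centralizer_sup_le_centralizer_inf H K)
    rw [← SetLike.coe_subset_coe, h4]
    exact mul_subset_sup _ _
  exact ⟨heq, by rw [← heq, h4]⟩

/-- If `H` has maximal measure, then so has `C(H)`, and `H = C(C(H))`. -/
theorem cd_centralizer [Finite G] (H : Subgroup G) (M : ℕ)
    (hM : ∀ X : Subgroup G, cdMeasure X ≤ M) (hH : cdMeasure H = M) :
    cdMeasure (Subgroup.centralizer (H : Set G)) = M ∧
      H = Subgroup.centralizer ((Subgroup.centralizer (H : Set G) : Subgroup G) : Set G) := by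
  have hle : H ≤ Subgroup.centralizer ((Subgroup.centralizer (H : Set G) : Subgroup G) : Set G) := by
    rw [Subgroup.le_centralizer_iff]
  have hcard : Nat.card H ≤
      Nat.card (Subgroup.centralizer ((Subgroup.centralizer (H : Set G) : Subgroup G) : Set G)) :=
    Nat.card_mono (Set.toFinite _) (SetLike.coe_subset_coe.mpr hle)
  have h1 := hM (Subgroup.centralizer (H : Set G))
  unfold cdMeasure at hH h1 ⊢
  have hpos : 0 < Nat.card (Subgroup.centralizer (H : Set G)) := Nat.card_pos
  have h2 : Nat.card (Subgroup.centralizer (H : Set G)) * Nat.card H ≤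
      Nat.card (Subgroup.centralizer (H : Set G)) *
        Nat.card (Subgroup.centralizer ((Subgroup.centralizer (H : Set G) : Subgroup G) : Set G)) :=
    Nat.mul_le_mul_left _ hcard
  have h3 : Nat.card (Subgroup.centralizer (H : Set G)) *
        Nat.card (Subgroup.centralizer ((Subgroup.centralizer (H : Set G) : Subgroup G) : Set G)) = M := by
    apply le_antisymm h1
    rw [← hH, mul_comm]; exact h2
  refine ⟨h3, ?_⟩
  have h4 : Nat.card H =
      Nat.card (Subgroup.centralizer ((Subgroup.centralizer (H : Set G) : Subgroup G) : Set G)) := by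
    apply Nat.eq_of_mul_eq_mul_left hpos
    rw [h3, mul_comm, hH]
  exact Subgroup.eq_of_le_of_card_ge hle h4.ge

section prelude

variable (P : Type*) [Group P]

theorem bddAbove_centralizerProduct [Finite P] :
    BddAbove {k : ℕ | ∃ R : Subgroup P,
      Nat.card ↥R * Nat.card ↥(Subgroup.centralizer (R : Set P)) = k} := by
  refine ⟨Nat.card P * Nat.card P, ?_⟩
  rintro k ⟨R, rfl⟩
  exact Nat.mul_le_mul (Subgroup.card_le_card_group R) (Subgroup.card_le_card_group _)

theorem cdMeasure_le_max [Finite P] (X : Subgroup P) :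
    cdMeasure X ≤ Cfsg.maxCentralizerProduct P :=
  le_csSup (bddAbove_centralizerProduct P) ⟨X, rfl⟩

theorem isCentralizerLarge_iff (X : Subgroup P) :
    Cfsg.IsCentralizerLarge X ↔ cdMeasure X = Cfsg.maxCentralizerProduct P := Iff.rfl

/-- The maximum is attained. -/
theorem exists_isCentralizerLarge [Finite P] : ∃ X : Subgroup P, Cfsg.IsCentralizerLarge X := by
  have hne : {k : ℕ | ∃ R : Subgroup P,
      Nat.card ↥R * Nat.card ↥(Subgroup.centralizer (R : Set P)) = k}.Nonempty := ⟨_, ⊥, rfl⟩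
  obtain ⟨X, hX⟩ := Nat.sSup_mem hne (bddAbove_centralizerProduct P)
  exact ⟨X, hX⟩

end prelude

end Cfsg.Agent.Lib.Helper50
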