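import Mathlib
import Cfsg.Agent.Lib.Helper24.PFCycDefs
import Cfsg.Agent.Lib.Helper4.PFTypes

/-!
# PF sections 10-13 bookkeeping, module [MU-RES]: `μ_ω` restricted to `M'` depends only on `ω|W₂`
-/

set_option autoImplicit false
set_option linter.unusedSectionVars false

namespace Cfsg.Agent.Lib.Helper50.PFCyc

open Cfsg Cfsg.Agent.Lib.Helper4.PF Cfsg.Agent.Lib.Helper24.PFCyc
open scoped commutatorElement

universe u

variable {G : Type u} [Group G]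

theorem ebz_of_mem (H : Subgroup G) (θ : H → ℂ) {g : G} (hg : g ∈ H) :
    extendByZero H θ g = θ ⟨g, hg⟩ := by
  unfold extendByZero
  exact Subtype.val_injective.extend_apply θ 0 ⟨g, hg⟩

theorem ebz_of_not_mem (H : Subgroup G) (θ : H → ℂ) {g : G} (hg : g ∉ H) :
    extendByZero H θ g = 0 := by
  unfold extendByZero
  rw [Function.extend_apply']
  · rfl
  · rintro ⟨h, rfl⟩
    exact hg h.2

/-- Elements of the join of two elementwise commuting subgroups are products. -/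
theorem mem_sup_of_comm {H K : Subgroup G} (hc : ∀ h ∈ H, ∀ k ∈ K, h * k = k * h) {x : G}
    (hx : x ∈ H ⊔ K) : ∃ h ∈ H, ∃ k ∈ K, x = h * k := by
  let S : Subgroup G :=
    { carrier := {x | ∃ h ∈ H, ∃ k ∈ K, x = h * k}
      one_mem' := ⟨1, H.one_mem, 1, K.one_mem, by simp⟩
      mul_mem' := by
        rintro _ _ ⟨h, hh, k, hk, rfl⟩ ⟨h', hh', k', hk', rfl⟩
        refine ⟨h * h', H.mul_mem hh hh', k * k', K.mul_mem hk hk', ?_⟩
        have := hc h' hh' k hk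
        calc h * k * (h' * k') = h * (k * h') * k' := by group
          _ = h * (h' * k) * k' := by rw [this]
          _ = h * h' * (k * k') := by group
      inv_mem' := by
        rintro _ ⟨h, hh, k, hk, rfl⟩
        refine ⟨h⁻¹, H.inv_mem hh, k⁻¹, K.inv_mem hk, ?_⟩
        have := hc h hh k hk
        rw [this, mul_inv_rev] }
  have hle : H ⊔ K ≤ S :=
    sup_le (fun h hh => ⟨h, hh, 1, K.one_mem, by simp⟩) (fun k hk => ⟨1, H.one_mem, k, hk, by simp⟩)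
  exact hle hx

variable {M W₁ U W₂ : Subgroup G}

/-- `W₂ ≤ M'`. -/
theorem W₂_le_der (hP : IsTypePWith M W₁ U W₂) : W₂ ≤ ⁅M, M⁆ :=
  (hP.W₂_le.trans inf_le_left).trans hP.U_compl.1

/-- `W ∩ M' = W₂`. -/
theorem mem_W₂_of_mem_der (hP : IsTypePWith M W₁ U W₂) {w : G} (hw : w ∈ W₁ ⊔ W₂)
    (hwK : w ∈ ⁅M, M⁆) : w ∈ W₂ := by
  obtain ⟨a, ha, b, hb, rfl⟩ := mem_sup_of_comm hP.selfNormalizing.2.2.2.1 hw
  have hbK : b ∈ ⁅M, M⁆ := W₂_le_der hP hb
  have haK : a ∈ ⁅M, M⁆ := by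
    have : a = a * b * b⁻¹ := by group
    rw [this]
    exact Subgroup.mul_mem _ hwK (Subgroup.inv_mem _ hbK)
  have : a ∈ ⁅M, M⁆ ⊓ W₁ := Subgroup.mem_inf.2 ⟨haK, ha⟩
  rw [hP.W₁_compl.2.2.1, Subgroup.mem_bot] at this
  rw [this, one_mul]
  exact hb

/-- `M'` is normalized by `M`. -/
theorem conj_mem_der {x k : G} (hx : x ∈ M) (hk : k ∈ ⁅M, M⁆) (hkM : k ∈ M) : x⁻¹ * k * x ∈ ⁅M, M⁆ := by
  have h1 : x⁻¹ * k * x = ⁅x⁻¹, k⁆ * k := by
    rw [commutatorElement_def]; group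
  rw [h1]
  exact Subgroup.mul_mem _ (Subgroup.commutator_mem_commutator (M.inv_mem hx) hkM) hk

variable [Finite G] [Fintype M]

/-- MODULE [MU-RES] -/
theorem mu_res_eq {mu : WChar W₁ W₂ → (↥M → ℂ)} {dl : WChar W₁ W₂ → ℂ}
    (hP : IsTypePWith M W₁ U W₂) (md : MuData M W₁ W₂ mu dl)
    (ω ω' : WChar W₁ W₂) (h : ∀ w : ↥(W₁ ⊔ W₂), (w : G) ∈ W₂ → ω w = ω' w)
    (k : ↥M) (hk : (k : G) ∈ ⁅M, M⁆) : mu ω k = mu ω' k := by
  have h1 := congrFun (md.ind_sub ω ω' h) k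
  have h2 : indFun ((W₁ ⊔ W₂).subgroupOf M)
      (pullW M (fun w => ((ω w : ℂˣ) : ℂ) - ((ω' w : ℂˣ) : ℂ))) k = 0 := by
    unfold indFun
    rw [Finset.sum_eq_zero, mul_zero]
    intro x _
    by_cases hmem : x⁻¹ * k * x ∈ (W₁ ⊔ W₂).subgroupOf M
    · rw [ebz_of_mem _ _ hmem]
      unfold pullW
      have hW : ((x⁻¹ * k * x : ↥M) : G) ∈ W₁ ⊔ W₂ := Subgroup.mem_subgroupOf.1 hmem
      have hK : ((x⁻¹ * k * x : ↥M) : G) ∈ ⁅M, M⁆ := by
        have := conj_mem_der x.2 hk k.2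
        simpa using this
      have := h ⟨_, hW⟩ (mem_W₂_of_mem_der hP hW hK)
      simp only
      rw [this, sub_self]
    · exact ebz_of_not_mem _ _ hmem
  rw [h2] at h1
  have h3 : dl ω ≠ 0 := by
    rcases md.sign ω with h4 | h4 <;> rw [h4] <;> norm_num
  have h5 : (dl ω • (mu ω - mu ω')) k = dl ω * (mu ω k - mu ω' k) := by
    simp [Pi.smul_apply, Pi.sub_apply]
  rw [h5] at h1
  have h6 := (mul_eq_zero.1 h1.symm).resolve_left h3
  exact sub_eq_zero.1 h6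

end Cfsg.Agent.Lib.Helper50.PFCyc
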