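import Mathlib
import Cfsg.Prelude.Def_OddOrderLocal
import Cfsg.Agent.Lib.Helper4.PFNineA
import Cfsg.Agent.Lib.Helper71.SylowNumber

set_option autoImplicit false

/-!
PROJECT PF, Peterfalvi section 11, MODULE (E3g) (board #2942): the group-theoretic half of
Peterfalvi (11.3)/(11.5)/(11.6) for a type-P subgroup `M` with `U ≠ 1`, `|W₁| = q` prime, `|M|` odd:
if `|M' : M''| ≤ 2 q |U : C_U(H)| + 1` (with `H = M_F`) then `[H, U] = H`, `C_U(H) = U'`,
`C_H(U) ≤ H'` and `M'' = H C_U(H)`.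

Main result: `typeIII_IV_facts_of_index`.
-/

namespace Cfsg.Agent.Lib.Helper50.PF11

open Cfsg Cfsg.Agent.Lib.Helper4.PF9 Cfsg.Agent.Lib.Helper23
open scoped commutatorElement

variable {G : Type*} [Group G]

/-- `C_U(M_F)`. -/
abbrev CU (M U : Subgroup G) : Subgroup G := U ⊓ Subgroup.centralizer (fittingHallOf M : Set G)

/-- `M'` as a subgroup of `M`. -/
abbrev derM (M : Subgroup G) : Subgroup ↥M := (⁅M, M⁆).subgroupOf M

/-- One-sided conjugation closure gives normalizer membership. -/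
theorem le_normalizer_of_conj_mem {X A : Subgroup G}
    (h : ∀ x ∈ X, ∀ a ∈ A, x * a * x⁻¹ ∈ A) : X ≤ Subgroup.normalizer (A : Set G) := by
  intro x hx
  rw [Subgroup.mem_normalizer_iff]
  intro a
  constructor
  · exact h x hx a
  · intro ha
    have := h x⁻¹ (X.inv_mem hx) _ ha
    simpa [mul_assoc] using this

theorem conj_mem_of_le_normalizer {X A : Subgroup G} (h : X ≤ Subgroup.normalizer (A : Set G))
    {x a : G} (hx : x ∈ X) (ha : a ∈ A) : x * a * x⁻¹ ∈ A :=
  (Subgroup.mem_normalizer_iff.1 (h hx) a).1 ha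

/-- An element normalizing `A` and `B` normalizes `⁅A, B⁆`. -/
theorem conj_mem_commutator {A B : Subgroup G} {m : G}
    (hA : ∀ a ∈ A, m * a * m⁻¹ ∈ A) (hB : ∀ b ∈ B, m * b * m⁻¹ ∈ B) :
    ∀ n ∈ ⁅A, B⁆, m * n * m⁻¹ ∈ ⁅A, B⁆ := by
  have h : ⁅A, B⁆ ≤ (⁅A, B⁆).comap (MulAut.conj m).toMonoidHom := by
    rw [Subgroup.commutator_le]
    intro a ha b hb
    rw [Subgroup.mem_comap]
    change m * ⁅a, b⁆ * m⁻¹ ∈ _
    rw [conjugate_commutatorElement]
    exact Subgroup.commutator_mem_commutator (hA a ha) (hB b hb)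
  intro n hn
  exact h hn

/-- A solvable group which is generated by its commutator subgroup and a normal subgroup `B`
equals `B`. -/
theorem eq_top_of_commutator_sup_eq_top {X : Type*} [Group X] [Group.IsSolvable X] (B : Subgroup X)
    [B.Normal] (h : _root_.commutator X ⊔ B = ⊤) : B = ⊤ := by
  by_contra hne
  have hnt : Nontrivial (X ⧸ B) := by
    rw [← not_subsingleton_iff_nontrivial]
    intro hss
    exact hne (QuotientGroup.subgroup_eq_top_of_subsingleton _ hss)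
  have hlt := Group.IsSolvable.commutator_lt_top_of_nontrivial (X ⧸ B)
  apply hlt.ne
  have hsurj := QuotientGroup.mk'_surjective B
  have h1 : (_root_.commutator X).map (QuotientGroup.mk' B) = _root_.commutator (X ⧸ B) := by
    rw [commutator_def, commutator_def, Subgroup.map_commutator,
      Subgroup.map_top_of_surjective _ hsurj]
  rw [← h1]
  have h2 : (⊤ : Subgroup X).map (QuotientGroup.mk' B) = ⊤ :=
    Subgroup.map_top_of_surjective _ hsurj
  rw [← h2, ← h, Subgroup.map_sup, QuotientGroup.map_mk'_self, sup_bot_eq]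

theorem eq_of_le_commutator_sup {H B : Subgroup G} [Group.IsSolvable ↥H] (hBH : B ≤ H)
    (hn : H ≤ Subgroup.normalizer (B : Set G)) (h : H ≤ ⁅H, H⁆ ⊔ B) : B = H := by
  have hnorm : (B.subgroupOf H).Normal :=
    (Subgroup.normal_subgroupOf_iff_le_normalizer hBH).2 hn
  have key : _root_.commutator ↥H ⊔ B.subgroupOf H = ⊤ := by
    rw [eq_top_iff, ← Subgroup.map_le_map_iff_of_injective H.subtype_injective, Subgroup.map_sup,
      Subgroup.map_subtype_commutator, Subgroup.map_subgroupOf_eq_of_le hBH,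
      ← MonoidHom.range_eq_map, Subgroup.range_subtype]
    exact h
  have := eq_top_of_commutator_sup_eq_top (B.subgroupOf H) key
  rw [Subgroup.subgroupOf_eq_top] at this
  exact le_antisymm hBH this

/-- If `u = h * c` with `h ∈ H`, `c` centralizing `H`, and the order of `u` is prime to `|H|`,
then `u` centralizes `H`. -/
theorem mem_centralizer_of_mul_of_coprime [Finite G] {H : Subgroup G} {u h c : G} (hh : h ∈ H)
    (hc : c ∈ Subgroup.centralizer (H : Set G)) (hu : u = h * c)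
    (hcop : (Nat.card H).Coprime (orderOf u)) : u ∈ Subgroup.centralizer (H : Set G) := by
  have hcomm : Commute h c := (Subgroup.mem_centralizer_iff.1 hc h hh)
  have h1 : u ^ Nat.card H = c ^ Nat.card H := by
    rw [hu, hcomm.mul_pow]
    have : h ^ Nat.card H = 1 := by
      have := pow_card_eq_one' (G := ↥H) (x := ⟨h, hh⟩)
      exact congrArg Subtype.val this
    rw [this, one_mul]
  obtain ⟨m, hm⟩ := exists_pow_eq_self_of_coprime hcop
  rw [← hm, h1]
  exact Subgroup.pow_mem _ (Subgroup.pow_mem _ hc _) _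

/-- Coprime action: if `U` normalizes `H`, `(|H|, |U|) = 1` and `H = [H, U]`, then
`C_H(U) ≤ H'`. -/
theorem inf_centralizer_le_commutator_of_coprime [Finite G] {H U : Subgroup G}
    (hUH : U ≤ Subgroup.normalizer (H : Set G))
    (hcop : (Nat.card H).Coprime (Nat.card U)) (hHU : H ≤ ⁅H, U⁆) :
    H ⊓ Subgroup.centralizer (U : Set G) ≤ ⁅H, H⁆ := by
  classical
  have : Fintype ↥U := Fintype.ofFinite _
  let c : ↥U → ↥H → ↥H := fun u h =>
    ⟨u * h * (u : G)⁻¹, (Subgroup.mem_normalizer_iff.1 (hUH u.2) h).1 h.2⟩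
  have hc_mul : ∀ u a b, c u (a * b) = c u a * c u b := by
    intro u a b
    apply Subtype.ext
    simp [c, mul_assoc]
  have hc_comp : ∀ u v a, c u (c v a) = c (u * v) a := by
    intro u v a
    apply Subtype.ext
    simp [c, mul_assoc]
  let Φ : ↥H →* Abelianization ↥H :=
    MonoidHom.mk' (fun h => ∏ u : ↥U, Abelianization.of (c u h)) (by
      intro a b
      rw [← Finset.prod_mul_distrib]
      apply Finset.prod_congr rfl
      intro u _
      rw [hc_mul, map_mul])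
  have hΦ : ∀ h, Φ h = ∏ u : ↥U, Abelianization.of (c u h) := fun h => rfl
  have hinv : ∀ (v : ↥U) (h : ↥H), Φ (c v h) = Φ h := by
    intro v h
    rw [hΦ, hΦ]
    apply Fintype.prod_equiv (Equiv.mulRight v)
    intro u
    rw [hc_comp]
    rfl
  -- `⁅H, U⁆` lies in the kernel
  have hker : ⁅H, U⁆ ≤ Φ.ker.map H.subtype := by
    rw [Subgroup.commutator_le]
    intro h hh u hu
    refine ⟨⟨h, hh⟩ * c ⟨u, hu⟩ (⟨h, hh⟩⁻¹), ?_, ?_⟩
    · change _ ∈ Φ.ker
      rw [MonoidHom.mem_ker, map_mul, hinv, ← map_mul, mul_inv_cancel, map_one]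
    · simp [c, commutatorElement_def, mul_assoc]
  intro x hx
  have hxH : x ∈ H := hx.1
  obtain ⟨y, hy, hyx⟩ := hker (hHU hxH)
  have hy' : y = ⟨x, hxH⟩ := Subtype.ext hyx
  subst hy'
  have hfix : ∀ u : ↥U, c u ⟨x, hxH⟩ = ⟨x, hxH⟩ := by
    intro u
    apply Subtype.ext
    have := Subgroup.mem_centralizer_iff.1 hx.2 u u.2
    change (u : G) * x * (u : G)⁻¹ = x
    rw [this]; group
  have h1 : Φ ⟨x, hxH⟩ = Abelianization.of (⟨x, hxH⟩ ^ Nat.card U) := by
    rw [hΦ, map_pow]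
    simp [hfix, Nat.card_eq_fintype_card]
  have h2 : (⟨x, hxH⟩ : ↥H) ^ Nat.card U ∈ _root_.commutator ↥H := by
    rw [← Abelianization.ker_of, MonoidHom.mem_ker, ← h1]
    exact hy
  have h3 : x ^ Nat.card U ∈ ⁅H, H⁆ := by
    rw [← Subgroup.map_subtype_commutator]
    exact ⟨_, h2, rfl⟩
  have hcop' : (Nat.card U).Coprime (orderOf x) := by
    apply Nat.Coprime.coprime_dvd_right _ hcop.symm
    have := orderOf_dvd_natCard (⟨x, hxH⟩ : ↥H)
    rwa [Subgroup.orderOf_mk] at this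
  obtain ⟨m, hm⟩ := exists_pow_eq_self_of_coprime hcop'
  rw [← hm]
  exact Subgroup.pow_mem _ h3 _


/-! ### Abstract semidirect-product lemmas: `K = H U`, `H ∩ U = 1`, `K` normalizes `H` -/

section semidirect

variable {H U K : Subgroup G}

theorem comm_HK_le (hKH : K ≤ Subgroup.normalizer (H : Set G)) : ⁅H, K⁆ ≤ H :=
  Subgroup.le_normalizer_iff_commutator_le_left.1 hKH

/-- `K' ≤ [H, K] U'`. -/
theorem der_le_sup (hc : IsComplIn H U K) (hKH : K ≤ Subgroup.normalizer (H : Set G)) :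
    ⁅K, K⁆ ≤ ⁅H, K⁆ ⊔ ⁅U, U⁆ := by
  have hNH : ⁅H, K⁆ ≤ H := comm_HK_le hKH
  have hLK : ⁅H, K⁆ ⊔ ⁅U, U⁆ ≤ K :=
    sup_le (hNH.trans hc.1) ((Subgroup.commutator_le_self U).trans hc.2.1)
  have hconj : ∀ h ∈ H, ∀ x ∈ ⁅H, K⁆ ⊔ ⁅U, U⁆, h * x * h⁻¹ ∈ ⁅H, K⁆ ⊔ ⁅U, U⁆ := by
    intro h hh x hx
    have e : h * x * h⁻¹ = ⁅h, x⁆ * x := by rw [commutatorElement_def]; group
    rw [e]
    exact mul_mem (Subgroup.mem_sup_left (Subgroup.commutator_mem_commutator hh (hLK hx))) hx
  rw [Subgroup.commutator_le]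
  intro k1 hk1 k2 hk2
  obtain ⟨h1, hh1, u1, hu1, rfl⟩ := hc.2.2.2 k1 hk1
  obtain ⟨h2, hh2, u2, hu2, rfl⟩ := hc.2.2.2 k2 hk2
  rw [commutatorElement_mul_left_eq_conj_mul]
  refine mul_mem (hconj h1 hh1 _ ?_)
    (Subgroup.mem_sup_left (Subgroup.commutator_mem_commutator hh1 hk2))
  rw [commutatorElement_mul_right_eq_mul_conj]
  have e : ⁅u1, h2⁆ * h2 * ⁅u1, u2⁆ * h2⁻¹ = ⁅u1, h2⁆ * (h2 * ⁅u1, u2⁆ * h2⁻¹) := by group
  rw [e]
  refine mul_mem ?_
    (hconj h2 hh2 _ (Subgroup.mem_sup_right (Subgroup.commutator_mem_commutator hu1 hu2)))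
  rw [← commutatorElement_inv]
  exact inv_mem (Subgroup.mem_sup_left (Subgroup.commutator_mem_commutator hh2 (hc.2.1 hu1)))

/-- `K' = [H, K] U'` with `[H, K] ∩ U' = 1`. -/
theorem isComplIn_der (hc : IsComplIn H U K) (hKH : K ≤ Subgroup.normalizer (H : Set G)) :
    IsComplIn ⁅H, K⁆ ⁅U, U⁆ ⁅K, K⁆ := by
  have hNH : ⁅H, K⁆ ≤ H := comm_HK_le hKH
  refine ⟨Subgroup.commutator_mono hc.1 le_rfl, Subgroup.commutator_mono hc.2.1 hc.2.1, ?_, ?_⟩
  · rw [eq_bot_iff, ← hc.2.2.1]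
    exact inf_le_inf hNH (Subgroup.commutator_le_self U)
  · intro m hm
    have hm' := der_le_sup hc hKH hm
    have hnorm : ⁅U, U⁆ ≤ Subgroup.normalizer ((⁅H, K⁆ : Subgroup G) : Set G) :=
      ((Subgroup.commutator_le_self U).trans hc.2.1).trans
        (Subgroup.normalizer_commutator_ge_right H K)
    have h := Subgroup.coe_mul_of_right_le_normalizer_left ⁅H, K⁆ ⁅U, U⁆ hnorm
    have hx' : m ∈ ((⁅H, K⁆ ⊔ ⁅U, U⁆ : Subgroup G) : Set G) := hm'
    rw [h] at hx'
    obtain ⟨n, hn, u, hu, rfl⟩ := hx'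
    exact ⟨n, hn, u, hu, rfl⟩

/-- `H ∩ K' = [H, K]`. -/
theorem H_inf_der_le (hc : IsComplIn H U K) (hKH : K ≤ Subgroup.normalizer (H : Set G)) :
    H ⊓ ⁅K, K⁆ ≤ ⁅H, K⁆ := by
  have hNH : ⁅H, K⁆ ≤ H := comm_HK_le hKH
  intro x hx
  obtain ⟨n, hn, u, hu, rfl⟩ := (isComplIn_der hc hKH).2.2.2 x hx.2
  have hu1 : u ∈ H ⊓ U := by
    refine ⟨?_, Subgroup.commutator_le_self U hu⟩
    change u ∈ H
    have e : u = n⁻¹ * (n * u) := by group
    rw [e]
    exact H.mul_mem (H.inv_mem (hNH hn)) hx.1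
  rw [hc.2.2.1, Subgroup.mem_bot] at hu1
  rw [hu1, mul_one]
  exact hn

/-- `[H, K] ≤ H' [H, U]`. -/
theorem comm_HK_le_sup (hc : IsComplIn H U K) : ⁅H, K⁆ ≤ ⁅H, H⁆ ⊔ ⁅H, U⁆ := by
  rw [Subgroup.commutator_le]
  intro h hh k hk
  obtain ⟨h', hh', u, hu, rfl⟩ := hc.2.2.2 k hk
  rw [commutatorElement_mul_right_eq_mul_conj]
  have e : ⁅h, h'⁆ * h' * ⁅h, u⁆ * h'⁻¹ = ⁅h, h'⁆ * (h' * ⁅h, u⁆ * h'⁻¹) := by group
  rw [e]
  refine mul_mem (Subgroup.mem_sup_left (Subgroup.commutator_mem_commutator hh hh'))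
    (Subgroup.mem_sup_right ?_)
  exact conj_mem_of_le_normalizer (Subgroup.normalizer_commutator_ge_left H U) hh'
    (Subgroup.commutator_mem_commutator hh hu)

end semidirect

/-! ### Arithmetic -/

theorem eq_one_or_ge_of_modEq {q x : ℕ} (hqo : Odd q) (hxo : Odd x) (hx : x ≡ 1 [MOD q]) :
    x = 1 ∨ 2 * q + 1 ≤ x := by
  by_cases h1 : x = 1
  · exact Or.inl h1
  · right
    have hx1 : 1 ≤ x := hxo.pos
    have hd : q ∣ x - 1 := (Nat.modEq_iff_dvd' hx1).1 hx.symm
    have h2 : 2 ∣ x - 1 := even_iff_two_dvd.1 (Nat.Odd.sub_odd hxo odd_one)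
    have hcop : Nat.Coprime 2 q := (Nat.coprime_two_left).2 hqo
    have h3 : 2 * q ∣ x - 1 := hcop.mul_dvd_of_dvd_of_dvd h2 hd
    have hpos : 0 < x - 1 := by omega
    have := Nat.le_of_dvd hpos h3
    omega

theorem eq_one_of_index_le {q x y u : ℕ} (hqo : Odd q) (hxo : Odd x) (hyo : Odd y)
    (hx : x ≡ 1 [MOD q]) (hy : y ≡ 1 [MOD q]) (hu : 2 ≤ u)
    (h : x * y * u ≤ 2 * q * u + 1) : x = 1 ∧ y = 1 := by
  have hx1 : 1 ≤ x := hxo.pos
  have hy1 : 1 ≤ y := hyo.pos
  have key : x * y < 2 * q + 1 := by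
    by_contra hge
    push Not at hge
    have : (2 * q + 1) * u ≤ x * y * u := Nat.mul_le_mul_right u hge
    nlinarith
  constructor
  · rcases eq_one_or_ge_of_modEq hqo hxo hx with h1 | h1
    · exact h1
    · exfalso
      have : x * 1 ≤ x * y := Nat.mul_le_mul_left x hy1
      omega
  · rcases eq_one_or_ge_of_modEq hqo hyo hy with h1 | h1
    · exact h1
    · exfalso
      have : 1 * y ≤ x * y := Nat.mul_le_mul_right y hx1
      omega

/-! ### The main theorem -/

section main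

variable [Finite G] {M W₁ U W₂ : Subgroup G}

/-- **Peterfalvi (11.3)/(11.5)/(11.6), group-theoretic half** (module (E3g) of board #2942). -/
theorem typeIII_IV_facts_of_index (hP : IsTypePWith M W₁ U W₂) (hU : U ≠ ⊥)
    (hq : (Nat.card W₁).Prime) (hodd : Odd (Nat.card M))
    (hidx : (⁅⁅M, M⁆, ⁅M, M⁆⁆).relIndex ⁅M, M⁆ ≤
      2 * Nat.card W₁ * (CU M U).relIndex U + 1) :
    ⁅fittingHallOf M, U⁆ = fittingHallOf M ∧ CU M U = ⁅U, U⁆ ∧
      fittingHallOf M ⊓ Subgroup.centralizer (U : Set G) ≤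
        ⁅fittingHallOf M, fittingHallOf M⁆ ∧
      ⁅⁅M, M⁆, ⁅M, M⁆⁆ = fittingHallOf M ⊔ CU M U := by
  classical
  set H := fittingHallOf M with hHdef
  set K := ⁅M, M⁆ with hKdef
  have hc : IsComplIn H U K := hP.U_compl
  have hHK : H ≤ K := hc.1
  have hUK : U ≤ K := hc.2.1
  have hKM : K ≤ M := der_le hP
  have hHM : H ≤ M := fittingHallOf_le M
  have hUM : U ≤ M := U_le hP
  have hW₁M : W₁ ≤ M := W₁_le hP
  have hMH : M ≤ Subgroup.normalizer (H : Set G) :=
    le_normalizer_of_conj_mem (fun m hm h hh => conj_mem_fittingHallOf M hm hh)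
  have hMK : M ≤ Subgroup.normalizer (K : Set G) := Subgroup.normalizer_commutator_ge_left M M
  have hKH : K ≤ Subgroup.normalizer (H : Set G) := hKM.trans hMH
  have hUH : U ≤ Subgroup.normalizer (H : Set G) := hUM.trans hMH
  set N := ⁅H, K⁆ with hNdef
  set U' := ⁅U, U⁆ with hU'def
  have hNH : N ≤ H := comm_HK_le hKH
  have hU'U : U' ≤ U := Subgroup.commutator_le_self U
  have hcd : IsComplIn N U' ⁅K, K⁆ := isComplIn_der hc hKH
  -- normalizing facts
  have hMN : M ≤ Subgroup.normalizer (N : Set G) :=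
    le_normalizer_of_conj_mem (fun m hm n hn =>
      conj_mem_commutator (fun a ha => conj_mem_of_le_normalizer hMH hm ha)
        (fun b hb => conj_mem_of_le_normalizer hMK hm hb) n hn)
  have hWU' : W₁ ≤ Subgroup.normalizer (U' : Set G) :=
    le_normalizer_of_conj_mem (fun w hw n hn =>
      conj_mem_commutator (fun a ha => conj_mem_of_le_normalizer hP.U_normal hw ha)
        (fun b hb => conj_mem_of_le_normalizer hP.U_normal hw hb) n hn)
  have hWC : W₁ ≤ Subgroup.normalizer ((CU M U : Subgroup G) : Set G) := by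
    apply le_normalizer_of_conj_mem
    intro w hw c hc'
    refine ⟨conj_mem_of_le_normalizer hP.U_normal hw hc'.1, ?_⟩
    change w * c * w⁻¹ ∈ Subgroup.centralizer (H : Set G)
    rw [Subgroup.mem_centralizer_iff]
    intro h hh
    have h1 : w⁻¹ * h * w ∈ H := by
      have := conj_mem_of_le_normalizer hMH (M.inv_mem (hW₁M hw)) hh
      simpa using this
    have h2 := Subgroup.mem_centralizer_iff.1 hc'.2 _ h1
    calc h * (w * c * w⁻¹) = w * ((w⁻¹ * h * w) * c) * w⁻¹ := by group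
      _ = w * (c * (w⁻¹ * h * w)) * w⁻¹ := by rw [h2]
      _ = w * c * w⁻¹ * h := by group
  -- cardinalities
  have hcardK : Nat.card K = Nat.card H * Nat.card U := card_of_isComplIn hc
  have hcardM : Nat.card M = Nat.card K * Nat.card W₁ := card_of_isComplIn hP.W₁_compl
  have hcardK' : Nat.card ↥⁅K, K⁆ = Nat.card N * Nat.card U' := card_of_isComplIn hcd
  have hqK : (Nat.card W₁).Coprime (Nat.card K) := by
    have h1 := card_mul_relIndex_of_le hW₁M
    have h2 : W₁.relIndex M = Nat.card K := by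
      have : Nat.card W₁ * W₁.relIndex M = Nat.card W₁ * Nat.card K := by
        rw [h1, hcardM, mul_comm]
      exact Nat.eq_of_mul_eq_mul_left Nat.card_pos this
    rw [← h2]
    exact hP.W₁_hall
  have hcopHU : (Nat.card H).Coprime (Nat.card U) :=
    (coprime_H_UW₁ hP).coprime_dvd_right (Subgroup.card_dvd_of_le le_sup_left)
  -- congruences mod `q`
  have : Fact (Nat.card W₁).Prime := ⟨hq⟩
  have hpg : IsPGroup (Nat.card W₁) W₁ := IsPGroup.of_card (n := 1) (pow_one _).symm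
  have hmodH := Cfsg.Agent.Lib.Helper71.card_modEq_card_inf_centralizer W₁ H hpg
    (hW₁M.trans hMH)
  rw [H_inf_centralizer_W₁ hP] at hmodH
  have hNW : N ⊓ Subgroup.centralizer (W₁ : Set G) = W₂ := by
    apply le_antisymm
    · rw [← H_inf_centralizer_W₁ hP]
      exact inf_le_inf_right _ hNH
    · refine le_inf ?_ ?_
      · exact (hP.W₂_le).trans (H_inf_der_le hc hKH)
      · rw [← H_inf_centralizer_W₁ hP]
        exact inf_le_right
  have hmodN := Cfsg.Agent.Lib.Helper71.card_modEq_card_inf_centralizer W₁ N hpg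
    (hW₁M.trans hMN)
  rw [hNW] at hmodN
  have hqN : (Nat.card W₁).Coprime (Nat.card N) :=
    hqK.coprime_dvd_right (Subgroup.card_dvd_of_le (hNH.trans hHK))
  have hxcard : Nat.card N * N.relIndex H = Nat.card H := card_mul_relIndex_of_le hNH
  have hxmod : N.relIndex H ≡ 1 [MOD Nat.card W₁] := by
    apply Nat.ModEq.cancel_left_of_coprime (c := Nat.card N) hqN
    rw [hxcard, mul_one]
    exact hmodH.trans hmodN.symm
  obtain ⟨w, hw1⟩ := (Subgroup.ne_bot_iff_exists_ne_one (H := W₁)).1 hP.W₁_ne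
  have hw1' : (w : G) ≠ 1 := fun h0 => hw1 (Subtype.ext h0)
  have hUbot : ∀ V : Subgroup G, V ≤ U → V ⊓ Subgroup.centralizer (W₁ : Set G) = ⊥ := by
    intro V hVU
    rw [eq_bot_iff]
    intro c hc'
    rw [Subgroup.mem_bot]
    exact W₁_fpf_U hP w.2 hw1' (hVU hc'.1) (Subgroup.mem_centralizer_iff.1 hc'.2 w w.2)
  have hmodC := Cfsg.Agent.Lib.Helper71.card_modEq_card_inf_centralizer W₁ (CU M U) hpg hWC
  rw [hUbot _ inf_le_left, Subgroup.card_bot] at hmodC
  have hmodU' := Cfsg.Agent.Lib.Helper71.card_modEq_card_inf_centralizer W₁ U' hpg hWU'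
  rw [hUbot _ hU'U, Subgroup.card_bot] at hmodU'
  -- `U' ≤ C_U(H)`
  have hU'C : U' ≤ CU M U := by
    intro u hu
    refine ⟨hU'U hu, ?_⟩
    have h1 : u ∈ ⁅K, K⁆ := Subgroup.commutator_mono hUK hUK hu
    have h2 := hP.derived_two_le h1
    have hnorm : M ⊓ Subgroup.centralizer (H : Set G) ≤ Subgroup.normalizer (H : Set G) :=
      inf_le_left.trans hMH
    have h3 := Subgroup.coe_mul_of_right_le_normalizer_left H
      (M ⊓ Subgroup.centralizer (H : Set G)) hnorm
    have h4 : u ∈ ((H ⊔ (M ⊓ Subgroup.centralizer (H : Set G)) : Subgroup G) : Set G) := h2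
    rw [h3] at h4
    obtain ⟨h, hh, c, hc', rfl⟩ := h4
    apply mem_centralizer_of_mul_of_coprime hh hc'.2 rfl
    apply Nat.Coprime.coprime_dvd_right _ hcopHU
    have := orderOf_dvd_natCard (⟨h * c, hU'U hu⟩ : ↥U)
    rwa [Subgroup.orderOf_mk] at this
  have hqU' : (Nat.card W₁).Coprime (Nat.card U') :=
    hqK.coprime_dvd_right (Subgroup.card_dvd_of_le (hU'U.trans hUK))
  have hycard : Nat.card U' * U'.relIndex (CU M U) = Nat.card (CU M U) :=
    card_mul_relIndex_of_le hU'C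
  have hymod : U'.relIndex (CU M U) ≡ 1 [MOD Nat.card W₁] := by
    apply Nat.ModEq.cancel_left_of_coprime (c := Nat.card U') hqU'
    rw [hycard, mul_one]
    exact hmodC.trans hmodU'.symm
  have hucard : Nat.card (CU M U) * (CU M U).relIndex U = Nat.card U :=
    card_mul_relIndex_of_le inf_le_left
  have hrcard : Nat.card ↥⁅K, K⁆ * (⁅K, K⁆).relIndex K = Nat.card K :=
    card_mul_relIndex_of_le (Subgroup.commutator_le_self K)
  have hr : (⁅K, K⁆).relIndex K =
      N.relIndex H * U'.relIndex (CU M U) * (CU M U).relIndex U := by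
    have hpos : 0 < Nat.card N * Nat.card U' := Nat.mul_pos Nat.card_pos Nat.card_pos
    apply Nat.eq_of_mul_eq_mul_left hpos
    calc Nat.card N * Nat.card U' * (⁅K, K⁆).relIndex K = Nat.card K := by
          rw [← hcardK', hrcard]
      _ = (Nat.card N * N.relIndex H) *
            ((Nat.card U' * U'.relIndex (CU M U)) * (CU M U).relIndex U) := by
          rw [hxcard, hycard, hucard, hcardK]
      _ = _ := by ring
  -- parities
  have hxo : Odd (N.relIndex H) :=
    hodd.of_dvd_nat ((Subgroup.relIndex_dvd_card N H).trans (Subgroup.card_dvd_of_le hHM))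
  have hyo : Odd (U'.relIndex (CU M U)) :=
    hodd.of_dvd_nat ((Subgroup.relIndex_dvd_card U' (CU M U)).trans
      (Subgroup.card_dvd_of_le (inf_le_left.trans hUM)))
  have hqo : Odd (Nat.card W₁) := hodd.of_dvd_nat (Subgroup.card_dvd_of_le hW₁M)
  -- `|U : C_U(H)| ≥ 2`
  have hu2 : 2 ≤ (CU M U).relIndex U := by
    have h0 : (CU M U).relIndex U ≠ 0 := by
      intro h0
      rw [h0, mul_zero] at hucard
      exact (Nat.card_pos (α := ↥U)).ne hucard
    have h1 : (CU M U).relIndex U ≠ 1 := by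
      intro h1
      rw [Subgroup.relIndex_eq_one] at h1
      exact (Cfsg.Agent.S1388.result M W₁ U W₂ hP).2 hU (fun u hu => (h1 hu).2)
    omega
  obtain ⟨hx1, hy1⟩ := eq_one_of_index_le hqo hxo hyo hxmod hymod hu2
    (by rw [← hr]; exact hidx)
  have hHN : H ≤ N := Subgroup.relIndex_eq_one.1 hx1
  have hCU' : CU M U ≤ U' := Subgroup.relIndex_eq_one.1 hy1
  have hB : ⁅H, U⁆ = H := by
    have := H_isSolvable M
    apply eq_of_le_commutator_sup (Subgroup.le_normalizer_iff_commutator_le_left.1 hUH)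
      (Subgroup.normalizer_commutator_ge_left H U)
    exact hHN.trans (comm_HK_le_sup hc)
  refine ⟨hB, le_antisymm hCU' hU'C, ?_, ?_⟩
  · exact inf_centralizer_le_commutator_of_coprime hUH hcopHU hB.ge
  · apply le_antisymm
    · calc ⁅K, K⁆ ≤ N ⊔ U' := der_le_sup hc hKH
        _ ≤ H ⊔ CU M U := sup_le_sup hNH hU'C
    · calc H ⊔ CU M U ≤ N ⊔ U' := sup_le_sup hHN hCU'
        _ ≤ ⁅K, K⁆ := sup_le hcd.1 hcd.2.1

end main

end Cfsg.Agent.Lib.Helper50.PF11
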