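import Mathlib
import Cfsg.Prelude.Def_OddOrderLocal
import Cfsg.Agent.Lib.Helper34.SigmaFusion
import Cfsg.Agent.Lib.Helper33.TransferControl2
import Cfsg.Agent.Lib.Helper54.Bender
import Cfsg.Agent.Lib.Helper64.PiCore
import Cfsg.Agent.S1451

/-!
# Bender–Glauberman Theorem 10.2 (a), (b): the subgroup `M_α` (helper50 library)

Conditional on the rank-three part of the Uniqueness Theorem (`UniqThree`).
-/

set_option autoImplicit false

namespace Cfsg.Agent.Lib.Helper50

open Cfsg

/-- the rank `≥ 3` part of the Uniqueness Theorem, as a hypothesis -/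
def UniqThree (G : Type*) [Group G] : Prop :=
  ∀ K : Subgroup G, K ≠ ⊤ → ¬ RankLE 1 K → ¬ RankLE 2 K → InUniqueMaximal K

section Lift

variable {M : Type*} [Group M] [Finite M]

/-- An elementary abelian `q`-subgroup of `M ⧸ N`, `N` a normal `q'`-subgroup, lifts to an elementary abelian
`q`-subgroup of `M` of the same order. -/
theorem exists_lift_elemAb (N : Subgroup M) [N.Normal] (q : ℕ) [hq : Fact q.Prime]
    (hN : (Nat.card N).Coprime q) (A : Subgroup (M ⧸ N)) (hAc : IsMulCommutative A)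
    (hAe : ∀ a ∈ A, a ^ q = 1) :
    ∃ B : Subgroup M, IsMulCommutative B ∧ (∀ b ∈ B, b ^ q = 1) ∧ Nat.card B = Nat.card A := by
  set H := A.comap (QuotientGroup.mk' N) with hH
  have hAp : IsPGroup q A := by
    intro a
    refine ⟨1, ?_⟩
    apply Subtype.ext
    simpa using hAe a.1 a.2
  obtain ⟨k, hk⟩ := IsPGroup.iff_card.mp hAp
  have hcardH : Nat.card H = Nat.card N * q ^ k := by
    rw [hH, Cfsg.Agent.Lib.Helper64.card_comap_mk', hk]
  obtain ⟨Q⟩ : Nonempty (Sylow q H) := inferInstance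
  have hQcard : Nat.card Q = q ^ k := by
    rw [Sylow.card_eq_multiplicity, hcardH]
    congr 1
    rw [Nat.factorization_mul (Nat.card_pos.ne') (pow_ne_zero _ hq.out.ne_zero)]
    simp only [Finsupp.coe_add, Pi.add_apply]
    rw [Nat.factorization_eq_zero_of_not_dvd, Nat.Prime.factorization_pow hq.out]
    · simp
    · intro hdvd
      exact hq.out.ne_one (Nat.eq_one_of_dvd_coprimes hN.symm (dvd_refl q) hdvd)
  set B := (Q : Subgroup H).map H.subtype with hB
  have hBcard : Nat.card B = q ^ k := by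
    rw [hB, Subgroup.card_map_of_injective H.subtype_injective]
    exact hQcard
  have hBH : B ≤ H := Subgroup.map_subtype_le _
  have hBN : B ⊓ N = ⊥ := by
    apply (Subgroup.disjoint_of_coprime_natCard _).eq_bot
    rw [hBcard]
    exact (Nat.Coprime.pow_left k hN.symm)
  have hinj : ∀ x ∈ B, x ∈ N → x = 1 := by
    intro x hxB hxN
    have : x ∈ B ⊓ N := ⟨hxB, hxN⟩
    rw [hBN] at this
    exact Subgroup.mem_bot.mp this
  refine ⟨B, ⟨⟨?_⟩⟩, ?_, by rw [hBcard, hk]⟩
  · rintro ⟨x, hx⟩ ⟨y, hy⟩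
    apply Subtype.ext
    show x * y = y * x
    have hxA : QuotientGroup.mk' N x ∈ A := hBH hx
    have hyA : QuotientGroup.mk' N y ∈ A := hBH hy
    have hcomm : QuotientGroup.mk' N x * QuotientGroup.mk' N y =
        QuotientGroup.mk' N y * QuotientGroup.mk' N x := by
      have := hAc.is_comm.comm ⟨_, hxA⟩ ⟨_, hyA⟩
      exact congrArg Subtype.val this
    have h1 : (x * y) * (y * x)⁻¹ ∈ N := by
      rw [← QuotientGroup.eq_one_iff]
      have : ((x * y * (y * x)⁻¹ : M) : M ⧸ N) =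
          QuotientGroup.mk' N x * QuotientGroup.mk' N y *
            (QuotientGroup.mk' N y * QuotientGroup.mk' N x)⁻¹ := by
        simp
      rw [this, hcomm]
      simp
    have h2 : (x * y) * (y * x)⁻¹ ∈ B :=
      B.mul_mem (B.mul_mem hx hy) (B.inv_mem (B.mul_mem hy hx))
    have := hinj _ h2 h1
    exact mul_inv_eq_one.mp this
  · intro b hb
    apply hinj _ (B.pow_mem hb q)
    rw [← QuotientGroup.eq_one_iff]
    have hbA : QuotientGroup.mk' N b ∈ A := hBH hb
    have := hAe _ hbA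
    simpa using this

end Lift

section Main

variable {G : Type*} [Group G] [Finite G]

/-- `α(M) ⊆ σ(M)`, from the Uniqueness Theorem -/
theorem alpha_subset_sigma (hG : IsMinSimpleOddOrder G) (hU : UniqThree G) (M : Subgroup G)
    (hM : IsCoatom M) : alpha M ⊆ sigma M := by
  rintro p ⟨hp, hr⟩
  have : Fact p.Prime := ⟨hp⟩
  obtain ⟨S⟩ : Nonempty (Sylow p M) := inferInstance
  set S' := (S : Subgroup M).map M.subtype with hS'
  have hS'r : ¬ PRankLE p 2 S' := fun h => hr (Cfsg.Agent.Lib.Helper34.pRankLE_of_sylow S h)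
  have hS'M : S' ≤ M := Subgroup.map_subtype_le _
  have hS'top : S' ≠ ⊤ := fun h => hM.1 (top_le_iff.mp (h ▸ hS'M))
  have h2 : ¬ RankLE 2 S' := fun h => hS'r (h p hp)
  have h1 : ¬ RankLE 1 S' := fun h => h2 (Cfsg.Agent.Lib.Helper34.rankLE_two_of_rankLE_one h)
  obtain ⟨L, ⟨hL, hS'L⟩, huniq⟩ := hU S' hS'top h1 h2
  have hS'bot : S' ≠ ⊥ := by
    intro h
    apply hS'r
    intro A _ _
    have : Nat.card A = 1 := by
      have : Subsingleton S' := by rw [h]; infer_instance
      exact Nat.card_unique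
    rw [this]
    exact Nat.one_le_pow _ _ hp.pos
  have hNtop : Subgroup.normalizer (S' : Set G) ≠ ⊤ := by
    intro h
    have hn : S'.Normal := Subgroup.normalizer_eq_top_iff.mp h
    have := hG.2.1
    rcases hn.eq_bot_or_eq_top with h' | h'
    · exact hS'bot h'
    · exact hS'top h'
  obtain ⟨L', hL', hNL'⟩ := (eq_top_or_exists_le_coatom _).resolve_left hNtop
  have hL'M : L' = M := by
    rw [huniq L' ⟨hL', Subgroup.le_normalizer.trans hNL'⟩, huniq M ⟨hM, hS'M⟩]
  refine ⟨hp, ?_, S, hNL'.trans hL'M.le⟩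
  by_contra hnd
  apply hS'bot
  have h3 : Nat.card S = 1 := by
    rw [Sylow.card_eq_multiplicity, Nat.factorization_eq_zero_of_not_dvd hnd, pow_zero]
  rw [hS', ← Subgroup.card_eq_one, Subgroup.card_map_of_injective M.subtype_injective]
  exact h3

omit [Finite G] in
/-- a nonabelian simple group is perfect -/
theorem commutator_eq_top_of_minSimple (hG : IsMinSimpleOddOrder G) : commutator G = ⊤ := by
  have := hG.2.1
  have hn : (commutator G).Normal := inferInstance
  rcases hn.eq_bot_or_eq_top with h | h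
  · exfalso
    apply hG.2.2.1
    rw [commutator_eq_bot_iff_center_eq_top] at h
    refine ⟨⟨fun a b => ?_⟩⟩
    have ha : a ∈ Subgroup.center G := by rw [h]; exact Subgroup.mem_top a
    exact (Subgroup.mem_center_iff.mp ha b).symm
  · exact h

/-- the hypothesis package of helper34's fusion lemma -/
theorem fusionData_of_mem_sigma (hG : IsMinSimpleOddOrder G) (hU : UniqThree G) (M : Subgroup G)
    (hM : IsCoatom M) (p : ℕ) [Fact p.Prime] (hp : p ∈ sigma M) :
    Cfsg.Agent.Lib.Helper34.FusionData p M := by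
  obtain ⟨_, _, P₀, h0⟩ := hp
  exact
    { simple := hG.2.1
      sol := hG.2.2.2
      odd := hG.1
      coatom := hM
      uniq := hU
      sig := fun S => Cfsg.Agent.Lib.Helper34.normalizer_map_sylow_le_of_exists P₀ h0 S }

open scoped commutatorElement in
/-- For `p ∈ σ(M)`, a Sylow `p`-subgroup of `M` lies in `M'` (focal subgroup theorem and BG 10.1). -/
theorem sylow_le_commutator_of_mem_sigma (hG : IsMinSimpleOddOrder G) (hU : UniqThree G)
    (M : Subgroup G) (hM : IsCoatom M) (p : ℕ) [Fact p.Prime] (hp : p ∈ sigma M) (S : Sylow p M) :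
    (S : Subgroup M).map M.subtype ≤ ⁅M, M⁆ := by
  have hD := fusionData_of_mem_sigma hG hU M hM p hp
  obtain ⟨Q, hQ⟩ := Cfsg.Agent.Lib.Helper34.exists_sylow_eq_map_of_normalizer_le S (hD.sig S)
  have hQM : (Q : Subgroup G) ≤ M := by rw [hQ]; exact Subgroup.map_subtype_le _
  have key : ∀ P : Subgroup G, P ≤ (Q : Subgroup G) → ∀ g,
      Cfsg.Agent.Lib.Helper33.cj g P ≤ (Q : Subgroup G) →
      ∀ x ∈ P, g * x * g⁻¹ * x⁻¹ ∈ ⁅M, M⁆ := by
    intro P hPQ g hgP x hx
    have hPp : IsPGroup p P := Q.2.to_le hPQ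
    obtain ⟨m, hm, c, hc, rfl⟩ :=
      (Cfsg.Agent.Lib.Helper34.sigma_fusion hD P hPp (hPQ.trans hQM)).1 g (hgP.trans hQM)
    have hcx : c * x = x * c := (Subgroup.mem_centralizer_iff.mp hc x hx).symm
    have e : m * c * x * (m * c)⁻¹ * x⁻¹ = ⁅m, x⁆ := by
      rw [commutatorElement_def, mul_inv_rev, mul_assoc m c x, hcx]
      group
    rw [e]
    exact Subgroup.commutator_mem_commutator hm (hQM (hPQ hx))
  have h1 := Cfsg.Agent.Lib.Helper33.focal_le_of_forall Q ⁅M, M⁆ key
  rw [commutator_eq_top_of_minSimple hG, inf_top_eq, hQ] at h1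
  exact h1

/-- `O_α(M)` is a `q'`-group for `q ∉ α(M)` -/
theorem card_piCore_alpha_coprime (M : Subgroup G) (q : ℕ) (hq : q.Prime) (hqα : q ∉ alpha M) :
    (Nat.card (piCore (alpha M) M)).Coprime q := by
  apply Nat.Coprime.symm
  rw [Nat.Prime.coprime_iff_not_dvd hq]
  intro hdvd
  exact hqα (Cfsg.Agent.Lib.Helper54.piCore_isPi (alpha M) q hq hdvd)

/-- a `q`-subgroup, `q ∈ π`, of the Fitting subgroup of a group with trivial `π`-core is trivial -/
theorem eq_bot_of_le_fitting_of_piCore_eq_bot {X : Type*} [Group X] [Finite X] (π : Set ℕ)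
    (hπ : piCore π X = ⊥) (q : ℕ) [Fact q.Prime] (hqπ : q ∈ π) (Q : Subgroup X) (hQ : IsPGroup q Q)
    (hQF : Q ≤ fittingSubgroup X) : Q = ⊥ := by
  have h1 := Cfsg.Agent.Lib.Helper24.le_pCore_of_le_fittingSubgroup q Q hQ hQF
  have hn : (pCore q X).Normal := Subgroup.sSup_normal _ (fun _ h => h.1)
  have h2 : pCore q X ≤ piCore π X := by
    apply Cfsg.Agent.Lib.Helper54.le_piCore π hn
    intro r hr hdvd
    obtain ⟨k, hk⟩ := IsPGroup.iff_card.mp (Cfsg.Agent.Lib.Helper76.pCore_isPGroup (G := X) q)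
    rw [hk] at hdvd
    have := (Nat.prime_dvd_prime_iff_eq hr (Fact.out : q.Prime)).mp (hr.dvd_of_dvd_pow hdvd)
    rw [this]; exact hqπ
  rw [hπ] at h2
  exact le_bot_iff.mp (h1.trans h2)

/-- elementary abelian `q`-subgroups of `M ⧸ O_α(M)` have order at most `q ^ 2` when `q ∉ α(M)` -/
theorem pRankLE_quotient_of_not_mem_alpha (M : Subgroup G) (q : ℕ) (hq : q.Prime) (hqα : q ∉ alpha M) :
    PRankLE q 2 (↥M ⧸ piCore (alpha M) ↥M) := by
  have : Fact q.Prime := ⟨hq⟩
  intro A hAc hAe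
  obtain ⟨B, hBc, hBe, hBcard⟩ := exists_lift_elemAb (piCore (alpha M) ↥M) q
    (card_piCore_alpha_coprime M q hq hqα) A hAc hAe
  have hM2 : PRankLE q 2 ↥M := by
    by_contra h
    exact hqα ⟨hq, h⟩
  rw [← hBcard]
  exact hM2 B hBc hBe

/-- the Fitting subgroup of `M ⧸ O_α(M)` has rank at most two -/
theorem rankLE_two_fitting_quotient (M : Subgroup G) :
    RankLE 2 ↥(fittingSubgroup (↥M ⧸ piCore (alpha M) ↥M)) := by
  intro q hq A hAc hAe
  have : Fact q.Prime := ⟨hq⟩
  obtain ⟨A', hA'⟩ : ∃ A' : Subgroup (↥M ⧸ piCore (alpha M) ↥M),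
      A' = A.map (fittingSubgroup (↥M ⧸ piCore (alpha M) ↥M)).subtype := ⟨_, rfl⟩
  have hcard : Nat.card A' = Nat.card A := by
    rw [hA']; exact Subgroup.card_map_of_injective (Subgroup.subtype_injective _)
  have hA'c : IsMulCommutative A' := by rw [hA']; exact Subgroup.map_isMulCommutative A _
  have hA'e : ∀ a ∈ A', a ^ q = 1 := by
    rw [hA']
    rintro _ ⟨a, ha, rfl⟩
    rw [← map_pow, hAe a ha, map_one]
  rw [← hcard]
  by_cases hqα : q ∈ alpha M
  · have hA'p : IsPGroup q A' := by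
      intro a
      refine ⟨1, ?_⟩
      apply Subtype.ext
      simpa using hA'e a.1 a.2
    have h1 := eq_bot_of_le_fitting_of_piCore_eq_bot (alpha M)
      (Cfsg.Agent.Lib.Helper54.piCore_quotient_piCore (S := ↥M) (alpha M)) q hqα A' hA'p
      (by rw [hA']; exact Subgroup.map_subtype_le _)
    rw [h1, Subgroup.card_bot]
    exact Nat.one_le_pow _ _ hq.pos
  · exact pRankLE_quotient_of_not_mem_alpha M q hq hqα A' hA'c hA'e

/-- the derived subgroup of `M ⧸ O_α(M)` is nilpotent -/
theorem isNilpotent_commutator_quotient (hG : IsMinSimpleOddOrder G) (M : Subgroup G)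
    (hM : IsCoatom M) : Group.IsNilpotent ↥(commutator (↥M ⧸ piCore (alpha M) ↥M)) := by
  have : Group.IsSolvable ↥M := hG.2.2.2 M hM.1
  have hodd : Odd (Nat.card (↥M ⧸ piCore (alpha M) ↥M)) := by
    have h1 : Nat.card (↥M ⧸ piCore (alpha M) ↥M) ∣ Nat.card ↥M := by
      rw [← Subgroup.index_eq_card]; exact Subgroup.index_dvd_card _
    have h2 : Nat.card ↥M ∣ Nat.card G := Subgroup.card_subgroup_dvd_card M
    exact Odd.of_dvd_nat hG.1 (h1.trans h2)
  exact (Cfsg.Agent.S1451.result hodd (Or.inr (rankLE_two_fitting_quotient M))).1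

/-- for `p ∈ α(M)`, the Sylow `p`-subgroups of `M` lie in `O_α(M)` -/
theorem sylow_le_piCore_alpha (hG : IsMinSimpleOddOrder G) (hU : UniqThree G) (M : Subgroup G)
    (hM : IsCoatom M) (p : ℕ) [Fact p.Prime] (hp : p ∈ alpha M) (S : Sylow p M) :
    (S : Subgroup M) ≤ piCore (alpha M) ↥M := by
  have hσ : p ∈ sigma M := alpha_subset_sigma hG hU M hM hp
  have h1 := sylow_le_commutator_of_mem_sigma hG hU M hM p hσ S
  have h2 : (S : Subgroup M) ≤ commutator ↥M := by
    intro x hx
    have hx' : (x : G) ∈ ⁅M, M⁆ := h1 ⟨x, hx, rfl⟩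
    rw [← Subgroup.map_subtype_commutator] at hx'
    obtain ⟨y, hy, hyx⟩ := hx'
    have : y = x := Subtype.ext hyx
    rwa [← this]
  have hnil := isNilpotent_commutator_quotient hG M hM
  have hcF : commutator (↥M ⧸ piCore (alpha M) ↥M) ≤ fittingSubgroup (↥M ⧸ piCore (alpha M) ↥M) :=
    le_sSup ⟨inferInstance, hnil⟩
  have hQp : IsPGroup p ((S : Subgroup M).map (QuotientGroup.mk' (piCore (alpha M) ↥M))) :=
    S.2.map _
  have hQc : (S : Subgroup M).map (QuotientGroup.mk' (piCore (alpha M) ↥M)) ≤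
      commutator (↥M ⧸ piCore (alpha M) ↥M) := by
    refine (Subgroup.map_mono h2).trans ?_
    rw [commutator_def, Subgroup.map_commutator, commutator_def]
    exact Subgroup.commutator_mono le_top le_top
  have hQ := eq_bot_of_le_fitting_of_piCore_eq_bot (alpha M)
    (Cfsg.Agent.Lib.Helper54.piCore_quotient_piCore (S := ↥M) (alpha M)) p hp _ hQp
    (hQc.trans hcF)
  intro x hx
  have : QuotientGroup.mk' (piCore (alpha M) ↥M) x ∈
      (S : Subgroup M).map (QuotientGroup.mk' (piCore (alpha M) ↥M)) := ⟨x, hx, rfl⟩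
  rw [hQ, Subgroup.mem_bot] at this
  exact (QuotientGroup.eq_one_iff x).mp this

/-- for `p ∈ α(M)`, `p` does not divide `|M : O_α(M)|` -/
theorem not_dvd_index_piCore_alpha (hG : IsMinSimpleOddOrder G) (hU : UniqThree G) (M : Subgroup G)
    (hM : IsCoatom M) (p : ℕ) (hp : p ∈ alpha M) : ¬ p ∣ (piCore (alpha M) ↥M).index := by
  have : Fact p.Prime := ⟨hp.1⟩
  obtain ⟨S⟩ : Nonempty (Sylow p M) := inferInstance
  have h1 := sylow_le_piCore_alpha hG hU M hM p hp S
  intro hdvd
  exact S.not_dvd_index (hdvd.trans (Subgroup.index_dvd_of_le h1))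

/-- for `p ∈ σ(M)`, `p` does not divide `|G : M|` -/
theorem not_dvd_index_of_mem_sigma (M : Subgroup G) (p : ℕ) (hp : p ∈ sigma M) : ¬ p ∣ M.index := by
  obtain ⟨hpp, _, P₀, h0⟩ := hp
  have : Fact p.Prime := ⟨hpp⟩
  obtain ⟨Q, hQ⟩ := Cfsg.Agent.Lib.Helper34.exists_sylow_eq_map_of_normalizer_le P₀ h0
  have hQM : (Q : Subgroup G) ≤ M := by rw [hQ]; exact Subgroup.map_subtype_le _
  intro hdvd
  exact Q.not_dvd_index (hdvd.trans (Subgroup.index_dvd_of_le hQM))

/-- **Bender–Glauberman, Theorem 10.2 (a), (b)**, from the Uniqueness Theorem. -/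
theorem s1405_of (hG : IsMinSimpleOddOrder G) (hU : UniqThree G) (M : Subgroup G) (hM : IsCoatom M) :
    IsPiHallOf (alpha M) (alphaCore M) M ∧ IsPiHall (alpha M) (alphaCore M) ∧
      alphaCore M ≤ sigmaCore M ∧ RankLE 2 (↥M ⧸ piCore (alpha M) ↥M) ∧
      Group.IsNilpotent ↥((commutator ↥M).map (QuotientGroup.mk' (piCore (alpha M) ↥M))) := by
  have hcard : Nat.card (alphaCore M) = Nat.card (piCore (alpha M) ↥M) :=
    Subgroup.card_map_of_injective M.subtype_injective
  have hpi : ∀ p : ℕ, p.Prime → p ∣ Nat.card (alphaCore M) → p ∈ alpha M := by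
    intro p hp hdvd
    rw [hcard] at hdvd
    exact Cfsg.Agent.Lib.Helper54.piCore_isPi (alpha M) p hp hdvd
  have hrel : (alphaCore M).relIndex M = (piCore (alpha M) ↥M).index := by
    unfold alphaCore Subgroup.relIndex Subgroup.subgroupOf
    rw [Subgroup.comap_map_eq_self_of_injective M.subtype_injective]
  have hidx : (alphaCore M).index = (piCore (alpha M) ↥M).index * M.index :=
    Subgroup.index_map_subtype _
  refine ⟨⟨Subgroup.map_subtype_le _, hpi, ?_⟩, ⟨hpi, ?_⟩, ?_, ?_, ?_⟩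
  · intro p _ hpα
    rw [hrel]
    exact not_dvd_index_piCore_alpha hG hU M hM p hpα
  · intro p hp hpα
    rw [hidx]
    exact Nat.Prime.not_dvd_mul hp (not_dvd_index_piCore_alpha hG hU M hM p hpα)
      (not_dvd_index_of_mem_sigma M p (alpha_subset_sigma hG hU M hM hpα))
  · apply Subgroup.map_mono
    apply sSup_le_sSup
    rintro N ⟨hN, h⟩
    exact ⟨hN, fun p hp hd => alpha_subset_sigma hG hU M hM (h p hp hd)⟩
  · intro q hq
    have : Fact q.Prime := ⟨hq⟩
    by_cases hqα : q ∈ alpha M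
    · intro A _ hAe
      have hAp : IsPGroup q A := by
        intro a
        refine ⟨1, ?_⟩
        apply Subtype.ext
        simpa using hAe a.1 a.2
      obtain ⟨k, hk⟩ := IsPGroup.iff_card.mp hAp
      have h1 : Nat.card A ∣ (piCore (alpha M) ↥M).index := by
        rw [Subgroup.index_eq_card]; exact Subgroup.card_subgroup_dvd_card A
      have h2 := not_dvd_index_piCore_alpha hG hU M hM q hqα
      rcases Nat.eq_zero_or_pos k with h0 | hpos
      · rw [hk, h0, pow_zero]; exact Nat.one_le_pow _ _ hq.pos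
      · exfalso
        apply h2
        refine dvd_trans ?_ h1
        rw [hk]
        exact dvd_pow_self q hpos.ne'
    · exact pRankLE_quotient_of_not_mem_alpha M q hq hqα
  · have e : (commutator ↥M).map (QuotientGroup.mk' (piCore (alpha M) ↥M)) =
        commutator (↥M ⧸ piCore (alpha M) ↥M) := by
      rw [commutator_def, Subgroup.map_commutator, commutator_def, ← MonoidHom.range_eq_map,
        MonoidHom.range_eq_top.mpr (QuotientGroup.mk'_surjective _)]
    rw [e]
    exact isNilpotent_commutator_quotient hG M hM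

end Main

end Cfsg.Agent.Lib.Helper50
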