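import Mathlib
import Cfsg.Prelude.Def_OddOrderLocal
import Cfsg.Agent.Lib.Helper50.AlphaCore
import Cfsg.Agent.Lib.Helper34.NonSigma
import Cfsg.Agent.Lib.Helper34.SylowConj
import Cfsg.Agent.Lib.Helper34.PComponent
import Cfsg.Agent.Lib.Helper54.UqNine4
import Cfsg.Agent.Lib.Helper23.CoprimeHyperplane

/-!
# Bender–Glauberman Theorem 13.1 and Theorem 12.10 (e) (helper50 library)

Conditional on the rank-three part of the Uniqueness Theorem (`UniqThree`) and on the first clause of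
Proposition 12.4 (`CentSqLE`: the centralizer of an elementary abelian subgroup of order `p ^ 2` of a maximal
subgroup `M` lies in `M`).
-/

set_option autoImplicit false

namespace Cfsg.Agent.Lib.Helper50

open Cfsg

/-- the first clause of BG Proposition 12.4 (statement S1416), as a hypothesis -/
def CentSqLE (G : Type*) [Group G] : Prop :=
  ∀ M : Subgroup G, IsCoatom M → ∀ (p : ℕ) [Fact p.Prime] (A : Subgroup G), A ≤ M →
    IsElementaryAbelian p A → Nat.card A = p ^ 2 → Subgroup.centralizer (A : Set G) ≤ M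

section

variable {G : Type*} [Group G] [Finite G]

omit [Finite G] in
/-- primes in `σ(M)` are odd -/
theorem ne_two_of_mem_sigma (hG : IsMinSimpleOddOrder G) (M : Subgroup G) (p : ℕ) (hp : p ∈ sigma M) :
    p ≠ 2 := by
  rintro rfl
  have h1 : 2 ∣ Nat.card G := hp.2.1.trans (Subgroup.card_subgroup_dvd_card M)
  exact (Nat.not_even_iff_odd.mpr hG.1) (even_iff_two_dvd.mpr h1)

/-- **BG Theorem 12.10 (e)**: for `p ∈ σ(M)`, the normalizer of a noncyclic `p`-subgroup of `M` lies in `M`. -/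
theorem normalizer_le_of_not_isCyclic (hG : IsMinSimpleOddOrder G) (hU : UniqThree G) (hC : CentSqLE G)
    (M : Subgroup G) (hM : IsCoatom M) (p : ℕ) [Fact p.Prime] (hp : p ∈ sigma M) (P : Subgroup G)
    (hPp : IsPGroup p P) (hPM : P ≤ M) (hPnc : ¬ IsCyclic P) :
    Subgroup.normalizer (P : Set G) ≤ M := by
  have hpp : p.Prime := Fact.out
  have hp2 : p ≠ 2 := ne_two_of_mem_sigma hG M p hp
  obtain ⟨E, hEP, hEc, hEe, hEcard⟩ :=
    Cfsg.Agent.Lib.Helper54.exists_elemAb_sq_of_not_isCyclic hp2 P hPp hPnc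
  have hEp : IsPGroup p E := hPp.to_le hEP
  have hlt : p < Nat.card E := by
    have : p < p ^ 2 := by
      have := hpp.two_le
      nlinarith
    omega
  obtain ⟨A, hAE, hAcard⟩ := Cfsg.Agent.Lib.Helper34.exists_le_card_eq_sq hEp hlt
  have hAe : IsElementaryAbelian p A := by
    refine ⟨⟨⟨fun a b => ?_⟩⟩, fun a ha => hEe a (hAE ha)⟩
    apply Subtype.ext
    exact hEc a.1 (hAE a.2) b.1 (hAE b.2)
  have hAP : A ≤ P := hAE.trans hEP
  have hCA : Subgroup.centralizer (A : Set G) ≤ M := hC M hM p A (hAP.trans hPM) hAe hAcard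
  have hCP : Subgroup.centralizer (P : Set G) ≤ M :=
    (Subgroup.centralizer_le (by exact_mod_cast hAP)).trans hCA
  have hD := fusionData_of_mem_sigma hG hU M hM p hp
  rw [(Cfsg.Agent.Lib.Helper34.sigma_fusion hD P hPp hPM).2]
  exact sup_le inf_le_left hCP

/-- **BG Theorem 13.1**. -/
theorem s1424_of (hG : IsMinSimpleOddOrder G) (hU : UniqThree G) (hC : CentSqLE G)
    (M : Subgroup G) (hM : IsCoatom M) (q : ℕ) [Fact q.Prime] (hq : q ∈ sigma M) (X : Subgroup G)
    (hXq : IsPGroup q X) (hXM : X ≤ M)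
    (Mstar : Subgroup G) (hne : Mstar ≠ M)
    (hNX : Subgroup.normalizer (X : Set G) ≤ Mstar)
    (S : Sylow q ↥(M ⊓ Mstar)) (hXS : X ≤ (S : Subgroup ↥(M ⊓ Mstar)).map (M ⊓ Mstar).subtype) :
    (∀ g : G, Mstar ≠ M.map (MulAut.conj g).toMonoidHom) ∧
      Subgroup.normalizer (((S : Subgroup ↥(M ⊓ Mstar)).map (M ⊓ Mstar).subtype : Subgroup G) : Set G) ≤ M ∧
      ¬ q ∣ ((S : Subgroup ↥(M ⊓ Mstar)).map (M ⊓ Mstar).subtype).relIndex Mstar := by
  have hD := fusionData_of_mem_sigma hG hU M hM q hq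
  obtain ⟨S', hS'⟩ : ∃ S' : Subgroup G, S' = (S : Subgroup ↥(M ⊓ Mstar)).map (M ⊓ Mstar).subtype :=
    ⟨_, rfl⟩
  rw [← hS'] at hXS ⊢
  have hS'q : IsPGroup q S' := by rw [hS']; exact S.2.map _
  have hS'D : S' ≤ M ⊓ Mstar := by rw [hS']; exact Subgroup.map_subtype_le _
  have hS'M : S' ≤ M := hS'D.trans inf_le_left
  have hS'Ms : S' ≤ Mstar := hS'D.trans inf_le_right
  -- maximality of `S'` among `q`-subgroups of `M ∩ M*`
  have hmax : ∀ T : Subgroup G, IsPGroup q T → T ≤ M ⊓ Mstar → S' ≤ T → T ≤ S' := by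
    intro T hTq hTD hST
    have h2 : IsPGroup q (T.subgroupOf (M ⊓ Mstar)) := hTq.comap_subtype
    have h3 : (S : Subgroup ↥(M ⊓ Mstar)) ≤ T.subgroupOf (M ⊓ Mstar) := by
      intro x hx
      rw [Subgroup.mem_subgroupOf]
      apply hST
      rw [hS']
      exact ⟨x, hx, rfl⟩
    have h4 := S.is_maximal' h2 h3
    intro t ht
    have : (⟨t, hTD ht⟩ : ↥(M ⊓ Mstar)) ∈ T.subgroupOf (M ⊓ Mstar) := by
      rw [Subgroup.mem_subgroupOf]; exact ht
    rw [h4] at this
    rw [hS']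
    exact ⟨⟨t, hTD ht⟩, this, rfl⟩
  -- a `q`-subgroup `R ≥ S'` with `R ⊓ N(S') ≤ M ∩ M*` equals `S'`
  have hgrow : ∀ R : Subgroup G, IsPGroup q R → S' ≤ R →
      R ⊓ Subgroup.normalizer (S' : Set G) ≤ M ⊓ Mstar → R = S' := by
    intro R hRq hSR hRN
    by_contra hne'
    have hlt : S' < R := lt_of_le_of_ne hSR (Ne.symm hne')
    have h1 := Cfsg.Agent.Lib.Helper34.lt_inf_normalizer_of_lt hRq hlt
    have h2 := hmax _ (hRq.to_le inf_le_left) hRN h1.le
    exact absurd (le_antisymm h2 h1.le) h1.ne'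
  -- (b)
  have hb : Subgroup.normalizer (S' : Set G) ≤ M := by
    by_cases hcyc : IsCyclic S'
    · -- `X` is characteristic in `S'`
      have hNS : Subgroup.normalizer (S' : Set G) ≤ Subgroup.normalizer (X : Set G) := by
        intro g hg
        apply Cfsg.Agent.Lib.Helper34.mem_normalizer_of_map_conj_le
        have h1 : X.map (MulAut.conj g).toMonoidHom ≤ S' := by
          have := Subgroup.map_mono (f := (MulAut.conj g).toMonoidHom) hXS
          rwa [Cfsg.Agent.Lib.Helper34.map_conj_eq_self_of_mem_normalizer S' g hg] at this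
        exact Cfsg.Agent.Lib.Helper23.le_of_card_le_of_le_cyclic hcyc hS'q h1 hXS
          (Cfsg.Agent.Lib.Helper34.card_map_conj X g).le
      have hNSs : Subgroup.normalizer (S' : Set G) ≤ Mstar := hNS.trans hNX
      obtain ⟨Q₀, hQ₀⟩ := Cfsg.Agent.Lib.Helper34.exists_sylow_map_ge hS'q hS'M
      have hQ'q : IsPGroup q ((Q₀ : Subgroup M).map M.subtype) := Q₀.2.map _
      have hQ'M : (Q₀ : Subgroup M).map M.subtype ≤ M := Subgroup.map_subtype_le _
      have heq := hgrow _ hQ'q hQ₀ (le_inf (inf_le_left.trans hQ'M) (inf_le_right.trans hNSs))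
      rw [← heq]
      exact hD.sig Q₀
    · exact normalizer_le_of_not_isCyclic hG hU hC M hM q hq S' hS'q hS'M hcyc
  refine ⟨?_, hb, ?_⟩
  · -- (a)
    intro g hEq
    have hXMs : X ≤ Mstar := Subgroup.le_normalizer.trans hNX
    have h1 : X.map (MulAut.conj g⁻¹).toMonoidHom ≤ M := by
      rintro _ ⟨x, hx, rfl⟩
      have hx' : x ∈ M.map (MulAut.conj g).toMonoidHom := by rw [← hEq]; exact hXMs hx
      obtain ⟨m, hm, hmx⟩ := hx'
      have : g⁻¹ * x * g = m := by
        rw [← hmx]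
        simp [MulAut.conj_apply, mul_assoc]
      simpa [MulAut.conj_apply, this] using hm
    obtain ⟨m, hm, c, hc, hgmc⟩ := (Cfsg.Agent.Lib.Helper34.sigma_fusion hD X hXq hXM).1 g⁻¹ h1
    have hcMs : c ∈ Mstar := hNX (Subgroup.centralizer_le_normalizer _ hc)
    rw [hEq] at hcMs
    obtain ⟨y, hy, hyc⟩ := hcMs
    have hg : g = c⁻¹ * m⁻¹ := by
      have : g⁻¹⁻¹ = (m * c)⁻¹ := by rw [hgmc]
      rwa [inv_inv, mul_inv_rev] at this
    have hcM : c ∈ M := by
      have h2 : g * y * g⁻¹ = c := by simpa [MulAut.conj_apply] using hyc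
      have h3 : c = m⁻¹ * y * m := by
        rw [hg] at h2
        have h4 : c⁻¹ * m⁻¹ * y * (c⁻¹ * m⁻¹)⁻¹ = c⁻¹ * (m⁻¹ * y * m) * c := by group
        rw [h4] at h2
        calc c = c * c * c⁻¹ := by group
          _ = c * (c⁻¹ * (m⁻¹ * y * m) * c) * c⁻¹ := by rw [h2]
          _ = m⁻¹ * y * m := by group
      rw [h3]
      exact M.mul_mem (M.mul_mem (M.inv_mem hm) hy) hm
    have hgM : g ∈ M := by
      rw [hg]; exact M.mul_mem (M.inv_mem hcM) (M.inv_mem hm)
    apply hne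
    rw [hEq]
    exact Cfsg.Agent.Lib.Helper34.map_conj_self_of_mem hgM
  · -- (c)
    obtain ⟨P₀, hP₀⟩ := Cfsg.Agent.Lib.Helper34.exists_sylow_map_ge hS'q hS'Ms
    have hP'q : IsPGroup q ((P₀ : Subgroup Mstar).map Mstar.subtype) := P₀.2.map _
    have hP'M : (P₀ : Subgroup Mstar).map Mstar.subtype ≤ Mstar := Subgroup.map_subtype_le _
    have heq := hgrow _ hP'q hP₀ (le_inf (inf_le_right.trans hb) (inf_le_left.trans hP'M))
    have hrel : S'.relIndex Mstar = (P₀ : Subgroup Mstar).index := by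
      rw [← heq]
      unfold Subgroup.relIndex Subgroup.subgroupOf
      rw [Subgroup.comap_map_eq_self_of_injective Mstar.subtype_injective]
    rw [hrel]
    exact P₀.not_dvd_index

end

end Cfsg.Agent.Lib.Helper50
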