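import Mathlib
import Cfsg.Agent.Lib.Helper24.PFCycDefs
import Cfsg.Agent.Lib.Helper4.PFTypes
import Cfsg.Agent.Lib.Helper80.CharBasic
import Cfsg.Agent.Lib.Helper50.PFCycMuRes

/-!
# PF sections 10-13 bookkeeping, module [MU-ONE]: the `μ_φ` with `φ` trivial on `W₂` are the linear characters
of `M / M' ≅ W₁`
-/

set_option autoImplicit false
set_option linter.unusedSectionVars false

namespace Cfsg.Agent.Lib.Helper50.PFCyc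

open Cfsg Cfsg.Agent.Lib.Helper4.PF Cfsg.Agent.Lib.Helper24.PFCyc
open scoped commutatorElement

universe u

variable {G : Type u} [Group G] {M W₁ U W₂ : Subgroup G}

/-- uniqueness of the decomposition `m = k w` in `M = M' ⋊ W₁` -/
theorem compl_unique (hP : IsTypePWith M W₁ U W₂) {a a' b b' : G} (ha : a ∈ ⁅M, M⁆) (ha' : a' ∈ ⁅M, M⁆)
    (hb : b ∈ W₁) (hb' : b' ∈ W₁) (h : a * b = a' * b') : a = a' ∧ b = b' := by
  have h1 : a'⁻¹ * a = b' * b⁻¹ := by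
    have : a = a' * b' * b⁻¹ := by rw [← h]; group
    rw [this]; group
  have h2 : a'⁻¹ * a ∈ ⁅M, M⁆ ⊓ W₁ := by
    refine Subgroup.mem_inf.2 ⟨Subgroup.mul_mem _ (Subgroup.inv_mem _ ha') ha, ?_⟩
    rw [h1]; exact W₁.mul_mem hb' (W₁.inv_mem hb)
  rw [hP.W₁_compl.2.2.1, Subgroup.mem_bot] at h2
  have haa : a = a' := by
    have := inv_mul_eq_one.1 h2
    exact this.symm
  refine ⟨haa, ?_⟩
  rw [haa] at h
  exact mul_left_cancel h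

/-- the projection `M → W₁` with kernel `M'` -/
theorem exists_proj (hP : IsTypePWith M W₁ U W₂) :
    ∃ π : ↥M →* ↥(W₁ ⊔ W₂), (∀ m : ↥M, ((π m : ↥(W₁ ⊔ W₂)) : G) ∈ W₁) ∧
      (∀ m : ↥M, (m : G) * ((π m : ↥(W₁ ⊔ W₂)) : G)⁻¹ ∈ ⁅M, M⁆) := by
  have hdec : ∀ m : ↥M, ∃ b : G, b ∈ W₁ ∧ (m : G) * b⁻¹ ∈ ⁅M, M⁆ := by
    intro m
    obtain ⟨a, ha, b, hb, hm⟩ := hP.W₁_compl.2.2.2 m m.2
    refine ⟨b, hb, ?_⟩
    rw [hm]
    have : a * b * b⁻¹ = a := by group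
    rw [this]; exact ha
  choose w hw hwK using hdec
  have hKM : ⁅M, M⁆ ≤ M := hP.W₁_compl.1
  have hWM : W₁ ≤ M := hP.W₁_compl.2.1
  have huniq : ∀ (m : ↥M) (b : G), b ∈ W₁ → (m : G) * b⁻¹ ∈ ⁅M, M⁆ → w m = b := by
    intro m b hb hbK
    have h1 : (m : G) * (w m)⁻¹ * w m = (m : G) * b⁻¹ * b := by group
    exact (compl_unique hP (hwK m) hbK (hw m) hb h1).2
  refine ⟨{ toFun := fun m => ⟨w m, Subgroup.mem_sup_left (hw m)⟩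
            map_one' := ?_
            map_mul' := ?_ }, fun m => hw m, fun m => hwK m⟩
  · apply Subtype.ext
    show w 1 = 1
    apply huniq 1 1 W₁.one_mem
    simp
  · intro m m'
    apply Subtype.ext
    show w (m * m') = w m * w m'
    apply huniq (m * m') _ (W₁.mul_mem (hw m) (hw m'))
    -- `m m' (w m w m')⁻¹ = (m (w m)⁻¹) * (w m) (m' (w m')⁻¹) (w m)⁻¹`
    have h1 : ((m * m' : ↥M) : G) * (w m * w m')⁻¹ =
        ((m : G) * (w m)⁻¹) * ((w m) * ((m' : G) * (w m')⁻¹) * (w m)⁻¹) := by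
      simp only [Subgroup.coe_mul]; group
    rw [h1]
    refine Subgroup.mul_mem _ (hwK m) ?_
    have := conj_mem_der (M := M) (x := (w m)⁻¹) (k := (m' : G) * (w m')⁻¹)
      (M.inv_mem (hWM (hw m))) (hwK m') (hKM (hwK m'))
    simpa using this

variable [Finite G] [Fintype M]
variable {mu : WChar W₁ W₂ → (↥M → ℂ)} {dl : WChar W₁ W₂ → ℂ}

/-- MODULE [MU-ONE] -/
theorem mu_of_trivOn (hP : IsTypePWith M W₁ U W₂) (hodd : Odd (Nat.card M))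
    (md : MuData M W₁ W₂ mu dl) (φ : WChar W₁ W₂) (hφ : TrivOn W₂ φ) :
    dl φ = 1 ∧ ∃ f : ↥M →* ℂˣ, (mu φ = fun m => ((f m : ℂˣ) : ℂ)) ∧
      (∀ k : ↥M, (k : G) ∈ ⁅M, M⁆ → f k = 1) ∧
      ∀ (m : ↥M) (hm : (m : G) ∈ W₁), f m = φ ⟨(m : G), Subgroup.mem_sup_left hm⟩ := by
  classical
  have hKM : ⁅M, M⁆ ≤ M := hP.W₁_compl.1
  have hWM : W₁ ≤ M := hP.W₁_compl.2.1
  have hW₂K : W₂ ≤ ⁅M, M⁆ := W₂_le_der hP
  have hWWM : W₁ ⊔ W₂ ≤ M := sup_le hWM (hW₂K.trans hKM)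
  have hsn := hP.selfNormalizing
  obtain ⟨π, hπW, hπK⟩ := exists_proj hP
  -- `π` on `M'` and on `W₁`
  have hπ_K : ∀ k : ↥M, (k : G) ∈ ⁅M, M⁆ → π k = 1 := by
    intro k hk
    apply Subtype.ext
    have h1 : (k : G) * ((π k : ↥(W₁ ⊔ W₂)) : G)⁻¹ * ((π k : ↥(W₁ ⊔ W₂)) : G) = (k : G) * 1 := by group
    exact ((compl_unique hP (hπK k) hk (hπW k) W₁.one_mem h1).2)
  have hπ_W : ∀ (m : ↥M) (hm : (m : G) ∈ W₁), π m = ⟨(m : G), Subgroup.mem_sup_left hm⟩ := by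
    intro m hm
    apply Subtype.ext
    have h1 : (m : G) * ((π m : ↥(W₁ ⊔ W₂)) : G)⁻¹ * ((π m : ↥(W₁ ⊔ W₂)) : G) = 1 * (m : G) := by group
    exact ((compl_unique hP (hπK m) (Subgroup.one_mem _) (hπW m) hm h1).2)
  obtain ⟨f, hfdef⟩ : ∃ f : ↥M →* ℂˣ, f = φ.comp π := ⟨_, rfl⟩
  have hf_K : ∀ k : ↥M, (k : G) ∈ ⁅M, M⁆ → f k = 1 := by
    intro k hk
    rw [hfdef, MonoidHom.comp_apply, hπ_K k hk, map_one]
  have hf_W : ∀ (m : ↥M) (hm : (m : G) ∈ W₁), f m = φ ⟨(m : G), Subgroup.mem_sup_left hm⟩ := by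
    intro m hm
    rw [hfdef, MonoidHom.comp_apply, hπ_W m hm]
  -- a non-identity element of `W₁`
  obtain ⟨w₁, hw₁, hw₁1⟩ : ∃ w₁ ∈ W₁, w₁ ≠ 1 := by
    by_contra hcon
    push Not at hcon
    exact hP.W₁_ne ((Subgroup.eq_bot_iff_forall _).2 hcon)
  have hnotW₂ : ∀ a ∈ W₁, a ≠ 1 → a ∉ W₂ := by
    intro a ha ha1 ha2
    have : a ∈ W₁ ⊓ W₂ := Subgroup.mem_inf.2 ⟨ha, ha2⟩
    rw [hsn.2.2.1, Subgroup.mem_bot] at this
    exact ha1 this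
  -- `f = μ_ω` for some `ω`
  obtain ⟨ω, hω⟩ : ∃ ω, (fun m : ↥M => ((f m : ℂˣ) : ℂ)) = mu ω := by
    by_contra hcon
    push Not at hcon
    have := md.vanish _ (Cfsg.Agent.Lib.Helper80.isIrrCharacter_of_hom f) hcon ⟨w₁, hWM hw₁⟩
      (Subgroup.mem_sup_left hw₁) (hnotW₂ w₁ hw₁ hw₁1)
    exact Units.ne_zero _ this
  have hval : ∀ (m : ↥M) (hm : (m : G) ∈ W₁ ⊔ W₂), (m : G) ∉ W₂ →
      ((f m : ℂˣ) : ℂ) = dl ω * ((ω ⟨(m : G), hm⟩ : ℂˣ) : ℂ) := by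
    intro m hm hm2
    rw [← md.val ω m hm hm2, ← hω]
  have hdl0 : dl ω ≠ 0 := by
    rcases md.sign ω with h4 | h4 <;> rw [h4] <;> norm_num
  -- `ω` is trivial on `W₂`
  have hωW₂ : TrivOn W₂ ω := by
    intro w hw
    have hw₁w : w₁ * (w : G) ∈ W₁ ⊔ W₂ := Subgroup.mul_mem _ (Subgroup.mem_sup_left hw₁) w.2
    have hw₁w2 : w₁ * (w : G) ∉ W₂ := by
      intro hcon
      apply hnotW₂ w₁ hw₁ hw₁1
      have : w₁ = w₁ * (w : G) * (w : G)⁻¹ := by group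
      rw [this]; exact W₂.mul_mem hcon (W₂.inv_mem hw)
    have e1 := hval ⟨w₁, hWM hw₁⟩ (Subgroup.mem_sup_left hw₁) (hnotW₂ w₁ hw₁ hw₁1)
    have e2 := hval ⟨w₁ * (w : G), hWWM hw₁w⟩ hw₁w hw₁w2
    have e3 : f ⟨w₁ * (w : G), hWWM hw₁w⟩ = f ⟨w₁, hWM hw₁⟩ := by
      have : (⟨w₁ * (w : G), hWWM hw₁w⟩ : ↥M) = ⟨w₁, hWM hw₁⟩ * ⟨(w : G), hWWM w.2⟩ := rfl
      rw [this, map_mul, hf_K ⟨(w : G), hWWM w.2⟩ (hW₂K hw), mul_one]
    have e4 : (⟨w₁ * (w : G), hw₁w⟩ : ↥(W₁ ⊔ W₂)) = ⟨w₁, Subgroup.mem_sup_left hw₁⟩ * w := rfl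
    rw [e3, e1, e4, map_mul, Units.val_mul] at e2
    -- `dl ω * ω w₁ = dl ω * (ω w₁ * ω w)`
    have hne : dl ω * ((ω ⟨w₁, Subgroup.mem_sup_left hw₁⟩ : ℂˣ) : ℂ) ≠ 0 :=
      mul_ne_zero hdl0 (Units.ne_zero _)
    have e5 : dl ω * ((ω ⟨w₁, Subgroup.mem_sup_left hw₁⟩ : ℂˣ) : ℂ) * 1 =
        dl ω * ((ω ⟨w₁, Subgroup.mem_sup_left hw₁⟩ : ℂˣ) : ℂ) * ((ω w : ℂˣ) : ℂ) := by
      rw [mul_one, mul_assoc]; exact e2
    have e6 := mul_left_cancel₀ hne e5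
    exact Units.ext e6.symm
  -- on `W₁ ∖ 1`: `φ = dl ω * ω`
  have hφω : ∀ a (ha : a ∈ W₁), a ≠ 1 → ((φ ⟨a, Subgroup.mem_sup_left ha⟩ : ℂˣ) : ℂ) =
      dl ω * ((ω ⟨a, Subgroup.mem_sup_left ha⟩ : ℂˣ) : ℂ) := by
    intro a ha ha1
    have e1 := hval ⟨a, hWM ha⟩ (Subgroup.mem_sup_left ha) (hnotW₂ a ha ha1)
    rw [hf_W ⟨a, hWM ha⟩ ha] at e1
    exact e1
  -- `dl ω = 1`
  have hdl1 : dl ω = 1 := by
    rcases md.sign ω with h4 | h4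
    · exact h4
    · exfalso
      have hsq1 : w₁ * w₁ ≠ 1 := by
        intro hcon
        have hord : orderOf w₁ ∣ 2 := by
          apply orderOf_dvd_of_pow_eq_one; rw [pow_two]; exact hcon
        have hord2 : orderOf w₁ ∣ Nat.card M := by
          have : orderOf (⟨w₁, hWM hw₁⟩ : ↥M) = orderOf w₁ := Subgroup.orderOf_mk w₁ _
          rw [← this]; exact orderOf_dvd_natCard _
        have hoddw : Odd (orderOf w₁) := hodd.of_dvd_nat hord2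
        have h1 : orderOf w₁ = 1 := by
          rcases (Nat.dvd_prime Nat.prime_two).1 hord with h5 | h5
          · exact h5
          · rw [h5] at hoddw; exact absurd hoddw (by decide)
        exact hw₁1 (orderOf_eq_one_iff.1 h1)
      have e1 := hφω w₁ hw₁ hw₁1
      have e2 := hφω (w₁ * w₁) (W₁.mul_mem hw₁ hw₁) hsq1
      have e3 : (⟨w₁ * w₁, Subgroup.mem_sup_left (W₁.mul_mem hw₁ hw₁)⟩ : ↥(W₁ ⊔ W₂)) =
          ⟨w₁, Subgroup.mem_sup_left hw₁⟩ * ⟨w₁, Subgroup.mem_sup_left hw₁⟩ := rfl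
      rw [e3, map_mul, map_mul, Units.val_mul, Units.val_mul, e1, h4] at e2
      -- `(-ω)(-ω) = -(ω ω)`
      have hne : ((ω ⟨w₁, Subgroup.mem_sup_left hw₁⟩ : ℂˣ) : ℂ) ≠ 0 := Units.ne_zero _
      have e4 : ((ω ⟨w₁, Subgroup.mem_sup_left hw₁⟩ : ℂˣ) : ℂ) *
          ((ω ⟨w₁, Subgroup.mem_sup_left hw₁⟩ : ℂˣ) : ℂ) = 0 := by
        linear_combination (1 / 2 : ℂ) * e2
      exact mul_ne_zero hne hne e4
  -- `ω = φ`
  have hωφ : ω = φ := by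
    apply MonoidHom.ext
    intro w
    obtain ⟨a, ha, b, hb, hab⟩ := mem_sup_of_comm hsn.2.2.2.1 w.2
    have hw : w = ⟨a, Subgroup.mem_sup_left ha⟩ * ⟨b, Subgroup.mem_sup_right hb⟩ := Subtype.ext hab
    rw [hw, map_mul, map_mul, hωW₂ ⟨b, Subgroup.mem_sup_right hb⟩ hb, hφ ⟨b, Subgroup.mem_sup_right hb⟩ hb,
      mul_one, mul_one]
    by_cases ha1 : a = 1
    · have : (⟨a, Subgroup.mem_sup_left ha⟩ : ↥(W₁ ⊔ W₂)) = 1 := Subtype.ext ha1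
      rw [this, map_one, map_one]
    · apply Units.ext
      have := hφω a ha ha1
      rw [hdl1, one_mul] at this
      exact this.symm
  rw [← hωφ]
  exact ⟨hdl1, f, hω.symm, hf_K, by rw [hωφ]; exact hf_W⟩

/-- MODULE [MU-ONE], corollary -/
theorem mu_one (hP : IsTypePWith M W₁ U W₂) (hodd : Odd (Nat.card M))
    (md : MuData M W₁ W₂ mu dl) : mu 1 = fun _ => 1 := by
  obtain ⟨-, f, hf, hfK, hfW⟩ := mu_of_trivOn hP hodd md 1 (trivOn_one W₂)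
  rw [hf]
  funext m
  obtain ⟨a, ha, b, hb, hm⟩ := hP.W₁_compl.2.2.2 m m.2
  have hKM : ⁅M, M⁆ ≤ M := hP.W₁_compl.1
  have hWM : W₁ ≤ M := hP.W₁_compl.2.1
  have : m = ⟨a, hKM ha⟩ * ⟨b, hWM hb⟩ := Subtype.ext hm
  rw [this, map_mul, hfK ⟨a, hKM ha⟩ ha, hfW ⟨b, hWM hb⟩ hb]
  simp

end Cfsg.Agent.Lib.Helper50.PFCyc
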