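/-
helper50: project BHRSU (helper37), module BHRSU-[P5-ODD] (hedge): `SU_n(q)`, `n ≥ 3`, lies in no subfield group over a subfield
of odd prime index.
-/
import Mathlib
import Cfsg.Prelude.Def_GeometricClasses
import Cfsg.Prelude.Def_ClassicalGeometry
import Cfsg.Agent.Lib.Helper37.BHRSU.Kit

set_option autoImplicit false

namespace Cfsg.Agent.Lib.Helper50.BhrsuP5Odd

open Cfsg Cfsg.Geo
open scoped MatrixGroups Matrix

section general

variable {F : Type*} [Field F] {ι : Type} [Fintype ι] [DecidableEq ι]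

/-- elements of the subfield group, matrix form (any index type) -/
theorem exists_of_mem_subfieldSubgroup (F₀ : Subfield F) (P g : GL ι F)
    (hg : g ∈ subfieldSubgroup F₀ P) : ∃ (A : GL ι F₀) (μ : Fˣ),
      (g : Matrix ι ι F) * (P : Matrix ι ι F) =
        (μ : F) • ((P : Matrix ι ι F) * (A : Matrix ι ι F₀).map F₀.subtype) := by
  unfold subfieldSubgroup at hg
  rw [Subgroup.mem_map] at hg
  obtain ⟨x, hx, rfl⟩ := hg
  rw [Subgroup.mem_sup_of_normal_right] at hx
  obtain ⟨y, ⟨A, rfl⟩, z, hz, rfl⟩ := hx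
  rw [mem_scalars_iff] at hz
  obtain ⟨μ, hμ⟩ := hz
  refine ⟨A, μ, ?_⟩
  show ((P * (Matrix.GeneralLinearGroup.map F₀.subtype A * z) * P⁻¹ : GL ι F) :
    Matrix ι ι F) * (P : Matrix ι ι F) = _
  rw [← Units.val_mul, inv_mul_cancel_right, Units.val_mul, Units.val_mul, hμ]
  rw [Matrix.mul_smul, Matrix.mul_one, Matrix.mul_smul]
  rfl

/-- a matrix over `F₀` of the form `a (1 + x yᵀ)`, `yᵀ x = 0`, `x, y ≠ 0`, on at least three indices, has `a ∈ F₀`. -/
theorem scalar_mem_of_rank_one (F₀ : Subfield F) (A : Matrix ι ι F) (hA : ∀ i j, A i j ∈ F₀) (a : F) (ha : a ≠ 0)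
    (x y : ι → F) (hx : x ≠ 0) (hy : y ≠ 0) (hxy : ∑ k, y k * x k = 0)
    (hAe : ∀ i j, A i j = a * ((if i = j then 1 else 0) + x i * y j))
    (h3 : ∀ i j : ι, ∃ k, k ≠ i ∧ k ≠ j) : a ∈ F₀ := by
  by_cases hcase : ∃ i j, i ≠ j ∧ x i * y j ≠ 0
  · obtain ⟨i, j, hij, hne⟩ := hcase
    obtain ⟨k, hki, hkj⟩ := h3 i j
    have e1 : A i j = a * (x i * y j) := by rw [hAe, if_neg hij, zero_add]
    have e2 : A k k = a * (1 + x k * y k) := by rw [hAe, if_pos rfl]
    have e3 : A i k = a * (x i * y k) := by rw [hAe, if_neg (Ne.symm hki), zero_add]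
    have e4 : A k j = a * (x k * y j) := by rw [hAe, if_neg hkj, zero_add]
    have hAij : A i j ≠ 0 := by rw [e1]; exact mul_ne_zero ha hne
    have key : a = (A k k * A i j - A i k * A k j) / A i j := by
      rw [eq_div_iff hAij, e1, e2, e3, e4]
      ring
    rw [key]
    exact F₀.div_mem (F₀.sub_mem (F₀.mul_mem (hA k k) (hA i j)) (F₀.mul_mem (hA i k) (hA k j))) (hA i j)
  · exfalso
    push Not at hcase
    obtain ⟨i, hi⟩ : ∃ i, x i ≠ 0 := by
      by_contra h
      push Not at h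
      exact hx (funext h)
    have hyj : ∀ j, j ≠ i → y j = 0 := by
      intro j hj
      have := hcase i j (Ne.symm hj)
      rcases mul_eq_zero.1 this with h | h
      · exact (hi h).elim
      · exact h
    have hyi : y i ≠ 0 := by
      intro h
      apply hy
      funext j
      by_cases hj : j = i
      · rw [hj]; exact h
      · exact hyj j hj
    rw [Finset.sum_eq_single i (fun j _ hj => by rw [hyj j hj, zero_mul]) (fun h => (h (Finset.mem_univ i)).elim)]
      at hxy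
    exact (mul_ne_zero hyi hi) hxy

omit [Fintype ι] in
theorem entries_mem_of_rank_one (F₀ : Subfield F) (A : Matrix ι ι F) (hA : ∀ i j, A i j ∈ F₀) (a : F) (ha : a ≠ 0)
    (ha0 : a ∈ F₀) (x y : ι → F)
    (hAe : ∀ i j, A i j = a * ((if i = j then 1 else 0) + x i * y j)) (i j : ι) : x i * y j ∈ F₀ := by
  have : x i * y j = A i j / a - (if i = j then 1 else 0) := by
    rw [hAe, mul_div_cancel_left₀ _ ha]
    ring
  rw [this]
  refine F₀.sub_mem (F₀.div_mem (hA i j) ha0) ?_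
  split_ifs
  · exact F₀.one_mem
  · exact F₀.zero_mem

end general

section main

variable {F : Type*} [Field F] [Fintype F] {n q : ℕ}

open Cfsg.Agent.Lib.Helper37.BHRSU

/-- if `SU_n(q) ≤ subfieldSubgroup F₀ P`, `n ≥ 3`, then the elements fixed by `x ↦ x ^ q` lie in `F₀` -/
theorem fixed_mem_of_le (hF : Fintype.card F = q ^ 2) (hn : 3 ≤ n) (F₀ : Subfield F) (P : GL (Fin n) F)
    (hle : SUg n F q ≤ subfieldSubgroup F₀ P) (t : F) (ht : t ^ q = t) : t ∈ F₀ := by
  obtain ⟨σ, hσ, hσ2⟩ := Cfsg.Agent.Lib.Helper13.exists_frob hF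
  have hq0 : q ≠ 0 := by
    rintro rfl
    have : 1 < Fintype.card F := Fintype.one_lt_card
    rw [hF] at this
    norm_num at this
  obtain ⟨v, hv0, hv⟩ := exists_isotropic (n := n) hF (by omega)
  set PM : Matrix (Fin n) (Fin n) F := (P : Matrix (Fin n) (Fin n) F) with hPM
  set PI : Matrix (Fin n) (Fin n) F := ((P⁻¹ : GL (Fin n) F) : Matrix (Fin n) (Fin n) F) with hPI
  have hPIP : PI * PM = 1 := by rw [hPI, hPM, ← Units.val_mul, inv_mul_cancel, Units.val_one]
  have hPPI : PM * PI = 1 := by rw [hPI, hPM, ← Units.val_mul, mul_inv_cancel, Units.val_one]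
  set w : Fin n → F := fun j => v j ^ q with hw
  set x₀ : Fin n → F := PI *ᵥ v with hx₀
  set y : Fin n → F := w ᵥ* PM with hy
  have hx₀0 : x₀ ≠ 0 := by
    intro h
    apply hv0
    have := congrArg (fun z => PM *ᵥ z) h
    simpa [hx₀, Matrix.mulVec_mulVec, hPPI] using this
  have hw0 : w ≠ 0 := by
    intro h
    apply hv0
    funext j
    have := congrFun h j
    exact (pow_eq_zero_iff hq0).1 this
  have hy0 : y ≠ 0 := by
    intro h
    apply hw0
    have := congrArg (fun z => z ᵥ* PI) h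
    simpa [hy, Matrix.vecMul_vecMul, hPPI] using this
  have hxy : ∑ k, y k * x₀ k = 0 := by
    have h1 : y ⬝ᵥ x₀ = 0 := by
      rw [hy, hx₀, Matrix.dotProduct_mulVec, Matrix.vecMul_vecMul, hPPI, Matrix.vecMul_one]
      unfold hermForm at hv
      rw [← hv]
      unfold dotProduct
      exact Finset.sum_congr rfl fun i _ => mul_comm _ _
    exact h1
  have h3 : ∀ i j : Fin n, ∃ k, k ≠ i ∧ k ≠ j := by
    intro i j
    by_contra hcon
    push Not at hcon
    have hsub : (Finset.univ : Finset (Fin n)) ⊆ {i, j} := by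
      intro k _
      by_cases hk : k = i
      · simp [hk]
      · simp [hcon k hk]
    have := Finset.card_le_card hsub
    have h2 : ({i, j} : Finset (Fin n)).card ≤ 2 := Finset.card_le_two
    rw [Finset.card_univ, Fintype.card_fin] at this
    omega
  -- key: for `c ∈ L`: `c x₀ᵢ yⱼ ∈ F₀`
  have key : ∀ c : F, c + c ^ q = 0 → ∀ i j, c * (x₀ i * y j) ∈ F₀ := by
    intro c hc i j
    by_cases hc0 : c = 0
    · rw [hc0, zero_mul]; exact F₀.zero_mem
    obtain ⟨g, hg, hgm⟩ := exists_tv hF v hv c hc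
    obtain ⟨A, μ, hA⟩ := exists_of_mem_subfieldSubgroup F₀ P g (hle hg)
    set A₀ : Matrix (Fin n) (Fin n) F := (A : Matrix (Fin n) (Fin n) F₀).map F₀.subtype with hA₀
    have h1 : PI * (g : Matrix (Fin n) (Fin n) F) * PM = (μ : F) • A₀ := by
      rw [Matrix.mul_assoc, hA, Matrix.mul_smul, ← Matrix.mul_assoc, hPIP, Matrix.one_mul]
    have h2 : PI * (g : Matrix (Fin n) (Fin n) F) * PM = 1 + Matrix.vecMulVec (c • x₀) y := by
      rw [hgm, unitaryTransvection, Matrix.mul_add, Matrix.add_mul, Matrix.mul_one, hPIP, Matrix.mul_smul,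
        Matrix.smul_mul, Matrix.mul_vecMulVec, Matrix.vecMulVec_mul, Matrix.smul_vecMulVec]
    have hμ0 : (μ : F) ≠ 0 := μ.ne_zero
    have hAe : ∀ i j, A₀ i j = (μ : F)⁻¹ * ((if i = j then 1 else 0) + (c • x₀) i * y j) := by
      intro i j
      have := congrFun (congrFun (h1.symm.trans h2) i) j
      rw [Matrix.smul_apply, smul_eq_mul, Matrix.add_apply, Matrix.one_apply, Matrix.vecMulVec_apply] at this
      rw [← this, inv_mul_cancel_left₀ hμ0]
    have hA0 : ∀ i j, A₀ i j ∈ F₀ := fun i j => ((A : Matrix (Fin n) (Fin n) F₀) i j).2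
    have hcx : c • x₀ ≠ 0 := smul_ne_zero hc0 hx₀0
    have hxy' : ∑ k, y k * (c • x₀) k = 0 := by
      have : ∀ k, y k * (c • x₀) k = c * (y k * x₀ k) := fun k => by
        rw [Pi.smul_apply, smul_eq_mul]; ring
      simp_rw [this]
      rw [← Finset.mul_sum, hxy, mul_zero]
    have ha := scalar_mem_of_rank_one F₀ A₀ hA0 (μ : F)⁻¹ (inv_ne_zero hμ0) (c • x₀) y hcx hy0 hxy' hAe h3
    have := entries_mem_of_rank_one F₀ A₀ hA0 (μ : F)⁻¹ (inv_ne_zero hμ0) ha (c • x₀) y hAe i j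
    rw [Pi.smul_apply, smul_eq_mul, mul_assoc] at this
    exact this
  -- a non-zero element of `L`
  obtain ⟨a, ha⟩ : ∃ a, σ a ≠ a := by
    by_contra hcon
    push Not at hcon
    exact Cfsg.Agent.S0837.frob_ne_id σ hF hσ (RingHom.ext hcon)
  set c₀ : F := a - σ a with hc₀
  have hc₀0 : c₀ ≠ 0 := by
    intro h
    exact ha (sub_eq_zero.1 h).symm
  have hc₀L : c₀ + c₀ ^ q = 0 := by
    rw [← hσ, hc₀, map_sub, hσ2]
    ring
  obtain ⟨i, hi⟩ : ∃ i, x₀ i ≠ 0 := by
    by_contra h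
    push Not at h
    exact hx₀0 (funext h)
  obtain ⟨j, hj⟩ : ∃ j, y j ≠ 0 := by
    by_contra h
    push Not at h
    exact hy0 (funext h)
  have hν : c₀ * (x₀ i * y j) ≠ 0 := mul_ne_zero hc₀0 (mul_ne_zero hi hj)
  have htL : t * c₀ + (t * c₀) ^ q = 0 := by
    rw [mul_pow, ht, ← mul_add, hc₀L, mul_zero]
  have e : t = (t * c₀ * (x₀ i * y j)) / (c₀ * (x₀ i * y j)) := by
    rw [eq_div_iff hν]
    ring
  rw [e]
  exact F₀.div_mem (key _ htL i j) (key _ hc₀L i j)

/-- **BHRSU-[P5-ODD]** (own namespace copy; the exact sheet statement is restated below in the sheet namespace) -/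
theorem not_SUg_le_subfieldSubgroup_odd' (hF : Fintype.card F = q ^ 2) (hn : 3 ≤ n) (F₀ : Subfield F) (r : ℕ)
    (hr : r.Prime) (hodd : Odd r) (hcard : Fintype.card F = Nat.card F₀ ^ r) (P : GL (Fin n) F) :
    ¬ SUg n F q ≤ subfieldSubgroup F₀ P := by
  classical
  intro hle
  have hfix := fixed_mem_of_le hF hn F₀ P hle
  have hq : 2 ≤ q := Cfsg.Agent.Lib.Helper13.two_le_of_card_eq_sq hF
  set m := Nat.card F₀ with hm
  have hr3 : 3 ≤ r := by
    have := hr.two_le
    rcases hodd with ⟨k, hk⟩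
    omega
  have hm2 : 2 ≤ m := by
    have := Finite.one_lt_card (α := F₀)
    omega
  have hmq : m < q := by
    by_contra h
    push Not at h
    have h1 : q ^ 3 ≤ m ^ r := (Nat.pow_le_pow_left h 3).trans (Nat.pow_le_pow_right (by omega) hr3)
    rw [← hcard, hF] at h1
    have h2 : q ^ 2 * q ≤ q ^ 2 * 1 := by rw [mul_one, ← pow_succ]; exact h1
    have := Nat.le_of_mul_le_mul_left h2 (by positivity)
    omega
  obtain ⟨ζ, hζ⟩ := IsCyclic.exists_generator (α := Fˣ)
  have hord : orderOf ζ = q ^ 2 - 1 := by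
    rw [orderOf_eq_card_of_forall_mem_zpowers hζ, Nat.card_eq_fintype_card, Fintype.card_units, hF]
  have hsq : q ^ 2 - 1 = (q + 1) * (q - 1) := by
    obtain ⟨k, rfl⟩ : ∃ k, q = k + 1 := ⟨q - 1, by omega⟩
    simp only [Nat.add_sub_cancel]
    ring_nf
    omega
  set t : F := (ζ : F) ^ (q + 1) with ht
  have ht1 : t ^ (q - 1) = 1 := by
    rw [ht, ← pow_mul, ← hsq, ← hord, ← Units.val_pow_eq_pow_val, pow_orderOf_eq_one, Units.val_one]
  have htq : t ^ q = t := by
    have : q = (q - 1) + 1 := by omega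
    rw [this, pow_succ, ht1, one_mul]
  have htF₀ := hfix t htq
  have ht0 : t ≠ 0 := by
    rw [ht]
    exact pow_ne_zero _ ζ.ne_zero
  have htm : t ^ (m - 1) = 1 := by
    let _ : Fintype F₀ := Fintype.ofFinite F₀
    have h0 : (⟨t, htF₀⟩ : F₀) ≠ 0 := by
      intro h
      exact ht0 (congrArg Subtype.val h)
    have h1 := FiniteField.pow_card_sub_one_eq_one (⟨t, htF₀⟩ : F₀) h0
    rw [← Nat.card_eq_fintype_card] at h1
    have h2 := congrArg (Subtype.val) h1
    rw [SubmonoidClass.coe_pow] at h2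
    exact h2
  have hdvd : q ^ 2 - 1 ∣ (q + 1) * (m - 1) := by
    rw [← hord]
    apply orderOf_dvd_of_pow_eq_one
    ext
    rw [Units.val_pow_eq_pow_val, pow_mul, ← ht, htm, Units.val_one]
  rw [hsq] at hdvd
  have hdvd' : q - 1 ∣ m - 1 := Nat.dvd_of_mul_dvd_mul_left (by omega) hdvd
  have := Nat.le_of_dvd (by omega) hdvd'
  omega

end main

end Cfsg.Agent.Lib.Helper50.BhrsuP5Odd

namespace Cfsg.Agent.Lib.Helper37.BHRSU

open Cfsg Cfsg.Geo Cfsg.Agent.Lib.Helper70.AschU
open scoped MatrixGroups Matrix Kronecker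

variable {F : Type*} [Field F] [Fintype F] {n q : ℕ}

/-- BHRSU-[P5-ODD] (exact sheet statement) -/
theorem not_SUg_le_subfieldSubgroup_odd (hF : Fintype.card F = q ^ 2) (hn : 3 ≤ n) (F₀ : Subfield F) (r : ℕ)
    (hr : r.Prime) (hodd : Odd r) (hcard : Fintype.card F = Nat.card F₀ ^ r) (P : GL (Fin n) F) :
    ¬ SUg n F q ≤ subfieldSubgroup F₀ P :=
  Cfsg.Agent.Lib.Helper50.BhrsuP5Odd.not_SUg_le_subfieldSubgroup_odd' hF hn F₀ r hr hodd hcard P

end Cfsg.Agent.Lib.Helper37.BHRSU
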