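import Cfsg.Agent.Lib.Helper50.CentrallyLarge
import Cfsg.Prelude.Def_PLocal

/-!
# Centrally large subgroups and abelian subgroups of largest order (Glauberman)

Helper library of seat helper50 (statements S3006, S3007, S3008).
-/

set_option autoImplicit false
open scoped Pointwise

namespace Cfsg.Agent.Lib.Helper50

variable {P : Type*} [Group P]

theorem isMulCommutative_iff_le_centralizer (B : Subgroup P) :
    IsMulCommutative ↥B ↔ B ≤ Subgroup.centralizer (B : Set P) :=
  Subgroup.le_centralizer_iff_isMulCommutative.symm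

/-- The join of two abelian subgroups that centralize each other is abelian. -/
theorem isMulCommutative_sup (B C : Subgroup P) (hB : IsMulCommutative ↥B)
    (hC : IsMulCommutative ↥C) (h : B ≤ Subgroup.centralizer (C : Set P)) :
    IsMulCommutative ↥(B ⊔ C) := by
  rw [isMulCommutative_iff_le_centralizer] at hB hC ⊢
  rw [centralizer_sup]
  exact sup_le (le_inf hB h) (le_inf (Subgroup.le_centralizer_iff.mp h) hC)

theorem isMulCommutative_of_le {B C : Subgroup P} (hC : IsMulCommutative ↥C) (h : B ≤ C) :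
    IsMulCommutative ↥B := by
  rw [isMulCommutative_iff_le_centralizer] at hC ⊢
  exact h.trans (hC.trans (Subgroup.centralizer_le (SetLike.coe_subset_coe.mpr h)))

/-- A finite group has an abelian subgroup of largest order. -/
theorem exists_mem_maxAbelianSubgroups (P : Type*) [Group P] [Finite P] :
    ∃ A : Subgroup P, A ∈ Cfsg.maxAbelianSubgroups P := by
  have hne : {B : Subgroup P | IsMulCommutative ↥B}.Nonempty := by
    refine ⟨⊥, ?_⟩
    show IsMulCommutative ↥(⊥ : Subgroup P)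
    rw [isMulCommutative_iff_le_centralizer]
    exact bot_le
  obtain ⟨A, hA, hmax⟩ := Set.exists_max_image _ (fun B : Subgroup P => Nat.card B)
    (Set.toFinite _) hne
  exact ⟨A, hA, fun B hB => hmax B hB⟩

/-- An abelian subgroup of largest order is self-centralizing. -/
theorem centralizer_eq_of_mem_maxAbelianSubgroups [Finite P] (A : Subgroup P)
    (hA : A ∈ Cfsg.maxAbelianSubgroups P) : Subgroup.centralizer (A : Set P) = A := by
  obtain ⟨hab, hmax⟩ := hA
  apply le_antisymm _ ((isMulCommutative_iff_le_centralizer A).mp hab)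
  intro x hx
  have hz : IsMulCommutative ↥(Subgroup.zpowers x) := inferInstance
  have hle : Subgroup.zpowers x ≤ Subgroup.centralizer (A : Set P) := by
    rw [Subgroup.zpowers_le]; exact hx
  have hsup := isMulCommutative_sup (Subgroup.zpowers x) A hz hab hle
  have hcard := hmax _ hsup
  have heq : A = Subgroup.zpowers x ⊔ A := Subgroup.eq_of_le_of_card_ge le_sup_right hcard
  rw [heq]
  exact Subgroup.mem_sup_left (Subgroup.mem_zpowers x)

/-- An abelian subgroup whose order is that of a largest abelian subgroup is one. -/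
theorem mem_maxAbelianSubgroups_of_card_eq (A B : Subgroup P)
    (hA : A ∈ Cfsg.maxAbelianSubgroups P) (hB : IsMulCommutative ↥B)
    (h : Nat.card A ≤ Nat.card B) : B ∈ Cfsg.maxAbelianSubgroups P :=
  ⟨hB, fun C hC => (hA.2 C hC).trans h⟩

section core

variable [Finite P] (Q A : Subgroup P) (hQ : Cfsg.IsCentrallyLarge Q)
  (hA : A ∈ Cfsg.maxAbelianSubgroups P)

include hQ hA

/-- Arithmetic heart of Glauberman's lemma on `QA`. -/
theorem cl_maxAbelian_core :
    ((Q ⊔ A : Subgroup P) : Set P) = (Q : Set P) * (A : Set P) ∧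
    Cfsg.IsCentrallyLarge (Q ⊔ A) ∧
    (Subgroup.centralizer (Q : Set P) ⊔ (Q ⊓ A)) ∈ Cfsg.maxAbelianSubgroups P ∧
    ((Subgroup.centralizer (Q : Set P) ⊔ (Q ⊓ A) : Subgroup P) : Set P) =
      (Subgroup.centralizer (Q : Set P) : Set P) * ((Q ⊓ A : Subgroup P) : Set P) := by
  obtain ⟨hQcd, hCQ⟩ := (isCentrallyLarge_iff_cd Q).mp hQ
  have hCA := centralizer_eq_of_mem_maxAbelianSubgroups A hA
  set M := Subgroup.centralizer (Q : Set P) with hM
  set D := Q ⊓ A with hD
  -- `A₁ = M ⊔ D` is abelian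
  have hMab : IsMulCommutative ↥M := by
    rw [isMulCommutative_iff_le_centralizer]
    exact hCQ.trans (Subgroup.le_centralizer_iff.mp le_rfl)
  have hDab : IsMulCommutative ↥D := isMulCommutative_of_le hA.1 inf_le_right
  have hMD : M ≤ Subgroup.centralizer (D : Set P) :=
    Subgroup.centralizer_le (SetLike.coe_subset_coe.mpr inf_le_left)
  have hA₁ab : IsMulCommutative ↥(M ⊔ D) := isMulCommutative_sup M D hMab hDab hMD
  have hA₁card : Nat.card ↥(M ⊔ D) ≤ Nat.card A := hA.2 _ hA₁ab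
  -- `M ⊓ D = M ⊓ A`
  have hMDA : M ⊓ D = M ⊓ A := by
    rw [hD, ← inf_assoc, inf_eq_left.mpr hCQ]
  -- cardinal (in)equalities
  have e1 := card_mul_card_eq_card_inf_mul_card_mul Q A
  have e2 := card_mul_le_card_sup Q A
  have e3 := card_mul_card_eq_card_inf_mul_card_mul M D
  have e4 := card_mul_le_card_sup M D
  rw [hMDA] at e3
  have hCsup : Subgroup.centralizer ((Q ⊔ A : Subgroup P) : Set P) = M ⊓ A := by
    rw [centralizer_sup, hCA]
  have e5 := cdMeasure_le_max P (Q ⊔ A)
  have e6 : cdMeasure Q = Cfsg.maxCentralizerProduct P := hQcd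
  unfold cdMeasure at e5 e6
  rw [hCsup] at e5
  rw [← hM] at e6
  -- abbreviations
  set q := Nat.card Q
  set a := Nat.card A
  set d := Nat.card D
  set m := Nat.card M
  set t := Nat.card ↥(Q ⊔ A)
  set s := Nat.card ((Q : Set P) * (A : Set P) : Set P)
  set k := Nat.card ↥(M ⊓ A)
  set a₁ := Nat.card ↥(M ⊔ D)
  set s₁ := Nat.card ((M : Set P) * (D : Set P) : Set P)
  set f := Cfsg.maxCentralizerProduct P
  have hdpos : 0 < d := Nat.card_pos
  have hkpos : 0 < k := Nat.card_pos
  have hqpos : 0 < q := Nat.card_pos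
  have hmpos : 0 < m := Nat.card_pos
  -- chain: f * d = q * m * d = q * (k * s₁) ≤ q * (k * a₁) ≤ q * k * a = k * (d * s) ≤ k * d * t ≤ f * d
  have c1 : f * d = q * (k * s₁) := by rw [← e6, ← e3]; ring
  have c2 : q * (k * s₁) ≤ q * (k * a₁) := Nat.mul_le_mul_left _ (Nat.mul_le_mul_left _ e4)
  have c3 : q * (k * a₁) ≤ q * (k * a) := Nat.mul_le_mul_left _ (Nat.mul_le_mul_left _ hA₁card)
  have c4 : q * (k * a) = k * (d * s) := by rw [← e1]; ring
  have c5 : k * (d * s) ≤ k * (d * t) := Nat.mul_le_mul_left _ (Nat.mul_le_mul_left _ e2)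
  have c6 : k * (d * t) ≤ f * d := by
    calc k * (d * t) = (t * k) * d := by ring
      _ ≤ f * d := Nat.mul_le_mul_right _ e5
  have h2 : q * (k * s₁) = q * (k * a₁) := le_antisymm c2 (by omega)
  have h3 : q * (k * a₁) = q * (k * a) := le_antisymm c3 (by omega)
  have h5 : k * (d * s) = k * (d * t) := le_antisymm c5 (by omega)
  have h6 : k * (d * t) = f * d := le_antisymm c6 (by omega)
  have r1 : s₁ = a₁ :=
    Nat.eq_of_mul_eq_mul_left hkpos (Nat.eq_of_mul_eq_mul_left hqpos h2)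
  have r2 : a₁ = a :=
    Nat.eq_of_mul_eq_mul_left hkpos (Nat.eq_of_mul_eq_mul_left hqpos h3)
  have r3 : s = t :=
    Nat.eq_of_mul_eq_mul_left hdpos (Nat.eq_of_mul_eq_mul_left hkpos h5)
  have r4 : t * k = f := by
    apply Nat.eq_of_mul_eq_mul_right hdpos
    rw [← h6]; ring
  refine ⟨sup_eq_mul_of_card_eq Q A r3, ?_, ?_, sup_eq_mul_of_card_eq M D r1⟩
  · rw [isCentrallyLarge_iff_cd]
    refine ⟨?_, ?_⟩
    · show cdMeasure (Q ⊔ A) = _
      unfold cdMeasure
      rw [hCsup]; exact r4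
    · rw [hCsup]; exact inf_le_right.trans le_sup_right
  · exact mem_maxAbelianSubgroups_of_card_eq A _ hA hA₁ab r2.ge

/-- `C_Q(Q ∩ A) ≤ Z(Q)(Q ∩ A)`. -/
theorem cl_maxAbelian_centralizer_inf :
    Q ⊓ Subgroup.centralizer ((Q ⊓ A : Subgroup P) : Set P) ≤
      Subgroup.centralizer (Q : Set P) ⊔ (Q ⊓ A) := by
  obtain ⟨-, -, h3, -⟩ := cl_maxAbelian_core Q A hQ hA
  have hself := centralizer_eq_of_mem_maxAbelianSubgroups _ h3
  rw [centralizer_sup] at hself
  conv_rhs => rw [← hself]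
  exact inf_le_inf_right _ (Subgroup.le_centralizer_iff.mp le_rfl)

/-- `C_{QA}(Q ∩ A) = Z(Q) A`, and `Z(Q) A` is a product set. -/
theorem cl_maxAbelian_centralizer_inf_sup :
    (Q ⊔ A) ⊓ Subgroup.centralizer ((Q ⊓ A : Subgroup P) : Set P) =
        Subgroup.centralizer (Q : Set P) ⊔ A ∧
      ((Subgroup.centralizer (Q : Set P) ⊔ A : Subgroup P) : Set P) =
        (Subgroup.centralizer (Q : Set P) : Set P) * (A : Set P) := by
  obtain ⟨h1, -, -, h4⟩ := cl_maxAbelian_core Q A hQ hA
  obtain ⟨-, hCQ⟩ := (isCentrallyLarge_iff_cd Q).mp hQ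
  have hAab : A ≤ Subgroup.centralizer (A : Set P) := (isMulCommutative_iff_le_centralizer A).mp hA.1
  have hAD : A ≤ Subgroup.centralizer ((Q ⊓ A : Subgroup P) : Set P) :=
    hAab.trans (Subgroup.centralizer_le (SetLike.coe_subset_coe.mpr inf_le_right))
  have hge : Subgroup.centralizer (Q : Set P) ⊔ A ≤
      (Q ⊔ A) ⊓ Subgroup.centralizer ((Q ⊓ A : Subgroup P) : Set P) := by
    apply le_inf (sup_le (hCQ.trans le_sup_left) le_sup_right)
    exact sup_le (Subgroup.centralizer_le (SetLike.coe_subset_coe.mpr inf_le_left)) hAD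
  have hkey : ∀ x ∈ (Q ⊔ A) ⊓ Subgroup.centralizer ((Q ⊓ A : Subgroup P) : Set P),
      x ∈ (Subgroup.centralizer (Q : Set P) : Set P) * (A : Set P) := by
    intro x hx
    obtain ⟨hx1, hx2⟩ := Subgroup.mem_inf.mp hx
    have hx1' : x ∈ ((Q ⊔ A : Subgroup P) : Set P) := hx1
    rw [h1] at hx1'
    obtain ⟨q, hq, a, ha, rfl⟩ := hx1'
    have hqC : q ∈ Subgroup.centralizer ((Q ⊓ A : Subgroup P) : Set P) := by
      have := Subgroup.mul_mem _ hx2 (Subgroup.inv_mem _ (hAD ha))
      simpa using this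
    have hq2 : q ∈ Subgroup.centralizer (Q : Set P) ⊔ (Q ⊓ A) :=
      cl_maxAbelian_centralizer_inf Q A hQ hA ⟨hq, hqC⟩
    have hq2' : q ∈ ((Subgroup.centralizer (Q : Set P) ⊔ (Q ⊓ A) : Subgroup P) : Set P) := hq2
    rw [h4] at hq2'
    obtain ⟨m, hm, d, hd, rfl⟩ := hq2'
    exact ⟨m, hm, d * a, A.mul_mem hd.2 ha, by group⟩
  constructor
  · apply le_antisymm _ hge
    intro x hx
    exact mul_subset_sup _ _ (hkey x hx)
  · apply Set.Subset.antisymm _ (mul_subset_sup _ _)
    intro x hx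
    exact hkey x (hge hx)

end core

/-- `J(P) ≤ P_CL` (abelian version of the Thompson subgroup). -/
theorem thompsonSubgroupA_le_centrallyLargeJoin (P : Type*) [Group P] [Finite P] :
    Cfsg.thompsonSubgroupA P ≤ Cfsg.centrallyLargeJoin P := by
  obtain ⟨Q, hQ⟩ := exists_isCentrallyLarge P
  apply sSup_le
  intro A hA
  obtain ⟨-, h2, -, -⟩ := cl_maxAbelian_core Q A hQ hA
  exact le_sup_right.trans (le_sSup (show Q ⊔ A ∈ {R : Subgroup P | Cfsg.IsCentrallyLarge R} from h2))

/-- If `X` is centrally large and contains `J(P)` then `C_P(Z(J(P))) ≤ X`. -/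
theorem centralizer_center_thompsonA_le [Finite P] (X : Subgroup P) (hX : Cfsg.IsCentrallyLarge X)
    (hJ : Cfsg.thompsonSubgroupA P ≤ X) :
    Subgroup.centralizer ((Cfsg.thompsonSubgroupA P ⊓
      Subgroup.centralizer (Cfsg.thompsonSubgroupA P : Set P) : Subgroup P) : Set P) ≤ X := by
  obtain ⟨hXcd, hCX⟩ := (isCentrallyLarge_iff_cd X).mp hX
  obtain ⟨A, hA⟩ := exists_mem_maxAbelianSubgroups P
  have hAJ : A ≤ Cfsg.thompsonSubgroupA P := le_sSup hA
  have h1 : Subgroup.centralizer (X : Set P) ≤ Cfsg.thompsonSubgroupA P := by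
    refine le_trans ?_ hAJ
    rw [← centralizer_eq_of_mem_maxAbelianSubgroups A hA]
    exact Subgroup.centralizer_le (SetLike.coe_subset_coe.mpr (hAJ.trans hJ))
  have h2 : Subgroup.centralizer (X : Set P) ≤
      Subgroup.centralizer (Cfsg.thompsonSubgroupA P : Set P) :=
    Subgroup.centralizer_le (SetLike.coe_subset_coe.mpr hJ)
  have h3 := (cd_centralizer X _ (cdMeasure_le_max P) hXcd).2
  conv_rhs => rw [h3]
  exact Subgroup.centralizer_le (SetLike.coe_subset_coe.mpr (le_inf h1 h2))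

end Cfsg.Agent.Lib.Helper50
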