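import Cfsg.Agent.Lib.Helper50.ChermakDelgado
import Mathlib.Order.SupClosed
import Mathlib.Order.Minimal

/-!
# Centrally large subgroups (Glauberman): basic facts

Helper library of seat helper50 (statements S3005, S3006, S3007, S3008).
-/

set_option autoImplicit false
open scoped Pointwise

namespace Cfsg.Agent.Lib.Helper50

variable {P : Type*} [Group P]

/-- `Z(Q)` viewed in `P` is `Q ∩ C_P(Q)`. -/
theorem map_center_eq (Q : Subgroup P) :
    (Subgroup.center ↥Q).map Q.subtype = Q ⊓ Subgroup.centralizer (Q : Set P) := by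
  ext x
  rw [Subgroup.mem_map, Subgroup.mem_inf, Subgroup.mem_centralizer_iff]
  constructor
  · rintro ⟨z, hz, rfl⟩
    refine ⟨z.2, ?_⟩
    intro y hy
    rw [Subgroup.mem_center_iff] at hz
    have := hz ⟨y, hy⟩
    exact congrArg Subtype.val this
  · rintro ⟨hxQ, hxC⟩
    refine ⟨⟨x, hxQ⟩, ?_, rfl⟩
    rw [Subgroup.mem_center_iff]
    intro y
    exact Subtype.ext (hxC y y.2)

theorem card_center_eq (Q : Subgroup P) :
    Nat.card (Subgroup.center ↥Q) = Nat.card ↥(Q ⊓ Subgroup.centralizer (Q : Set P)) := by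
  rw [← map_center_eq, Subgroup.card_map_of_injective Q.subtype_injective]

/-- The measure `|Q| * |Z(Q)|`, with `Z(Q)` written inside `P`. -/
noncomputable def clMeasure (Q : Subgroup P) : ℕ :=
  Nat.card Q * Nat.card ↥(Q ⊓ Subgroup.centralizer (Q : Set P))

theorem isCentrallyLarge_iff (Q : Subgroup P) :
    Cfsg.IsCentrallyLarge Q ↔ clMeasure Q = Cfsg.maxCentralProduct P := by
  unfold Cfsg.IsCentrallyLarge clMeasure
  rw [card_center_eq]

theorem clMeasure_le_cdMeasure [Finite P] (Q : Subgroup P) : clMeasure Q ≤ cdMeasure Q :=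
  Nat.mul_le_mul_left _ (Nat.card_mono (Set.toFinite _) (SetLike.coe_subset_coe.mpr inf_le_right))

theorem clMeasure_eq_cdMeasure_of_le (Q : Subgroup P)
    (h : Subgroup.centralizer (Q : Set P) ≤ Q) : clMeasure Q = cdMeasure Q := by
  unfold clMeasure cdMeasure
  rw [inf_eq_right.mpr h]

theorem bddAbove_centralProduct (P : Type*) [Group P] [Finite P] :
    BddAbove {k : ℕ | ∃ R : Subgroup P, Nat.card ↥R * Nat.card ↥(Subgroup.center ↥R) = k} := by
  refine ⟨Nat.card P * Nat.card P, ?_⟩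
  rintro k ⟨R, rfl⟩
  refine Nat.mul_le_mul (Subgroup.card_le_card_group R) ?_
  rw [card_center_eq]
  exact Subgroup.card_le_card_group _

theorem clMeasure_le_max [Finite P] (X : Subgroup P) : clMeasure X ≤ Cfsg.maxCentralProduct P := by
  apply le_csSup (bddAbove_centralProduct P)
  exact ⟨X, by rw [card_center_eq]; rfl⟩

/-- Glauberman: `f(P) = f₁(P)`. -/
theorem maxCentralProduct_eq (P : Type*) [Group P] [Finite P] :
    Cfsg.maxCentralProduct P = Cfsg.maxCentralizerProduct P := by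
  apply le_antisymm
  · have hne : {k : ℕ | ∃ R : Subgroup P,
        Nat.card ↥R * Nat.card ↥(Subgroup.center ↥R) = k}.Nonempty := ⟨_, ⊥, rfl⟩
    apply csSup_le hne
    rintro k ⟨R, rfl⟩
    rw [card_center_eq]
    exact (clMeasure_le_cdMeasure R).trans (cdMeasure_le_max P R)
  · obtain ⟨X, hX⟩ := exists_isCentralizerLarge P
    have hM := cdMeasure_le_max P
    have hX' : cdMeasure X = Cfsg.maxCentralizerProduct P := hX
    obtain ⟨hC, hCC⟩ := cd_centralizer X _ hM hX'
    obtain ⟨-, h2, -, -⟩ := cd_core X (Subgroup.centralizer (X : Set P)) _ hM hX' hC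
    have hle : Subgroup.centralizer ((X ⊔ Subgroup.centralizer (X : Set P) : Subgroup P) : Set P) ≤
        X ⊔ Subgroup.centralizer (X : Set P) := by
      rw [centralizer_sup, ← hCC]
      exact inf_le_right.trans le_sup_left
    rw [← h2, ← clMeasure_eq_cdMeasure_of_le _ hle]
    exact clMeasure_le_max _

/-- `Q` is centrally large iff it has maximal Chermak–Delgado measure and `C_P(Q) ≤ Q`. -/
theorem isCentrallyLarge_iff_cd [Finite P] (Q : Subgroup P) :
    Cfsg.IsCentrallyLarge Q ↔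
      Cfsg.IsCentralizerLarge Q ∧ Subgroup.centralizer (Q : Set P) ≤ Q := by
  rw [isCentrallyLarge_iff, isCentralizerLarge_iff, maxCentralProduct_eq]
  constructor
  · intro h
    have h1 := clMeasure_le_cdMeasure Q
    have h2 := cdMeasure_le_max P Q
    have h3 : cdMeasure Q = Cfsg.maxCentralizerProduct P := le_antisymm h2 (h ▸ h1)
    refine ⟨h3, ?_⟩
    have h4 : clMeasure Q = cdMeasure Q := by rw [h, h3]
    unfold clMeasure cdMeasure at h4
    have h5 := Nat.eq_of_mul_eq_mul_left Nat.card_pos h4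
    have h6 : Q ⊓ Subgroup.centralizer (Q : Set P) = Subgroup.centralizer (Q : Set P) :=
      Subgroup.eq_of_le_of_card_ge inf_le_right h5.ge
    exact inf_eq_right.mp h6
  · rintro ⟨h1, h2⟩
    rw [clMeasure_eq_cdMeasure_of_le Q h2, h1]

/-- Products of centrally large subgroups are centrally large subgroups. -/
theorem isCentrallyLarge_sup [Finite P] (Q R : Subgroup P) (hQ : Cfsg.IsCentrallyLarge Q)
    (hR : Cfsg.IsCentrallyLarge R) :
    ((Q ⊔ R : Subgroup P) : Set P) = (Q : Set P) * (R : Set P) ∧ Cfsg.IsCentrallyLarge (Q ⊔ R) := by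
  rw [isCentrallyLarge_iff_cd] at hQ hR
  obtain ⟨-, h2, h3, -⟩ := cd_core Q R _ (cdMeasure_le_max P) hQ.1 hR.1
  refine ⟨h3, ?_⟩
  rw [isCentrallyLarge_iff_cd]
  refine ⟨h2, ?_⟩
  rw [centralizer_sup]
  exact inf_le_left.trans (hQ.2.trans le_sup_left)

theorem supClosed_isCentrallyLarge [Finite P] :
    SupClosed {Q : Subgroup P | Cfsg.IsCentrallyLarge Q} :=
  fun Q hQ R hR => (isCentrallyLarge_sup Q R hQ hR).2

theorem exists_isCentrallyLarge (P : Type*) [Group P] [Finite P] :
    ∃ X : Subgroup P, Cfsg.IsCentrallyLarge X := by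
  have hne : {k : ℕ | ∃ R : Subgroup P,
      Nat.card ↥R * Nat.card ↥(Subgroup.center ↥R) = k}.Nonempty := ⟨_, ⊥, rfl⟩
  obtain ⟨X, hX⟩ := Nat.sSup_mem hne (bddAbove_centralProduct P)
  exact ⟨X, hX⟩

theorem isMinimalCentrallyLarge_iff (Q : Subgroup P) :
    Cfsg.IsMinimalCentrallyLarge Q ↔ Minimal (fun R : Subgroup P => Cfsg.IsCentrallyLarge R) Q := by
  unfold Cfsg.IsMinimalCentrallyLarge Minimal
  constructor
  · rintro ⟨h1, h2⟩
    exact ⟨h1, fun y hy hle => (h2 y hle hy).ge⟩
  · rintro ⟨h1, h2⟩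
    exact ⟨h1, fun y hle hy => le_antisymm hle (h2 hy hle)⟩

/-- Every centrally large subgroup contains a minimal one. -/
theorem exists_isMinimalCentrallyLarge_le [Finite P] (Q : Subgroup P)
    (hQ : Cfsg.IsCentrallyLarge Q) : ∃ R ≤ Q, Cfsg.IsMinimalCentrallyLarge R := by
  obtain ⟨R, hRQ, hR⟩ := exists_minimal_le_of_wellFoundedLT
    (fun R : Subgroup P => Cfsg.IsCentrallyLarge R) Q hQ
  exact ⟨R, hRQ, (isMinimalCentrallyLarge_iff R).mpr hR⟩

theorem exists_isMinimalCentrallyLarge (P : Type*) [Group P] [Finite P] :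
    ∃ R : Subgroup P, Cfsg.IsMinimalCentrallyLarge R := by
  obtain ⟨Q, hQ⟩ := exists_isCentrallyLarge P
  obtain ⟨R, -, hR⟩ := exists_isMinimalCentrallyLarge_le Q hQ
  exact ⟨R, hR⟩

/-- `P_CL` is centrally large. -/
theorem isCentrallyLarge_centrallyLargeJoin (P : Type*) [Group P] [Finite P] :
    Cfsg.IsCentrallyLarge (Cfsg.centrallyLargeJoin P) := by
  apply supClosed_isCentrallyLarge.sSup_mem_of_nonempty (Set.toFinite _) (exists_isCentrallyLarge P)
  exact fun _ h => h

/-- `P_MCL` is centrally large. -/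
theorem isCentrallyLarge_minimalCentrallyLargeJoin (P : Type*) [Group P] [Finite P] :
    Cfsg.IsCentrallyLarge (Cfsg.minimalCentrallyLargeJoin P) := by
  apply supClosed_isCentrallyLarge.sSup_mem_of_nonempty (Set.toFinite _)
    (exists_isMinimalCentrallyLarge P)
  exact fun _ h => h.1

end Cfsg.Agent.Lib.Helper50
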