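import Mathlib
import Cfsg.Agent.Lib.Helper84.FTr.Core

/-!
# Transport of fusion systems, module [EXT]: the extension condition of normal subsystems
-/

set_option autoImplicit false
set_option linter.unusedSectionVars false

namespace Cfsg.Agent.Lib.Helper50.FTr

open Cfsg Cfsg.FusionSystem Cfsg.Agent.Lib.Helper84.FTr

variable {Ω : Type*} [Group Ω] {Ω' : Type*} [Group Ω'] {S : Subgroup Ω} {S' : Subgroup Ω'}

theorem im_sup (e : S ≃* S') {P Q : Subgroup Ω} (hP : P ≤ S) (hQ : Q ≤ S) :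
    im e (P ⊔ Q) = im e P ⊔ im e Q := by
  show ((P ⊔ Q).subgroupOf S).map (pairHom e) = (P.subgroupOf S).map (pairHom e) ⊔
    (Q.subgroupOf S).map (pairHom e)
  rw [Subgroup.subgroupOf_sup hP hQ, Subgroup.map_sup]

/-- `e x` commutes with `e t` iff `x` commutes with `t` -/
theorem apply_mul_comm_iff (e : S ≃* S') {x t : Ω} (hx : x ∈ S) (ht : t ∈ S) :
    (e ⟨t, ht⟩ : Ω') * (e ⟨x, hx⟩ : Ω') = (e ⟨x, hx⟩ : Ω') * (e ⟨t, ht⟩ : Ω') ↔ t * x = x * t := by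
  constructor
  · intro h
    have h1 : e (⟨t, ht⟩ * ⟨x, hx⟩) = e (⟨x, hx⟩ * ⟨t, ht⟩) := by
      rw [map_mul, map_mul]; exact Subtype.ext h
    exact congrArg Subtype.val (e.injective h1)
  · intro h
    have h1 : (⟨t, ht⟩ * ⟨x, hx⟩ : S) = ⟨x, hx⟩ * ⟨t, ht⟩ := Subtype.ext h
    have h2 : e (⟨t, ht⟩ * ⟨x, hx⟩) = e (⟨x, hx⟩ * ⟨t, ht⟩) := by rw [h1]
    rw [map_mul, map_mul] at h2
    exact congrArg Subtype.val h2

theorem mem_centralizer_im_iff (e : S ≃* S') {T : Subgroup Ω} (hT : T ≤ S) {x : Ω} (hx : x ∈ S) :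
    (e ⟨x, hx⟩ : Ω') ∈ Subgroup.centralizer ((im e T : Subgroup Ω') : Set Ω') ↔
      x ∈ Subgroup.centralizer (T : Set Ω) := by
  rw [Subgroup.mem_centralizer_iff, Subgroup.mem_centralizer_iff]
  constructor
  · intro h t ht
    exact (apply_mul_comm_iff e hx (hT ht)).1 (h _ (apply_mem_im e (hT ht) ht))
  · intro h y hy
    obtain ⟨t, htS, ht, rfl⟩ := (mem_im_iff e T y).1 hy
    exact (apply_mul_comm_iff e hx htS).2 (h t ht)

theorem centralizerIn_im (e : S ≃* S') {T U : Subgroup Ω} (hT : T ≤ S) :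
    centralizerIn (im e U) (im e T) = im e (centralizerIn U T) := by
  ext y
  unfold centralizerIn
  constructor
  · intro hy
    obtain ⟨hyU, hyC⟩ := Subgroup.mem_inf.1 hy
    obtain ⟨x, hx, hxU, rfl⟩ := (mem_im_iff e U y).1 hyU
    exact (mem_im_iff e _ _).2
      ⟨x, hx, Subgroup.mem_inf.2 ⟨hxU, (mem_centralizer_im_iff e hT hx).1 hyC⟩, rfl⟩
  · intro hy
    obtain ⟨x, hx, hxUC, rfl⟩ := (mem_im_iff e _ y).1 hy
    obtain ⟨hxU, hxC⟩ := Subgroup.mem_inf.1 hxUC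
    exact Subgroup.mem_inf.2 ⟨apply_mem_im e hx hxU, (mem_centralizer_im_iff e hT hx).2 hxC⟩

/-- the core of [EXT], for a target `Q'` only propositionally equal to `im e R` -/
theorem ext_aux {e : S ≃* S'} {T U : Subgroup Ω} {E : FusionSystem T} {D : FusionSystem U}
    {E' : FusionSystem (im e T)} {D' : FusionSystem (im e U)}
    (hE : Corr e E E') (hD : Corr e D D') (R : Subgroup Ω) (hTR : T ≤ R) (hRU : R ≤ U)
    (α : MulAut T) (β : MulAut R) (hβ : β ∈ D.autGroup R)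
    (h1 : ∀ x : T, ((β (Subgroup.inclusion hTR x) : R) : Ω) = ((α x : T) : Ω))
    (h2 : ∀ c : R, (c : Ω) ∈ centralizerIn U T →
        (c : Ω)⁻¹ * ((β c : R) : Ω) ∈ T ⊓ Subgroup.centralizer (T : Set Ω))
    (Q' : Subgroup Ω') (hQ' : Q' = im e R) (hle : im e T ≤ Q') :
    ∃ β' ∈ D'.autGroup Q',
      (∀ x : im e T, ((β' (Subgroup.inclusion hle x) : Q') : Ω') =
        ((autCongr e hE.le α x : im e T) : Ω')) ∧
      ∀ c : Q', (c : Ω') ∈ centralizerIn (im e U) (im e T) →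
        (c : Ω')⁻¹ * ((β' c : Q') : Ω') ∈
          im e T ⊓ Subgroup.centralizer ((im e T : Subgroup Ω') : Set Ω') := by
  subst hQ'
  have hTS : T ≤ S := hE.le
  have hUS : U ≤ S := hD.le
  have hRS : R ≤ S := hRU.trans hUS
  refine ⟨autCongr e hRS β, (hD.autCongr_mem_autGroup_iff hRU β).2 hβ, ?_, ?_⟩
  · rintro ⟨y, hy⟩
    obtain ⟨x, hxS, hxT, rfl⟩ := (mem_im_iff e T y).1 hy
    have e1 := autCongr_apply_coe e hRS β ⟨x, hTR hxT⟩ (apply_mem_im e hxS (hTR hxT))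
    have e2 := autCongr_apply_coe e hTS α ⟨x, hxT⟩ hy
    have e3 := h1 ⟨x, hxT⟩
    show ((autCongr e hRS β ⟨(e ⟨x, hxS⟩ : Ω'), _⟩ : im e R) : Ω') = _
    rw [e1, e2]
    congr 2
    exact Subtype.ext e3
  · rintro ⟨y, hy⟩ hyC
    obtain ⟨c, hcS, hcR, rfl⟩ := (mem_im_iff e R y).1 hy
    rw [centralizerIn_im e hTS] at hyC
    have hcC : c ∈ centralizerIn U T := mem_of_apply_mem_im e hcS hyC
    have e1 := autCongr_apply_coe e hRS β ⟨c, hcR⟩ hy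
    have e2 := h2 ⟨c, hcR⟩ hcC
    have hβcS : ((β ⟨c, hcR⟩ : R) : Ω) ∈ S := hRS (β ⟨c, hcR⟩).2
    have hzS : c⁻¹ * ((β ⟨c, hcR⟩ : R) : Ω) ∈ S := S.mul_mem (S.inv_mem hcS) hβcS
    have e3 : (e ⟨c, hcS⟩ : Ω')⁻¹ * ((autCongr e hRS β ⟨(e ⟨c, hcS⟩ : Ω'), hy⟩ : im e R) : Ω') =
        (e ⟨c⁻¹ * ((β ⟨c, hcR⟩ : R) : Ω), hzS⟩ : Ω') := by
      rw [e1]
      have h3 : (⟨c⁻¹ * ((β ⟨c, hcR⟩ : R) : Ω), hzS⟩ : S) =
          (⟨c, hcS⟩ : S)⁻¹ * ⟨((β ⟨c, hcR⟩ : R) : Ω), hβcS⟩ := rfl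
      rw [h3, map_mul, map_inv]
      rfl
    show (e ⟨c, hcS⟩ : Ω')⁻¹ * ((autCongr e hRS β ⟨(e ⟨c, hcS⟩ : Ω'), hy⟩ : im e R) : Ω') ∈ _
    rw [e3, Subgroup.mem_inf]
    rw [Subgroup.mem_inf] at e2
    exact ⟨apply_mem_im e hzS e2.1, (mem_centralizer_im_iff e hTS hzS).2 e2.2⟩

theorem corr_extension {e : S ≃* S'} {T U : Subgroup Ω} {E : FusionSystem T} {D : FusionSystem U}
    {T' U' : Subgroup Ω'} {E' : FusionSystem T'} {D' : FusionSystem U'}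
    (hE : Corr e E E') (hD : Corr e D D') (hTU : T ≤ U)
    (h : ∀ α ∈ E.autGroup T, ∃ β ∈ D.autGroup (T ⊔ centralizerIn U T),
      (∀ x : T, ((β (Subgroup.inclusion le_sup_left x) : ↥(T ⊔ centralizerIn U T)) : Ω) = ((α x : T) : Ω)) ∧
      ∀ c : ↥(T ⊔ centralizerIn U T), (c : Ω) ∈ centralizerIn U T →
        (c : Ω)⁻¹ * ((β c : ↥(T ⊔ centralizerIn U T)) : Ω) ∈ T ⊓ Subgroup.centralizer (T : Set Ω)) :
    ∀ α ∈ E'.autGroup T', ∃ β ∈ D'.autGroup (T' ⊔ centralizerIn U' T'),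
      (∀ x : T', ((β (Subgroup.inclusion le_sup_left x) : ↥(T' ⊔ centralizerIn U' T')) : Ω') = ((α x : T') : Ω')) ∧
      ∀ c : ↥(T' ⊔ centralizerIn U' T'), (c : Ω') ∈ centralizerIn U' T' →
        (c : Ω')⁻¹ * ((β c : ↥(T' ⊔ centralizerIn U' T')) : Ω') ∈ T' ⊓ Subgroup.centralizer (T' : Set Ω') := by
  have hT' := hE.eq_im
  have hU' := hD.eq_im
  subst hT'
  subst hU'
  intro α' hα'
  have hTS : T ≤ S := hE.le
  have hUS : U ≤ S := hD.le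
  obtain ⟨α, hα, rfl⟩ := hE.exists_autCongr_eq (le_refl T) hα'
  obtain ⟨β, hβ, h1, h2⟩ := h α hα
  have hCU : centralizerIn U T ≤ U := inf_le_left
  have hRU : T ⊔ centralizerIn U T ≤ U := sup_le hTU hCU
  have hQ' : im e T ⊔ centralizerIn (im e U) (im e T) = im e (T ⊔ centralizerIn U T) := by
    rw [im_sup e hTS (hCU.trans hUS), centralizerIn_im e hTS]
  exact ext_aux hE hD (T ⊔ centralizerIn U T) le_sup_left hRU α β hβ h1 h2 _ hQ' le_sup_left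

end Cfsg.Agent.Lib.Helper50.FTr
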