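import Mathlib
import Cfsg.Agent.Lib.Helper84.FTr.Core

/-!
# Transport of fusion systems, module [HYP]: the hyperfocal subgroup
-/

set_option autoImplicit false
set_option linter.unusedSectionVars false

namespace Cfsg.Agent.Lib.Helper50.FTr

open Cfsg Cfsg.FusionSystem Cfsg.Agent.Lib.Helper84.FTr

variable {Ω : Type*} [Group Ω] {Ω' : Type*} [Group Ω'] {S : Subgroup Ω} {S' : Subgroup Ω'}

/-- an injective homomorphism maps `O^p` into `O^p` -/
theorem map_mem_pResidual {A B : Type*} [Group A] [Group B] (f : A →* B) (hf : Function.Injective f)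
    (p : ℕ) {a : A} (ha : a ∈ pResidual p A) : f a ∈ pResidual p B := by
  have h1 : (pResidual p A).map f ≤ pResidual p B := by
    unfold pResidual
    rw [MonoidHom.map_closure]
    apply Subgroup.closure_mono
    rintro _ ⟨g, hg, rfl⟩
    show Nat.Coprime (orderOf (f g)) p
    rw [orderOf_injective f hf]
    exact hg
  exact h1 ⟨a, ha, rfl⟩

theorem hyperfocalSubgroup_le {T : Subgroup Ω} (E : FusionSystem T) (p : ℕ) :
    E.hyperfocalSubgroup p ≤ T := by
  unfold hyperfocalSubgroup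
  rw [Subgroup.closure_le]
  rintro y ⟨P, α, x, hP, -, rfl⟩
  exact T.mul_mem (T.inv_mem (hP x.2)) (hP ((α : MulAut P) x).2)

/-- the transported automorphism, as an element of the automorphism group of `E'` -/
noncomputable def autHom {e : S ≃* S'} {T : Subgroup Ω} {E : FusionSystem T} {T' : Subgroup Ω'}
    {E' : FusionSystem T'} (h : Corr e E E') {P : Subgroup Ω} (hP : P ≤ T) :
    E.autGroup P →* E'.autGroup (im e P) :=
  ((autCongr e (hP.trans h.le)).toMonoidHom.comp (E.autGroup P).subtype).codRestrict _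
    (fun α => (h.autCongr_mem_autGroup_iff hP α.1).2 α.2)

theorem autHom_injective {e : S ≃* S'} {T : Subgroup Ω} {E : FusionSystem T} {T' : Subgroup Ω'}
    {E' : FusionSystem T'} (h : Corr e E E') {P : Subgroup Ω} (hP : P ≤ T) :
    Function.Injective (autHom h hP) := by
  intro a b hab
  have h1 := congrArg Subtype.val hab
  have h2 : autCongr e (hP.trans h.le) a.1 = autCongr e (hP.trans h.le) b.1 := h1
  exact Subtype.ext ((autCongr e (hP.trans h.le)).injective h2)

theorem autHom_coe {e : S ≃* S'} {T : Subgroup Ω} {E : FusionSystem T} {T' : Subgroup Ω'}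
    {E' : FusionSystem T'} (h : Corr e E E') {P : Subgroup Ω} (hP : P ≤ T) (α : E.autGroup P) :
    ((autHom h hP α : E'.autGroup (im e P)) : MulAut (im e P)) = autCongr e (hP.trans h.le) α.1 := rfl

/-- one inclusion -/
theorem im_hyperfocalSubgroup_le {e : S ≃* S'} {T : Subgroup Ω} {E : FusionSystem T}
    {T' : Subgroup Ω'} {E' : FusionSystem T'} (h : Corr e E E') (p : ℕ) :
    im e (E.hyperfocalSubgroup p) ≤ E'.hyperfocalSubgroup p := by
  have hTS : T ≤ S := h.le
  have key : E.hyperfocalSubgroup p ≤ preimageAlong (pairHom e) (E'.hyperfocalSubgroup p) := by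
    unfold hyperfocalSubgroup
    rw [Subgroup.closure_le]
    rintro y ⟨P, α, x, hP, hα, rfl⟩
    have hPS : P ≤ S := hP.trans hTS
    have hxS : (x : Ω) ∈ S := hPS x.2
    have hαxS : (((α : MulAut P) x : P) : Ω) ∈ S := hPS ((α : MulAut P) x).2
    have hyS : (x : Ω)⁻¹ * (((α : MulAut P) x : P) : Ω) ∈ S := S.mul_mem (S.inv_mem hxS) hαxS
    refine ⟨⟨_, hyS⟩, ?_, rfl⟩
    show pairHom e ⟨_, hyS⟩ ∈ Subgroup.closure _
    apply Subgroup.subset_closure
    have hmem : (e ⟨x, hPS x.2⟩ : Ω') ∈ im e P := apply_mem_im e (hPS x.2) x.2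
    refine ⟨im e P, autHom h hP α, ⟨e ⟨x, hPS x.2⟩, hmem⟩, ?_, ?_, ?_⟩
    · rw [h.eq_im]; exact im_mono e hP
    · exact map_mem_pResidual (autHom h hP) (autHom_injective h hP) p hα
    · rw [autHom_coe, autCongr_apply_coe]
      have h1 : (⟨(x : Ω)⁻¹ * (((α : MulAut P) x : P) : Ω), hyS⟩ : S) =
          (⟨x, hxS⟩ : S)⁻¹ * ⟨((α : MulAut P) x : P), hαxS⟩ := rfl
      rw [pairHom_apply, h1, map_mul, map_inv]
      rfl
  intro y hy
  obtain ⟨x, hx, hxK, rfl⟩ := (mem_im_iff e _ y).1 hy
  obtain ⟨s, hs, hsx⟩ := key hxK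
  have : s = ⟨x, hx⟩ := Subtype.ext hsx
  rw [← this]
  exact hs

theorem corr_hyperfocalSubgroup {e : S ≃* S'} {T : Subgroup Ω} {E : FusionSystem T} {T' : Subgroup Ω'}
    {E' : FusionSystem T'} (h : Corr e E E') (p : ℕ) :
    E'.hyperfocalSubgroup p = im e (E.hyperfocalSubgroup p) := by
  apply le_antisymm
  · have h1 := im_hyperfocalSubgroup_le h.symm p
    have h2 := im_mono e h1
    have h3 : E'.hyperfocalSubgroup p ≤ S' := (hyperfocalSubgroup_le E' p).trans h.le'
    rwa [im_im_symm e h3] at h2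
  · exact im_hyperfocalSubgroup_le h p

end Cfsg.Agent.Lib.Helper50.FTr
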