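import Mathlib
import Cfsg.Prelude.Def_GeometricClasses
import Cfsg.Agent.Lib.Helper99.AschDefs

/-!
# ASCH-[D2FORM], part A (helper99's project ASCH, S5630): the tensor power of the symplectic plane (helper50)

`JJ k = ω ⊗ … ⊗ ω` on functions `Fin k → Fin 2`; it is invariant under `slotMatrix i a` for `det a = 1`,
`JJ * JJ = (-1)^k`, `JJᵀ = (-1)^k JJ`, zero diagonal for `k ≥ 1`.
-/

set_option autoImplicit false
set_option linter.unusedSectionVars false
set_option linter.unusedVariables false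

namespace Cfsg.Agent.Lib.Helper50.AschD2Form

open Cfsg Cfsg.Geo Cfsg.Agent.Lib.Helper99.Asch
open scoped MatrixGroups Matrix Kronecker

variable {F : Type*} [Field F]

/-- the symplectic `2 × 2` matrix -/
def om : Matrix (Fin 2) (Fin 2) F := !![0, 1; -1, 0]

/-- `J = ω ⊗ ... ⊗ ω` -/
def JJ (k : ℕ) : Matrix (Fin k → Fin 2) (Fin k → Fin 2) F := fun x y => ∏ i, om (x i) (y i)

/-- the same with the slot `i` removed -/
def JJ' {k : ℕ} (i : Fin k) : Matrix ({j // j ≠ i} → Fin 2) ({j // j ≠ i} → Fin 2) F :=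
  fun x y => ∏ j, om (x j) (y j)

theorem om_transpose : (om : Matrix (Fin 2) (Fin 2) F)ᵀ = -om := by
  ext s t
  fin_cases s <;> fin_cases t <;> simp [om]

theorem om_diag (s : Fin 2) : (om : Matrix (Fin 2) (Fin 2) F) s s = 0 := by
  fin_cases s <;> simp [om]

theorem om_mul_om : (om : Matrix (Fin 2) (Fin 2) F) * om = -1 := by
  ext s t
  fin_cases s <;> fin_cases t <;> simp [om, Matrix.mul_apply, Fin.sum_univ_two]

theorem transpose_om_mul (a : Matrix (Fin 2) (Fin 2) F) : aᵀ * om * a = a.det • om := by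
  ext s t
  fin_cases s <;> fin_cases t <;>
    simp [om, Matrix.mul_apply, Fin.sum_univ_two, Matrix.det_fin_two] <;> ring

theorem slotMatrix_eq {k : ℕ} (i : Fin k) (a : Matrix (Fin 2) (Fin 2) F) :
    slotMatrix i a = (a ⊗ₖ (1 : Matrix ({j // j ≠ i} → Fin 2) ({j // j ≠ i} → Fin 2) F)).submatrix
      (Equiv.funSplitAt i (Fin 2)) (Equiv.funSplitAt i (Fin 2)) := by
  ext x y
  simp only [slotMatrix, Matrix.submatrix_apply, Matrix.kroneckerMap_apply, Equiv.funSplitAt_apply,
    Matrix.one_apply]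
  have hiff : (∀ j, j ≠ i → x j = y j) ↔
      ((fun j : {j // j ≠ i} => x j) = fun j : {j // j ≠ i} => y j) := by
    constructor
    · intro h; funext j; exact h j j.2
    · intro h j hj; exact congrFun h ⟨j, hj⟩
  by_cases h : ∀ j, j ≠ i → x j = y j
  · rw [if_pos h, if_pos (hiff.mp h), mul_one]
  · rw [if_neg h, if_neg (fun h' => h (hiff.mpr h')), mul_zero]

theorem JJ_eq {k : ℕ} (i : Fin k) :
    (JJ k : Matrix _ _ F) = ((om : Matrix (Fin 2) (Fin 2) F) ⊗ₖ (JJ' i : Matrix _ _ F)).submatrix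
      (Equiv.funSplitAt i (Fin 2)) (Equiv.funSplitAt i (Fin 2)) := by
  ext x y
  simp only [JJ, JJ', Matrix.submatrix_apply, Matrix.kroneckerMap_apply, Equiv.funSplitAt_apply]
  exact Fintype.prod_eq_mul_prod_subtype_ne (fun j => om (x j) (y j)) i

/-- invariance of `J` under a slot matrix of determinant one -/
theorem slot_transpose_JJ_mul {k : ℕ} (i : Fin k) (a : Matrix (Fin 2) (Fin 2) F) (ha : a.det = 1) :
    (slotMatrix i a)ᵀ * (JJ k : Matrix _ _ F) * slotMatrix i a = JJ k := by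
  rw [slotMatrix_eq, JJ_eq i, Matrix.transpose_submatrix, Matrix.submatrix_mul_equiv,
    Matrix.submatrix_mul_equiv, ← Matrix.kroneckerMap_transpose, ← Matrix.mul_kronecker_mul,
    ← Matrix.mul_kronecker_mul, transpose_om_mul, ha, one_smul, Matrix.transpose_one, Matrix.one_mul,
    Matrix.mul_one]

theorem slotMatrix_one {k : ℕ} (i : Fin k) :
    slotMatrix i (1 : Matrix (Fin 2) (Fin 2) F) = 1 := by
  rw [slotMatrix_eq, Matrix.one_kronecker_one, Matrix.submatrix_one_equiv]

theorem slotMatrix_mul {k : ℕ} (i : Fin k) (a b : Matrix (Fin 2) (Fin 2) F) :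
    slotMatrix i (a * b) = slotMatrix i a * slotMatrix i b := by
  rw [slotMatrix_eq, slotMatrix_eq, slotMatrix_eq, Matrix.submatrix_mul_equiv,
    ← Matrix.mul_kronecker_mul, Matrix.one_mul]

theorem JJ_transpose (k : ℕ) : (JJ k : Matrix _ _ F)ᵀ = (-1 : F) ^ k • JJ k := by
  ext x y
  simp only [JJ, Matrix.transpose_apply, Matrix.smul_apply, smul_eq_mul]
  have h1 : ∀ j, (om : Matrix (Fin 2) (Fin 2) F) (y j) (x j) = (-1 : F) * om (x j) (y j) := by
    intro j
    have h2 := congrFun (congrFun (om_transpose (F := F)) (x j)) (y j)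
    simp only [Matrix.transpose_apply, Matrix.neg_apply] at h2
    rw [h2]; ring
  rw [Finset.prod_congr rfl (fun j _ => h1 j), Finset.prod_mul_distrib, Finset.prod_const,
    Finset.card_univ, Fintype.card_fin]

theorem JJ_diag {k : ℕ} (hk : 0 < k) (x : Fin k → Fin 2) : (JJ k : Matrix _ _ F) x x = 0 := by
  simp only [JJ]
  exact Finset.prod_eq_zero (Finset.mem_univ (⟨0, hk⟩ : Fin k)) (om_diag _)

theorem JJ_mul_JJ (k : ℕ) : (JJ k : Matrix _ _ F) * JJ k = (-1 : F) ^ k • (1 : Matrix _ _ F) := by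
  ext x z
  simp only [Matrix.mul_apply, JJ, Matrix.smul_apply, smul_eq_mul, Matrix.one_apply]
  have h1 : ∀ y : Fin k → Fin 2, (∏ i, (om : Matrix (Fin 2) (Fin 2) F) (x i) (y i)) * ∏ i, om (y i) (z i)
      = ∏ i, (om (x i) (y i) * om (y i) (z i)) := fun y => Finset.prod_mul_distrib.symm
  rw [Finset.sum_congr rfl (fun y _ => h1 y),
    ← Fintype.prod_sum (fun i (t : Fin 2) => (om : Matrix (Fin 2) (Fin 2) F) (x i) t * om t (z i))]
  have h2 : ∀ i, ∑ t : Fin 2, (om : Matrix (Fin 2) (Fin 2) F) (x i) t * om t (z i) =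
      (-1 : F) * (if x i = z i then 1 else 0) := by
    intro i
    have h3 := congrFun (congrFun (om_mul_om (F := F)) (x i)) (z i)
    rw [Matrix.mul_apply] at h3
    rw [h3, Matrix.neg_apply, Matrix.one_apply]; ring
  rw [Finset.prod_congr rfl (fun i _ => h2 i), Finset.prod_mul_distrib, Finset.prod_const,
    Finset.card_univ, Fintype.card_fin]
  congr 1
  by_cases hxz : x = z
  · rw [if_pos hxz]
    apply Finset.prod_eq_one
    intro i _
    rw [if_pos (congrFun hxz i)]
  · rw [if_neg hxz]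
    obtain ⟨i, hi⟩ := Function.ne_iff.mp hxz
    exact Finset.prod_eq_zero (Finset.mem_univ i) (if_neg hi)

end Cfsg.Agent.Lib.Helper50.AschD2Form
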