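import Mathlib
import Cfsg.Prelude.Def_GeometricClasses
import Cfsg.Agent.Lib.Helper99.AschDefs
import Cfsg.Agent.Lib.Helper50.AschD2FormA

/-!
# ASCH-[D2FORM], part B (helper99's project ASCH, S5630): forms given by a matrix (helper50)

For `J : Matrix ι ι F` and an invertible `Bm`: the form `g u v = (Bm u) ⬝ (J (Bm v))`.
-/

set_option autoImplicit false
set_option linter.unusedSectionVars false
set_option linter.unusedVariables false

namespace Cfsg.Agent.Lib.Helper50.AschD2Form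

open Cfsg Cfsg.Geo Cfsg.Agent.Lib.Helper99.Asch
open scoped MatrixGroups Matrix Kronecker

variable {F : Type*} [Field F] {ι : Type} [Fintype ι] [DecidableEq ι]

/-- the form of the matrix `J` transported by `Bm` -/
def gForm (J Bm : Matrix ι ι F) (u v : ι → F) : F := (Bm *ᵥ u) ⬝ᵥ (J *ᵥ (Bm *ᵥ v))

theorem dot_mulVec_swap (M : Matrix ι ι F) (u v : ι → F) :
    u ⬝ᵥ (M *ᵥ v) = v ⬝ᵥ (Mᵀ *ᵥ u) := by
  rw [Matrix.dotProduct_mulVec, dotProduct_comm, Matrix.mulVec_transpose]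

theorem gForm_swap (J Bm : Matrix ι ι F) (ε : F) (hJ : Jᵀ = ε • J) (u v : ι → F) :
    gForm J Bm u v = ε * gForm J Bm v u := by
  unfold gForm
  rw [dot_mulVec_swap, hJ, Matrix.smul_mulVec, dotProduct_smul, smul_eq_mul]

theorem gForm_bilinear (J Bm : Matrix ι ι F) : IsBilinearForm (gForm J Bm) := by
  constructor
  · intro x y v
    unfold gForm
    rw [Matrix.mulVec_add, add_dotProduct]
  · intro c x v
    unfold gForm
    rw [Matrix.mulVec_smul, smul_dotProduct, smul_eq_mul]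
  · intro v x y
    unfold gForm
    rw [Matrix.mulVec_add, Matrix.mulVec_add, dotProduct_add]
  · intro c v x
    unfold gForm
    rw [Matrix.mulVec_smul, Matrix.mulVec_smul, dotProduct_smul, smul_eq_mul]

theorem alt_of_skew (M : Matrix ι ι F) (hM : Mᵀ = -M) (hd : ∀ i, M i i = 0) (u : ι → F) :
    u ⬝ᵥ (M *ᵥ u) = 0 := by
  have h1 : u ⬝ᵥ (M *ᵥ u) = ∑ p : ι × ι, u p.1 * M p.1 p.2 * u p.2 := by
    simp only [dotProduct, Matrix.mulVec, Finset.mul_sum, Fintype.sum_prod_type, mul_assoc]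
  rw [h1]
  apply Finset.sum_ninvolution Prod.swap
  · intro p
    have h2 : M p.2 p.1 = - M p.1 p.2 := by
      have := congrFun (congrFun hM p.1) p.2
      simpa using this
    simp only [Prod.fst_swap, Prod.snd_swap]
    rw [h2]; ring
  · intro p hp hswap
    apply hp
    have h3 : p.1 = p.2 := by
      have := congrArg Prod.fst hswap
      simpa using this.symm
    rw [h3, hd]; ring
  · intro p; exact Finset.mem_univ _
  · intro p; exact Prod.swap_swap p

theorem gForm_alt (J Bm : Matrix ι ι F) (hJ : Jᵀ = -J) (hd : ∀ i, J i i = 0) (v : ι → F) :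
    gForm J Bm v v = 0 := alt_of_skew J hJ hd _

theorem gForm_nondeg (J Bm Bi : Matrix ι ι F) (hB : Bm * Bi = 1) (hB' : Bi * Bm = 1)
    (ε : F) (hε : ε ≠ 0) (hJ : Jᵀ = ε • J) (hJJ : J * J = ε • (1 : Matrix ι ι F)) :
    IsNondegenerateForm (gForm J Bm) := by
  have key : ∀ v : ι → F, v ≠ 0 → ∃ x, gForm J Bm x v ≠ 0 := by
    intro v hv
    have h1 : Bm *ᵥ v ≠ 0 := by
      intro h
      apply hv
      have h2 : Bi *ᵥ (Bm *ᵥ v) = v := by rw [Matrix.mulVec_mulVec, hB', Matrix.one_mulVec]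
      rw [← h2, h, Matrix.mulVec_zero]
    have h3 : J *ᵥ (Bm *ᵥ v) ≠ 0 := by
      intro h
      apply h1
      have h4 : J *ᵥ (J *ᵥ (Bm *ᵥ v)) = ε • (Bm *ᵥ v) := by
        rw [Matrix.mulVec_mulVec, hJJ, Matrix.smul_mulVec, Matrix.one_mulVec]
      rw [h, Matrix.mulVec_zero] at h4
      have h5 := h4.symm
      rcases smul_eq_zero.mp h5 with h6 | h6
      · exact absurd h6 hε
      · exact h6
    obtain ⟨i, hi⟩ := Function.ne_iff.mp h3
    refine ⟨Bi *ᵥ (Pi.single i 1), ?_⟩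
    unfold gForm
    rw [Matrix.mulVec_mulVec, hB, Matrix.one_mulVec, single_dotProduct, one_mul]
    exact hi
  intro v hv
  obtain ⟨x, hx⟩ := key v hv
  refine ⟨⟨x, hx⟩, ⟨x, ?_⟩⟩
  rw [gForm_swap J Bm ε hJ]
  exact mul_ne_zero hε hx

/-- invariance -/
theorem gForm_fix (J Bm xm C : Matrix ι ι F) (hC : Bm * xm = C * Bm) (hinv : Cᵀ * J * C = J)
    (u v : ι → F) : gForm J Bm (xm *ᵥ u) (xm *ᵥ v) = gForm J Bm u v := by
  unfold gForm
  have h0 : ∀ w : ι → F, Bm *ᵥ (xm *ᵥ w) = C *ᵥ (Bm *ᵥ w) := by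
    intro w
    rw [Matrix.mulVec_mulVec, hC, ← Matrix.mulVec_mulVec]
  rw [h0 u, h0 v]
  have h1 : ∀ (a b : ι → F), (C *ᵥ a) ⬝ᵥ b = a ⬝ᵥ (Cᵀ *ᵥ b) := by
    intro a b
    rw [dotProduct_comm, dot_mulVec_swap]
  rw [h1, Matrix.mulVec_mulVec, Matrix.mulVec_mulVec, hinv]

end Cfsg.Agent.Lib.Helper50.AschD2Form
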