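import Mathlib
import Cfsg.Prelude.Def_GeometricClasses
import Cfsg.Agent.Lib.Helper99.AschDefs
import Cfsg.Agent.Lib.Helper50.AschD2FormA
import Cfsg.Agent.Lib.Helper50.AschD2FormB

/-!
# ASCH-[D2FORM] `fixes_form_of_slots_two` (helper99's project ASCH, S5630): helper50

`P = ⨆ Q i` with `Q i` perfect acting in the `i`-th slot of `(F²)^{⊗ k}`: the tensor power `J` of the symplectic form
of the plane is `P`-invariant (`det = 1` on each slot since `Q i` is perfect).  `Jᵀ = (-1)^k J`, `J² = (-1)^k`, zero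
diagonal.  If `(-1)^k = -1` in `F` we get a symplectic form, otherwise (`k` even, `2 ≠ 0`) a quadratic form.
-/

set_option autoImplicit false
set_option linter.unusedSectionVars false
set_option linter.unusedVariables false

namespace Cfsg.Agent.Lib.Helper50.AschD2Form

open Cfsg Cfsg.Geo Cfsg.Agent.Lib.Helper99.Asch
open scoped MatrixGroups Matrix Kronecker commutatorElement

variable {n : ℕ} {F : Type*} [Field F]

/-- the matrix of `B x B⁻¹` -/
def cmat (B x : GL (Fin n) F) : Matrix (Fin n) (Fin n) F :=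
  ((B * x * B⁻¹ : GL (Fin n) F) : Matrix (Fin n) (Fin n) F)

theorem cmat_one (B : GL (Fin n) F) : cmat B 1 = 1 := by
  unfold cmat
  rw [mul_one, mul_inv_cancel]; rfl

theorem cmat_mul (B x y : GL (Fin n) F) : cmat B (x * y) = cmat B x * cmat B y := by
  unfold cmat
  rw [← Units.val_mul]
  congr 1
  group

theorem cmat_mul_B (B x : GL (Fin n) F) :
    (B : Matrix (Fin n) (Fin n) F) * (x : Matrix (Fin n) (Fin n) F) =
      cmat B x * (B : Matrix (Fin n) (Fin n) F) := by
  unfold cmat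
  rw [← Units.val_mul, ← Units.val_mul]
  congr 1
  group

/-- the isometry subgroup of `J` after conjugation by `B` -/
def isoSub (B : GL (Fin n) F) (J : Matrix (Fin n) (Fin n) F) : Subgroup (GL (Fin n) F) where
  carrier := {x | (cmat B x)ᵀ * J * cmat B x = J}
  one_mem' := by
    show (cmat B 1)ᵀ * J * cmat B 1 = J
    rw [cmat_one, Matrix.transpose_one, Matrix.one_mul, Matrix.mul_one]
  mul_mem' := by
    intro a b ha hb
    have ha' : (cmat B a)ᵀ * J * cmat B a = J := ha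
    have hb' : (cmat B b)ᵀ * J * cmat B b = J := hb
    show (cmat B (a * b))ᵀ * J * cmat B (a * b) = J
    rw [cmat_mul, Matrix.transpose_mul]
    calc (cmat B b)ᵀ * (cmat B a)ᵀ * J * (cmat B a * cmat B b)
        = (cmat B b)ᵀ * ((cmat B a)ᵀ * J * cmat B a) * cmat B b := by simp only [Matrix.mul_assoc]
      _ = J := by rw [ha', hb']
  inv_mem' := by
    intro a ha
    have ha' : (cmat B a)ᵀ * J * cmat B a = J := ha
    show (cmat B a⁻¹)ᵀ * J * cmat B a⁻¹ = J
    have h1 : cmat B a * cmat B a⁻¹ = 1 := by rw [← cmat_mul, mul_inv_cancel, cmat_one]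
    calc (cmat B a⁻¹)ᵀ * J * cmat B a⁻¹
        = (cmat B a⁻¹)ᵀ * ((cmat B a)ᵀ * J * cmat B a) * cmat B a⁻¹ := by rw [ha']
      _ = (cmat B a * cmat B a⁻¹)ᵀ * J * (cmat B a * cmat B a⁻¹) := by
          rw [Matrix.transpose_mul]; simp only [Matrix.mul_assoc]
      _ = J := by rw [h1, Matrix.transpose_one, Matrix.one_mul, Matrix.mul_one]

theorem mem_isoSub (B : GL (Fin n) F) (J : Matrix (Fin n) (Fin n) F) (x : GL (Fin n) F) :
    x ∈ isoSub B J ↔ (cmat B x)ᵀ * J * cmat B x = J := Iff.rfl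

/-- inverse of a slot element -/
theorem cmat_inv_of_slot {k : ℕ} (idx : Fin n ≃ (Fin k → Fin 2)) (B x : GL (Fin n) F) (i : Fin k)
    (a : GL (Fin 2) F)
    (h : cmat B x = (slotMatrix i (a : Matrix (Fin 2) (Fin 2) F)).submatrix idx idx) :
    cmat B x⁻¹ = (slotMatrix i ((a⁻¹ : GL (Fin 2) F) : Matrix (Fin 2) (Fin 2) F)).submatrix idx idx := by
  have h1 : cmat B x⁻¹ * cmat B x = 1 := by rw [← cmat_mul, inv_mul_cancel, cmat_one]
  have h2 : cmat B x *
      (slotMatrix i ((a⁻¹ : GL (Fin 2) F) : Matrix (Fin 2) (Fin 2) F)).submatrix idx idx = 1 := by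
    rw [h, Matrix.submatrix_mul_equiv, ← slotMatrix_mul, Units.mul_inv, slotMatrix_one,
      Matrix.submatrix_one_equiv]
  calc cmat B x⁻¹ = cmat B x⁻¹ * (cmat B x *
        (slotMatrix i ((a⁻¹ : GL (Fin 2) F) : Matrix (Fin 2) (Fin 2) F)).submatrix idx idx) := by
        rw [h2, Matrix.mul_one]
    _ = _ := by rw [← Matrix.mul_assoc, h1, Matrix.one_mul]

variable [Fintype F]

/-- **ASCH-[D2FORM]** -/
theorem fixes_form_of_slots_two {k : ℕ} (hk : 2 ≤ k) (P : Subgroup (GL (Fin n) F))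
    (Q : Fin k → Subgroup (GL (Fin n) F)) (hQ : iSup Q = P) (hperf : ∀ i, ⁅Q i, Q i⁆ = Q i)
    (idx : Fin n ≃ (Fin k → Fin 2)) (B : GL (Fin n) F)
    (hslot : ∀ i, ∀ x ∈ Q i, ∃ a : GL (Fin 2) F,
        ((B * x * B⁻¹ : GL (Fin n) F) : Matrix (Fin n) (Fin n) F) =
          Matrix.reindex idx.symm idx.symm (slotMatrix i (a : Matrix (Fin 2) (Fin 2) F))) :
    (∃ f : (Fin n → F) → (Fin n → F) → F, IsSymplecticForm f ∧ FixesForm (matrixSet P) f) ∨
    (∃ Q' : (Fin n → F) → F, IsNondegenerateQuadraticForm Q' ∧ FixesQuadForm (matrixSet P) Q') := by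
  classical
  have hslot' : ∀ i, ∀ x ∈ Q i, ∃ a : GL (Fin 2) F,
      cmat B x = (slotMatrix i (a : Matrix (Fin 2) (Fin 2) F)).submatrix idx idx := by
    intro i x hx
    obtain ⟨a, ha⟩ := hslot i x hx
    refine ⟨a, ?_⟩
    unfold cmat
    rw [ha, Matrix.reindex_apply, Equiv.symm_symm]
  obtain ⟨J', hJ'⟩ : ∃ J' : Matrix (Fin n) (Fin n) F, J' = (JJ k : Matrix _ _ F).submatrix idx idx :=
    ⟨_, rfl⟩
  -- invariance under a slot matrix of determinant one
  have hinvS : ∀ (i : Fin k) (c : Matrix (Fin 2) (Fin 2) F), c.det = 1 →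
      ((slotMatrix i c).submatrix idx idx)ᵀ * J' * (slotMatrix i c).submatrix idx idx = J' := by
    intro i c hc
    rw [hJ', Matrix.transpose_submatrix, Matrix.submatrix_mul_equiv, Matrix.submatrix_mul_equiv,
      slot_transpose_JJ_mul i c hc]
  -- each `Q i` preserves `J'`
  have hQle : ∀ i, Q i ≤ isoSub B J' := by
    intro i
    rw [← hperf i, Subgroup.commutator_le]
    intro x hx y hy
    obtain ⟨a, ha⟩ := hslot' i x hx
    obtain ⟨b, hb⟩ := hslot' i y hy
    have hai := cmat_inv_of_slot idx B x i a ha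
    have hbi := cmat_inv_of_slot idx B y i b hb
    have hc : cmat B ⁅x, y⁆ = (slotMatrix i ((a : Matrix (Fin 2) (Fin 2) F) * (b : Matrix (Fin 2) (Fin 2) F) *
        ((a⁻¹ : GL (Fin 2) F) : Matrix (Fin 2) (Fin 2) F) *
        ((b⁻¹ : GL (Fin 2) F) : Matrix (Fin 2) (Fin 2) F))).submatrix idx idx := by
      rw [commutatorElement_def, cmat_mul, cmat_mul, cmat_mul, ha, hb, hai, hbi,
        Matrix.submatrix_mul_equiv, Matrix.submatrix_mul_equiv, Matrix.submatrix_mul_equiv,
        ← slotMatrix_mul, ← slotMatrix_mul, ← slotMatrix_mul]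
    rw [mem_isoSub, hc]
    apply hinvS
    have hda : (a : Matrix (Fin 2) (Fin 2) F).det *
        ((a⁻¹ : GL (Fin 2) F) : Matrix (Fin 2) (Fin 2) F).det = 1 := by
      rw [← Matrix.det_mul, Units.mul_inv, Matrix.det_one]
    have hdb : (b : Matrix (Fin 2) (Fin 2) F).det *
        ((b⁻¹ : GL (Fin 2) F) : Matrix (Fin 2) (Fin 2) F).det = 1 := by
      rw [← Matrix.det_mul, Units.mul_inv, Matrix.det_one]
    rw [Matrix.det_mul, Matrix.det_mul, Matrix.det_mul]
    calc (a : Matrix (Fin 2) (Fin 2) F).det * (b : Matrix (Fin 2) (Fin 2) F).det *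
          ((a⁻¹ : GL (Fin 2) F) : Matrix (Fin 2) (Fin 2) F).det *
          ((b⁻¹ : GL (Fin 2) F) : Matrix (Fin 2) (Fin 2) F).det
        = ((a : Matrix (Fin 2) (Fin 2) F).det * ((a⁻¹ : GL (Fin 2) F) : Matrix (Fin 2) (Fin 2) F).det) *
          ((b : Matrix (Fin 2) (Fin 2) F).det * ((b⁻¹ : GL (Fin 2) F) : Matrix (Fin 2) (Fin 2) F).det) := by
          ring
      _ = 1 := by rw [hda, hdb, one_mul]
  have hPle : P ≤ isoSub B J' := by rw [← hQ]; exact iSup_le hQle
  -- data of `J'`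
  have hk0 : 0 < k := by omega
  have hJt : J'ᵀ = ((-1 : F) ^ k) • J' := by
    rw [hJ', Matrix.transpose_submatrix, JJ_transpose]; rfl
  have hJJ : J' * J' = ((-1 : F) ^ k) • (1 : Matrix (Fin n) (Fin n) F) := by
    rw [hJ', Matrix.submatrix_mul_equiv, JJ_mul_JJ]
    ext i j
    simp only [Matrix.submatrix_apply, Matrix.smul_apply, Matrix.one_apply,
      EmbeddingLike.apply_eq_iff_eq]
  have hdiag : ∀ i, J' i i = 0 := by
    intro i
    rw [hJ', Matrix.submatrix_apply]
    exact JJ_diag hk0 _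
  have hε0 : ((-1 : F) ^ k) ≠ 0 := pow_ne_zero _ (neg_ne_zero.mpr one_ne_zero)
  have hB : (B : Matrix (Fin n) (Fin n) F) * ((B⁻¹ : GL (Fin n) F) : Matrix (Fin n) (Fin n) F) = 1 :=
    Units.mul_inv B
  have hB' : ((B⁻¹ : GL (Fin n) F) : Matrix (Fin n) (Fin n) F) * (B : Matrix (Fin n) (Fin n) F) = 1 :=
    Units.inv_mul B
  have hnd : IsNondegenerateForm (gForm J' (B : Matrix (Fin n) (Fin n) F)) :=
    gForm_nondeg J' _ _ hB hB' _ hε0 hJt hJJ
  have hbil : IsBilinearForm (gForm J' (B : Matrix (Fin n) (Fin n) F)) := gForm_bilinear _ _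
  have hfix : ∀ s ∈ matrixSet P, ∀ u v,
      gForm J' (B : Matrix (Fin n) (Fin n) F) (s *ᵥ u) (s *ᵥ v) =
        gForm J' (B : Matrix (Fin n) (Fin n) F) u v := by
    rintro s ⟨x, hx, rfl⟩ u v
    exact gForm_fix J' _ _ (cmat B x) (cmat_mul_B B x) ((mem_isoSub B J' x).mp (hPle hx)) u v
  by_cases hε : ((-1 : F) ^ k) = -1
  · -- symplectic
    left
    have hJt' : J'ᵀ = -J' := by rw [hJt, hε, neg_smul, one_smul]
    refine ⟨gForm J' (B : Matrix (Fin n) (Fin n) F), ⟨hbil, ?_, ?_, hnd⟩, hfix⟩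
    · intro v w
      rw [gForm_swap J' _ _ hJt, hε, neg_one_mul]
    · intro v
      exact gForm_alt J' _ hJt' hdiag v
  · -- quadratic
    right
    have hε1 : ((-1 : F) ^ k) = 1 := by
      rcases neg_one_pow_eq_or F k with h | h
      · exact h
      · exact absurd h hε
    have h2 : (2 : F) ≠ 0 := by
      intro h
      apply hε
      rw [hε1]
      have : (1 : F) + 1 = 0 := by rw [one_add_one_eq_two]; exact h
      exact eq_neg_of_add_eq_zero_left this
    have hsym : ∀ u v, gForm J' (B : Matrix (Fin n) (Fin n) F) u v =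
        gForm J' (B : Matrix (Fin n) (Fin n) F) v u := by
      intro u v
      rw [gForm_swap J' _ _ hJt, hε1, one_mul]
    have hpol : ∀ v w, QuadraticMap.polar
        (fun v => gForm J' (B : Matrix (Fin n) (Fin n) F) v v) v w =
        2 * gForm J' (B : Matrix (Fin n) (Fin n) F) v w := by
      intro v w
      unfold QuadraticMap.polar
      simp only
      rw [hbil.add_left, hbil.add_right, hbil.add_right, hsym w v]
      ring
    refine ⟨fun v => gForm J' (B : Matrix (Fin n) (Fin n) F) v v, ⟨?_, ⟨?_, ?_, ?_, ?_⟩, ?_⟩, ?_⟩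
    · intro c v
      show gForm J' (B : Matrix (Fin n) (Fin n) F) (c • v) (c • v) =
        c ^ 2 * gForm J' (B : Matrix (Fin n) (Fin n) F) v v
      rw [hbil.smul_left, hbil.smul_right]; ring
    · intro x y v
      rw [hpol, hpol, hpol, hbil.add_left]; ring
    · intro c x v
      rw [hpol, hpol, hbil.smul_left]; ring
    · intro v x y
      rw [hpol, hpol, hpol, hbil.add_right]; ring
    · intro c v x
      rw [hpol, hpol, hbil.smul_right]; ring
    · intro v hv
      obtain ⟨⟨x, hx⟩, ⟨y, hy⟩⟩ := hnd v hv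
      exact ⟨⟨x, by rw [hpol]; exact mul_ne_zero h2 hx⟩, ⟨y, by rw [hpol]; exact mul_ne_zero h2 hy⟩⟩
    · intro s hs v
      exact hfix s hs v v

end Cfsg.Agent.Lib.Helper50.AschD2Form

namespace Cfsg.Agent.Lib.Helper99.Asch

open Cfsg Cfsg.Geo
open scoped MatrixGroups Matrix Kronecker

variable {n : ℕ} {F : Type*} [Field F] [Fintype F]

/-- ASCH-[D2FORM] (sheet name and statement; proof: `Helper50.AschD2Form.fixes_form_of_slots_two`). -/
theorem fixes_form_of_slots_two {k : ℕ} (hk : 2 ≤ k) (P : Subgroup (GL (Fin n) F))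
    (Q : Fin k → Subgroup (GL (Fin n) F)) (hQ : iSup Q = P) (hperf : ∀ i, ⁅Q i, Q i⁆ = Q i)
    (idx : Fin n ≃ (Fin k → Fin 2)) (B : GL (Fin n) F)
    (hslot : ∀ i, ∀ x ∈ Q i, ∃ a : GL (Fin 2) F,
        ((B * x * B⁻¹ : GL (Fin n) F) : Matrix (Fin n) (Fin n) F) =
          Matrix.reindex idx.symm idx.symm (slotMatrix i (a : Matrix (Fin 2) (Fin 2) F))) :
    (∃ f : (Fin n → F) → (Fin n → F) → F, IsSymplecticForm f ∧ FixesForm (matrixSet P) f) ∨
    (∃ Q' : (Fin n → F) → F, IsNondegenerateQuadraticForm Q' ∧ FixesQuadForm (matrixSet P) Q') :=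
  Cfsg.Agent.Lib.Helper50.AschD2Form.fixes_form_of_slots_two hk P Q hQ hperf idx B hslot

end Cfsg.Agent.Lib.Helper99.Asch
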