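import Mathlib
import Cfsg.Prelude.Def_GeometricClasses
import Cfsg.Agent.Lib.Helper99.AschDefs
import Cfsg.Agent.Lib.Helper5.AschODefs
import Cfsg.Agent.Lib.Helper5.AschODefsTr

/-!
# ASCHO transport kit (helper5's project ASCHO, S5673): helper50

The dictionary for the [TR-*] modules: `Le e : (ι → F) ≃ₗ (Fin n → F)`, `v ↦ v ∘ e.symm`;
`glReindex e g *ᵥ Le e v = Le e (g *ᵥ v)`; `reQ e Q (Le e v) = Q v`; the isometry group.
-/

set_option autoImplicit false
set_option linter.unusedSectionVars false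
set_option linter.unusedVariables false

namespace Cfsg.Agent.Lib.Helper50.AschOTr

open Cfsg Cfsg.Geo Cfsg.Agent.Lib.Helper99.Asch Cfsg.Agent.Lib.Helper5.AschO
open scoped MatrixGroups Matrix Kronecker

variable {ι : Type} [Fintype ι] [DecidableEq ι] {n : ℕ} {F : Type*} [Field F]

/-- the transport `v ↦ v ∘ e.symm` of coordinate vectors -/
def Le (e : ι ≃ Fin n) : (ι → F) ≃ₗ[F] (Fin n → F) := LinearEquiv.funCongrLeft F F e.symm

theorem Le_apply (e : ι ≃ Fin n) (v : ι → F) : Le e v = v ∘ e.symm := rfl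

theorem Le_symm_apply (e : ι ≃ Fin n) (w : Fin n → F) : (Le (F := F) e).symm w = w ∘ e := by
  apply (Le (F := F) e).injective
  rw [LinearEquiv.apply_symm_apply, Le_apply]
  ext i
  simp

theorem Le_comp (e : ι ≃ Fin n) (v : ι → F) : (Le e v) ∘ e = v := by
  ext i
  simp [Le_apply]

theorem glReindex_val (e : ι ≃ Fin n) (g : GL ι F) :
    ((glReindex e g : GL (Fin n) F) : Matrix (Fin n) (Fin n) F) =
      Matrix.reindex e e (g : Matrix ι ι F) := rfl

theorem glReindex_mulVec (e : ι ≃ Fin n) (g : GL ι F) (w : Fin n → F) :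
    ((glReindex e g : GL (Fin n) F) : Matrix (Fin n) (Fin n) F) *ᵥ w =
      ((g : Matrix ι ι F) *ᵥ (w ∘ e)) ∘ e.symm := by
  rw [glReindex_val, Matrix.reindex_apply, Matrix.submatrix_mulVec_equiv]
  simp

theorem glReindex_mulVec_Le (e : ι ≃ Fin n) (g : GL ι F) (v : ι → F) :
    ((glReindex e g : GL (Fin n) F) : Matrix (Fin n) (Fin n) F) *ᵥ (Le e v) =
      Le e ((g : Matrix ι ι F) *ᵥ v) := by
  rw [glReindex_mulVec, Le_comp, Le_apply]

theorem reQ_Le (e : ι ≃ Fin n) (Q : (ι → F) → F) (v : ι → F) : reQ e Q (Le e v) = Q v := by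
  unfold reQ
  rw [Le_comp]

theorem reQ_eq (e : ι ≃ Fin n) (Q : (ι → F) → F) (w : Fin n → F) :
    reQ e Q w = Q ((Le (F := F) e).symm w) := by
  rw [Le_symm_apply]
  rfl

theorem polar_reQ_Le (e : ι ≃ Fin n) (Q : (ι → F) → F) (u v : ι → F) :
    QuadraticMap.polar (reQ e Q) (Le e u) (Le e v) = QuadraticMap.polar Q u v := by
  unfold QuadraticMap.polar
  rw [← map_add, reQ_Le, reQ_Le, reQ_Le]

theorem polar_reQ (e : ι ≃ Fin n) (Q : (ι → F) → F) (u v : Fin n → F) :
    QuadraticMap.polar (reQ e Q) u v =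
      QuadraticMap.polar Q ((Le (F := F) e).symm u) ((Le (F := F) e).symm v) := by
  rw [← polar_reQ_Le e Q, LinearEquiv.apply_symm_apply, LinearEquiv.apply_symm_apply]

theorem mem_isometryGroup_iff (Q : (ι → F) → F) (g : GL ι F) :
    g ∈ isometryGroup F Q ↔ ∀ u : ι → F, Q ((g : Matrix ι ι F) *ᵥ u) = Q u := by
  constructor
  · intro h u
    exact h u u
  · intro h u _
    exact h u

theorem glReindex_mem_isometryGroup_iff (e : ι ≃ Fin n) (Q : (ι → F) → F) (g : GL ι F) :
    glReindex e g ∈ isometryGroup F (reQ e Q) ↔ g ∈ isometryGroup F Q := by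
  rw [mem_isometryGroup_iff, mem_isometryGroup_iff]
  constructor
  · intro h u
    have := h (Le e u)
    rwa [glReindex_mulVec_Le, reQ_Le, reQ_Le] at this
  · intro h w
    obtain ⟨u, rfl⟩ := (Le (F := F) e).surjective w
    rw [glReindex_mulVec_Le, reQ_Le, reQ_Le]
    exact h u

theorem comap_isometryGroup (e : ι ≃ Fin n) (Q : (ι → F) → F) :
    (isometryGroup F (reQ e Q)).comap (glReindex e).toMonoidHom = isometryGroup F Q := by
  ext g
  rw [Subgroup.mem_comap]
  exact glReindex_mem_isometryGroup_iff e Q g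

end Cfsg.Agent.Lib.Helper50.AschOTr
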