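import Mathlib
import Cfsg.Prelude.Def_GeometricClasses
import Cfsg.Agent.Lib.Helper99.AschDefs
import Cfsg.Agent.Lib.Helper5.AschODefs
import Cfsg.Agent.Lib.Helper5.AschODefsTr
import Cfsg.Agent.Lib.Helper50.AschOTrKit

/-!
# ASCHO transport kit, part 2 (subspaces and decompositions): helper50
-/

set_option autoImplicit false
set_option linter.unusedSectionVars false
set_option linter.unusedVariables false

namespace Cfsg.Agent.Lib.Helper50.AschOTr

open Cfsg Cfsg.Geo Cfsg.Agent.Lib.Helper99.Asch Cfsg.Agent.Lib.Helper5.AschO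
open scoped MatrixGroups Matrix Kronecker

variable {ι : Type} [Fintype ι] [DecidableEq ι] {n : ℕ} {F : Type*} [Field F]

/-- the pull-back of a subspace of `F^n` to `F^ι` -/
def pb (e : ι ≃ Fin n) (W' : Submodule F (Fin n → F)) : Submodule F (ι → F) :=
  W'.map ((Le (F := F) e).symm : (Fin n → F) →ₗ[F] (ι → F))

theorem mem_pb (e : ι ≃ Fin n) (W' : Submodule F (Fin n → F)) (v : ι → F) :
    v ∈ pb e W' ↔ Le e v ∈ W' := by
  unfold pb
  rw [Submodule.map_equiv_eq_comap_symm, Submodule.mem_comap]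
  rfl

theorem symm_mem_pb (e : ι ≃ Fin n) (W' : Submodule F (Fin n → F)) (w : Fin n → F) :
    (Le (F := F) e).symm w ∈ pb e W' ↔ w ∈ W' := by
  rw [mem_pb, LinearEquiv.apply_symm_apply]

theorem pb_injective (e : ι ≃ Fin n) : Function.Injective (pb (F := F) e) := by
  intro W₁ W₂ h
  ext w
  rw [← symm_mem_pb e W₁, ← symm_mem_pb e W₂, h]

theorem pb_bot (e : ι ≃ Fin n) : pb (F := F) e ⊥ = ⊥ := by
  unfold pb
  exact Submodule.map_bot _

theorem pb_top (e : ι ≃ Fin n) : pb (F := F) e ⊤ = ⊤ := by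
  rw [eq_top_iff]
  intro v _
  rw [mem_pb]
  exact Submodule.mem_top

theorem pb_ne_bot (e : ι ≃ Fin n) {W' : Submodule F (Fin n → F)} (h : W' ≠ ⊥) : pb e W' ≠ ⊥ := by
  intro h0
  apply h
  apply pb_injective e
  rw [h0, pb_bot]

theorem pb_ne_top (e : ι ≃ Fin n) {W' : Submodule F (Fin n → F)} (h : W' ≠ ⊤) : pb e W' ≠ ⊤ := by
  intro h0
  apply h
  apply pb_injective e
  rw [h0, pb_top]

theorem finrank_pb (e : ι ≃ Fin n) (W' : Submodule F (Fin n → F)) :
    Module.finrank F (pb e W') = Module.finrank F W' :=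
  LinearEquiv.finrank_map_eq _ _

theorem mem_subspaceStabilizer_iff (W : Submodule F (ι → F)) (g : GL ι F) :
    g ∈ subspaceStabilizer W ↔ ∀ v, v ∈ W ↔ (g : Matrix ι ι F) *ᵥ v ∈ W := Iff.rfl

theorem comap_subspaceStabilizer (e : ι ≃ Fin n) (W' : Submodule F (Fin n → F)) :
    (subspaceStabilizer W').comap (glReindex e).toMonoidHom = subspaceStabilizer (pb e W') := by
  ext g
  rw [Subgroup.mem_comap, mem_subspaceStabilizer_iff, mem_subspaceStabilizer_iff]
  constructor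
  · intro h v
    rw [mem_pb, mem_pb, ← glReindex_mulVec_Le]
    exact h (Le e v)
  · intro h w
    obtain ⟨v, rfl⟩ := (Le (F := F) e).surjective w
    have := h v
    rw [mem_pb, mem_pb, ← glReindex_mulVec_Le] at this
    exact this

theorem pb_map (e : ι ≃ Fin n) (W' : Submodule F (Fin n → F)) (g : GL ι F) :
    (pb e W').map (Matrix.toLin' (g : Matrix ι ι F)) =
      pb e (W'.map (Matrix.toLin'
        ((glReindex e g : GL (Fin n) F) : Matrix (Fin n) (Fin n) F))) := by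
  ext v
  rw [mem_pb, Submodule.mem_map, Submodule.mem_map]
  constructor
  · rintro ⟨u, hu, rfl⟩
    refine ⟨Le e u, (mem_pb e W' u).mp hu, ?_⟩
    rw [Matrix.toLin'_apply, Matrix.toLin'_apply, glReindex_mulVec_Le]
  · rintro ⟨w, hw, hwv⟩
    refine ⟨(Le (F := F) e).symm w, (symm_mem_pb e W' w).mpr hw, ?_⟩
    apply (Le (F := F) e).injective
    rw [Matrix.toLin'_apply] at hwv ⊢
    rw [← glReindex_mulVec_Le, LinearEquiv.apply_symm_apply, hwv]

theorem mem_decompositionStabilizer_iff {t : ℕ} (D : Fin t → Submodule F (ι → F)) (g : GL ι F) :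
    g ∈ decompositionStabilizer D ↔ ∃ σ : Equiv.Perm (Fin t), ∀ i,
      (D i).map (Matrix.toLin' (g : Matrix ι ι F)) = D (σ i) := Iff.rfl

theorem comap_decompositionStabilizer (e : ι ≃ Fin n) {t : ℕ}
    (D' : Fin t → Submodule F (Fin n → F)) :
    (decompositionStabilizer D').comap (glReindex e).toMonoidHom =
      decompositionStabilizer (fun i => pb e (D' i)) := by
  ext g
  rw [Subgroup.mem_comap, mem_decompositionStabilizer_iff, mem_decompositionStabilizer_iff]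
  constructor
  · rintro ⟨σ, hσ⟩
    refine ⟨σ, fun i => ?_⟩
    exact (pb_map e (D' i) g).trans (congrArg (pb e) (hσ i))
  · rintro ⟨σ, hσ⟩
    refine ⟨σ, fun i => ?_⟩
    apply pb_injective e
    exact (pb_map e (D' i) g).symm.trans (hσ i)

theorem isNondegenerateOn_pb (e : ι ≃ Fin n) (Q : (ι → F) → F) (W' : Submodule F (Fin n → F))
    (h : IsNondegenerateOn (QuadraticMap.polar (reQ e Q)) W') :
    IsNondegenerateOn (QuadraticMap.polar Q) (pb e W') := by
  intro w hw hw0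
  have hw' : Le e w ∈ W' := (mem_pb e W' w).mp hw
  have hw0' : Le e w ≠ 0 := fun h0 => hw0 ((LinearEquiv.map_eq_zero_iff _).mp h0)
  obtain ⟨⟨x, hx, hx'⟩, ⟨y, hy, hy'⟩⟩ := h _ hw' hw0'
  refine ⟨⟨(Le (F := F) e).symm x, (symm_mem_pb e W' x).mpr hx, ?_⟩,
    ⟨(Le (F := F) e).symm y, (symm_mem_pb e W' y).mpr hy, ?_⟩⟩
  · rw [← polar_reQ_Le e Q, LinearEquiv.apply_symm_apply]; exact hx'
  · rw [← polar_reQ_Le e Q, LinearEquiv.apply_symm_apply]; exact hy'

theorem areIsometricFor_pb (e : ι ≃ Fin n) (Q : (ι → F) → F) (W₁ W₂ : Submodule F (Fin n → F))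
    (h : AreIsometricFor (reQ e Q) W₁ W₂) : AreIsometricFor Q (pb e W₁) (pb e W₂) := by
  obtain ⟨e', he'⟩ := h
  let A₁ : W₁ ≃ₗ[F] pb e W₁ := (Le (F := F) e).symm.submoduleMap W₁
  let A₂ : W₂ ≃ₗ[F] pb e W₂ := (Le (F := F) e).symm.submoduleMap W₂
  have hA₁ : ∀ x : W₁, ((A₁ x : pb e W₁) : ι → F) = (Le (F := F) e).symm (x : Fin n → F) :=
    fun x => rfl
  have hA₂ : ∀ x : W₂, ((A₂ x : pb e W₂) : ι → F) = (Le (F := F) e).symm (x : Fin n → F) :=
    fun x => rfl
  refine ⟨A₁.symm ≪≫ₗ e' ≪≫ₗ A₂, fun w => ?_⟩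
  show Q ((A₂ (e' (A₁.symm w)) : pb e W₂) : ι → F) = Q (w : ι → F)
  rw [hA₂, ← reQ_eq e Q, he', reQ_eq e Q, ← hA₁, LinearEquiv.apply_symm_apply]

theorem isOrthogonalMDecomposition_pb (e : ι ≃ Fin n) (Q : (ι → F) → F) {t : ℕ} (k : ℕ)
    (D' : Fin t → Submodule F (Fin n → F)) (h : IsOrthogonalMDecomposition (reQ e Q) k D') :
    IsOrthogonalMDecomposition Q k (fun i => pb e (D' i)) := by
  refine ⟨⟨⟨h.decomp.decomp.two_le, h.decomp.decomp.pos, fun i => ?_, ?_, ?_⟩, fun i => ?_,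
    fun i j hij => ?_⟩, fun i j => ?_⟩
  · rw [finrank_pb]; exact h.decomp.decomp.finrank_eq i
  · exact h.decomp.decomp.indep.map_orderIso
      (Submodule.orderIsoMapComap (Le (F := F) e).symm)
  · have := h.decomp.decomp.iSup_eq_top
    show ⨆ i, (D' i).map ((Le (F := F) e).symm : (Fin n → F) →ₗ[F] (ι → F)) = ⊤
    rw [← Submodule.map_iSup, this]
    exact pb_top e
  · exact isNondegenerateOn_pb e Q _ (h.decomp.nondegenerate i)
  · intro u hu v hv
    rw [← polar_reQ_Le e Q]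
    exact h.decomp.orthogonal i j hij _ ((mem_pb e _ u).mp hu) _ ((mem_pb e _ v).mp hv)
  · exact areIsometricFor_pb e Q _ _ (h.isometric i j)

end Cfsg.Agent.Lib.Helper50.AschOTr
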