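import Mathlib
import Cfsg.Prelude.Def_GeometricClasses
import Cfsg.Agent.Lib.Helper99.AschDefs
import Cfsg.Agent.Lib.Helper5.AschODefs
import Cfsg.Agent.Lib.Helper5.AschODefsTr
import Cfsg.Agent.Lib.Helper50.AschOTrKit
import Cfsg.Agent.Lib.Helper50.AschOTrKit2

/-!
# ASCHO-[TR-12] (helper5's project ASCHO, S5673): helper50

Classes 1a, 1b, 2a, 2b transport along `ι ≃ Fin n`.
-/

set_option autoImplicit false
set_option linter.unusedSectionVars false
set_option linter.unusedVariables false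

namespace Cfsg.Agent.Lib.Helper5.AschO

open Cfsg Cfsg.Geo Cfsg.Agent.Lib.Helper99.Asch Cfsg.Agent.Lib.Helper50.AschOTr
open scoped MatrixGroups Matrix Kronecker

variable {n : ℕ} {F : Type*} [Field F] [Fintype F]

section transport

variable {ι : Type} [Fintype ι] [DecidableEq ι]

/-- ASCHO-[TR-12]  LEAF, medium (four lemmas, subspaces and decompositions). -/
theorem isO1a_comap (e : ι ≃ Fin n) (Q : (ι → F) → F) (M' : Subgroup (GL (Fin n) F))
    (h : IsO1a (reQ e Q) M') : IsO1a Q (M'.comap (glReindex e).toMonoidHom) := by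
  obtain ⟨W', h1, h2, rfl⟩ := h
  refine ⟨pb e W', pb_ne_bot e h1, ?_, ?_⟩
  · intro w hw
    rw [← reQ_Le e Q]
    exact h2 _ ((mem_pb e W' w).mp hw)
  · rw [Subgroup.comap_inf, comap_subspaceStabilizer, comap_isometryGroup]

theorem isO1b_comap (e : ι ≃ Fin n) (Q : (ι → F) → F) (M' : Subgroup (GL (Fin n) F))
    (h : IsO1b (reQ e Q) M') : IsO1b Q (M'.comap (glReindex e).toMonoidHom) := by
  obtain ⟨W', h1, h2, h3, rfl⟩ := h
  refine ⟨pb e W', pb_ne_bot e h1, pb_ne_top e h2, isNondegenerateOn_pb e Q W' h3, ?_⟩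
  rw [Subgroup.comap_inf, comap_subspaceStabilizer, comap_isometryGroup]

theorem isO2a_comap (e : ι ≃ Fin n) (Q : (ι → F) → F) (M' : Subgroup (GL (Fin n) F))
    (h : IsO2a (reQ e Q) M') : IsO2a Q (M'.comap (glReindex e).toMonoidHom) := by
  obtain ⟨t, k, D', h1, h2, rfl⟩ := h
  refine ⟨t, k, fun i => pb e (D' i), h1, isOrthogonalMDecomposition_pb e Q k D' h2, ?_⟩
  rw [Subgroup.comap_inf, comap_decompositionStabilizer, comap_isometryGroup]

theorem isO2b_comap (e : ι ≃ Fin n) (Q : (ι → F) → F) (M' : Subgroup (GL (Fin n) F))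
    (h : IsO2b (reQ e Q) M') : IsO2b Q (M'.comap (glReindex e).toMonoidHom) := by
  obtain ⟨t, D', h1, h2, rfl⟩ := h
  refine ⟨t, fun i => pb e (D' i), h1, isOrthogonalMDecomposition_pb e Q 1 D' h2, ?_⟩
  rw [Subgroup.comap_inf, comap_decompositionStabilizer, comap_isometryGroup]

end transport

end Cfsg.Agent.Lib.Helper5.AschO
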