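import Mathlib
import Cfsg.Prelude.Def_GeometricClasses
import Cfsg.Agent.Lib.Helper99.AschDefs
import Cfsg.Agent.Lib.Helper5.AschODefs
import Cfsg.Agent.Lib.Helper5.AschODefsTr
import Cfsg.Agent.Lib.Helper50.AschOTrKit

/-!
# ASCHO-[TR-HYP] (helper5's project ASCHO, S5673): helper50

The standing hypotheses transport along `ι ≃ Fin n`.
-/

set_option autoImplicit false
set_option linter.unusedSectionVars false
set_option linter.unusedVariables false

namespace Cfsg.Agent.Lib.Helper5.AschO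

open Cfsg Cfsg.Geo Cfsg.Agent.Lib.Helper99.Asch Cfsg.Agent.Lib.Helper50.AschOTr
open scoped MatrixGroups Matrix Kronecker

variable {n : ℕ} {F : Type*} [Field F] [Fintype F]

section transport

variable {ι : Type} [Fintype ι] [DecidableEq ι]

/-- ASCHO-[TR-HYP]  LEAF, easy-medium. -/
theorem oSetup_map (e : ι ≃ Fin n) (Q : (ι → F) → F) (H : Subgroup (GL ι F))
    (hodd : Odd (Fintype.card F)) (hn : Odd n) (h3 : 3 ≤ n) (hQ : IsNondegenerateQuadraticForm Q)
    (hH : H ≤ isometryGroup F Q) : OSetup (reQ e Q) (H.map (glReindex e).toMonoidHom) := by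
  refine ⟨hodd, hn, h3, ⟨?_, ⟨?_, ?_, ?_, ?_⟩, ?_⟩, ?_⟩
  · intro c v
    rw [reQ_eq, reQ_eq, map_smul]
    exact hQ.smul c _
  · intro x y v
    rw [polar_reQ, polar_reQ, polar_reQ, map_add]
    exact hQ.polar_bilinear.add_left _ _ _
  · intro c x v
    rw [polar_reQ, polar_reQ, map_smul]
    exact hQ.polar_bilinear.smul_left _ _ _
  · intro v x y
    rw [polar_reQ, polar_reQ, polar_reQ, map_add]
    exact hQ.polar_bilinear.add_right _ _ _
  · intro c v x
    rw [polar_reQ, polar_reQ, map_smul]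
    exact hQ.polar_bilinear.smul_right _ _ _
  · intro v hv
    have hv' : (Le (F := F) e).symm v ≠ 0 := by
      intro h0
      exact hv ((LinearEquiv.map_eq_zero_iff _).mp h0)
    obtain ⟨⟨x, hx⟩, ⟨y, hy⟩⟩ := hQ.nondegenerate _ hv'
    refine ⟨⟨Le e x, ?_⟩, ⟨Le e y, ?_⟩⟩
    · rw [polar_reQ, LinearEquiv.symm_apply_apply]; exact hx
    · rw [polar_reQ, LinearEquiv.symm_apply_apply]; exact hy
  · rintro _ ⟨g, hg, rfl⟩
    exact (glReindex_mem_isometryGroup_iff e Q g).mpr (hH hg)

end transport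

end Cfsg.Agent.Lib.Helper5.AschO
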