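import Cfsg.Agent.Lib.Helper50.AlphaCore
import Cfsg.Agent.Lib.Helper97.BGTwelveCor

/-!
# The standard factorisation `M = K U M_σ`: first consequences (towards S1358, S1361)

* primes dividing `|U|` lie outside `σ(M) ∪ κ(M)`;
* a prime `p ∉ σ(M) ∪ κ(M)` of `p`-rank one: no nonidentity `p`-element of `M` centralizes a
  nonidentity element of `M_σ`;
* elements of `U` centralizing a nonidentity element of `M_σ` are `τ₂(M)`-elements;
* Sylow subgroups of `U` are abelian of rank at most two (S1358);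
* `𝓜(C_G(X)) = {M}` for `1 ≠ X ≤ U` with `C_{M_σ}(X) ≠ 1` (S1361).
-/

set_option autoImplicit false

namespace Cfsg.Agent.Lib.Helper50

open Cfsg Cfsg.Agent.Lib.Helper54 Cfsg.Agent.Lib.Helper97.BGTwelve

variable {G : Type*} [Group G]

/-- `M_σ` is normalized by `M` (elementwise form) -/
theorem conj_mem_sigmaCore' {M : Subgroup G} {m y : G} (hm : m ∈ M) (hy : y ∈ sigmaCore M) :
    m * y * m⁻¹ ∈ sigmaCore M := by
  obtain ⟨y', hy', rfl⟩ := hy
  refine ⟨⟨m, hm⟩ * y' * ⟨m, hm⟩⁻¹, ?_, rfl⟩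
  exact (piCore_normal (sigma M) M).conj_mem y' hy' ⟨m, hm⟩

/-- primes dividing `|U|` in a standard factorisation lie outside `σ(M)` and `κ(M)` -/
theorem not_mem_of_dvd_card_of_sigmaDecomposition [Finite G] {M K U : Subgroup G}
    (h1350 : IsPiHallOf (sigma M) (sigmaCore M) M) (hKU : IsSigmaDecomposition M K U)
    {p : ℕ} (hp : p.Prime) (hpU : p ∣ Nat.card U) : p ∉ sigma M ∧ p ∉ kappa M := by
  have hcard := Cfsg.Agent.Lib.Helper23.card_of_isComplIn hKU.compl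
  have hσle : sigmaCore M ≤ K ⊔ sigmaCore M := le_sup_right
  have hKle : K ≤ K ⊔ sigmaCore M := le_sup_left
  have hKσM : K ⊔ sigmaCore M ≤ M := hKU.compl.2.1
  constructor
  · intro hpσ
    apply h1350.2.2 p hp hpσ
    -- `|M : M_σ| = |U| * |KM_σ : M_σ|`
    have h1 := card_mul_relIndex h1350.1
    have h2 := card_mul_relIndex hσle
    have h3 : (sigmaCore M).relIndex M = Nat.card U * (sigmaCore M).relIndex (K ⊔ sigmaCore M) := by
      have hpos : 0 < Nat.card (sigmaCore M) := Nat.card_pos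
      apply Nat.eq_of_mul_eq_mul_left hpos
      rw [h1, hcard, ← h2]
      ring
    rw [h3]
    exact hpU.mul_right _
  · intro hpκ
    apply hKU.hall.2.2 p hp hpκ
    have h1 := card_mul_relIndex hKU.hall.1
    have h2 := card_mul_relIndex hKle
    have h3 : K.relIndex M = Nat.card U * K.relIndex (K ⊔ sigmaCore M) := by
      have hpos : 0 < Nat.card K := Nat.card_pos
      apply Nat.eq_of_mul_eq_mul_left hpos
      rw [h1, hcard, ← h2]
      ring
    rw [h3]
    exact hpU.mul_right _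

/-- for a prime `p ∉ σ(M) ∪ κ(M)` with cyclic Sylow `p`-subgroups, no nonidentity `p`-element of `M`
centralizes a nonidentity element of `M_σ` -/
theorem eq_one_of_commute_of_not_mem_kappa [Finite G] {M : Subgroup G} {p : ℕ} [Fact p.Prime]
    (hp2 : p ≠ 2) (hpM : p ∣ Nat.card M) (hpσ : p ∉ sigma M) (hpκ : p ∉ kappa M)
    (hr1 : PRankLE p 1 M) {x : G} (hxM : x ∈ M) (hx1 : x ≠ 1)
    (hxp : IsPGroup p (Subgroup.zpowers x)) {y : G} (hy : y ∈ sigmaCore M)
    (hxy : x * y = y * x) : y = 1 := by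
  have hpp : p.Prime := Fact.out
  have hκ : ∃ P : Sylow p M, ¬ (IsCyclic P ∧ ∃ x : M, x ∈ (P : Subgroup M) ∧ x ≠ 1 ∧
      ∃ y ∈ sigmaCore M, y ≠ 1 ∧ (x : G) * y = y * x) := by
    by_contra hcon
    push Not at hcon
    exact hpκ ⟨hpp, hpM, hpσ, fun P => hcon P⟩
  obtain ⟨P, hP⟩ := hκ
  have hPcyc : IsCyclic P := by
    have h1 : IsCyclic ((P : Subgroup M).map M.subtype) :=
      isCyclic_of_pRankLE_one hp2 _ (P.2.map M.subtype)
        (pRankLE_of_le (Subgroup.map_subtype_le _) hr1)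
    exact (Subgroup.equivMapOfInjective (P : Subgroup M) M.subtype
      M.subtype_injective).isCyclic.mpr h1
  obtain ⟨S, hS⟩ := exists_sylow_map_ge (Subgroup.zpowers_le.mpr hxM) hxp
  obtain ⟨x', hx'S, hx'x⟩ : ∃ x' : M, x' ∈ (S : Subgroup M) ∧ (x' : G) = x := by
    obtain ⟨x', hx', h⟩ := hS (Subgroup.mem_zpowers x)
    exact ⟨x', hx', h⟩
  obtain ⟨m, hm⟩ := MulAction.exists_smul_eq M S P
  by_contra hy1
  apply hP
  refine ⟨hPcyc, m * x' * m⁻¹, ?_, ?_, (m : G) * y * (m : G)⁻¹, conj_mem_sigmaCore' m.2 hy, ?_, ?_⟩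
  · rw [← hm, Sylow.coe_subgroup_smul]
    have := Subgroup.smul_mem_pointwise_smul x' (MulAut.conj m) (S : Subgroup M) hx'S
    simpa [MulAut.smul_def, MulAut.conj_apply] using this
  · intro h
    apply hx1
    have : x' = 1 := by
      have h2 : m⁻¹ * (m * x' * m⁻¹) * m = m⁻¹ * 1 * m := by rw [h]
      simpa [mul_assoc] using h2
    rw [← hx'x, this]; rfl
  · intro h
    apply hy1
    have h2 : (m : G)⁻¹ * ((m : G) * y * (m : G)⁻¹) * (m : G) = (m : G)⁻¹ * 1 * (m : G) := by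
      rw [h]
    simpa [mul_assoc] using h2
  · show ((m * x' * m⁻¹ : M) : G) * ((m : G) * y * (m : G)⁻¹) = _
    push_cast
    rw [hx'x]
    calc (m : G) * x * (m : G)⁻¹ * ((m : G) * y * (m : G)⁻¹)
        = (m : G) * (x * y) * (m : G)⁻¹ := by group
      _ = (m : G) * (y * x) * (m : G)⁻¹ := by rw [hxy]
      _ = (m : G) * y * (m : G)⁻¹ * ((m : G) * x * (m : G)⁻¹) := by group

/-- an element of `U` centralizing a nonidentity element of `M_σ` is a `τ₂(M)`-element -/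
theorem mem_tau2_of_mem_sigmaHat [Finite G] (hG : IsMinSimpleOddOrder G) (hU : UniqThree G)
    {M K U : Subgroup G} (hM : IsCoatom M)
    (h1350 : IsPiHallOf (sigma M) (sigmaCore M) M) (hKU : IsSigmaDecomposition M K U)
    {u : G} (huU : u ∈ U) (hu : u ∈ sigmaHat M) {p : ℕ} (hp : p.Prime) (hpu : p ∣ orderOf u) :
    p ∈ tau2 M := by
  have : Fact p.Prime := ⟨hp⟩
  have hUM : U ≤ M := hKU.compl.1
  have hpU : p ∣ Nat.card U := by
    have h1 : orderOf u ∣ Nat.card U := by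
      have := orderOf_dvd_natCard (⟨u, huU⟩ : U)
      rwa [Subgroup.orderOf_mk] at this
    exact hpu.trans h1
  obtain ⟨hpσ, hpκ⟩ := not_mem_of_dvd_card_of_sigmaDecomposition h1350 hKU hp hpU
  have hpM : p ∣ Nat.card M := hpU.trans (Subgroup.card_dvd_of_le hUM)
  have hp2 : p ≠ 2 :=
    ne_two_of_dvd_of_odd hG.1 (hpM.trans (Subgroup.card_subgroup_dvd_card M))
  have hr2 : PRankLE p 2 M := by
    by_contra h
    exact hpσ (alpha_subset_sigma hG hU M hM ⟨hp, h⟩)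
  refine ⟨hp, hpσ, hr2, ?_⟩
  intro hr1
  obtain ⟨-, y, hyσ, hy1, huy⟩ := hu
  -- the element `v = u ^ (o(u)/p)` of order `p`
  obtain ⟨c, hc⟩ := hpu
  have hv : orderOf (u ^ c) = p := by
    have hpos : 0 < orderOf u := orderOf_pos u
    have hcpos : 0 < c := by
      rcases Nat.eq_zero_or_pos c with h | h
      · rw [h, mul_zero] at hc; omega
      · exact h
    rw [orderOf_pow' u hcpos.ne', hc, Nat.gcd_eq_right (Dvd.intro_left p rfl)]
    exact Nat.mul_div_cancel _ hcpos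
  have hv1 : u ^ c ≠ 1 := by
    intro h
    rw [h, orderOf_one] at hv
    exact hp.one_lt.ne hv
  have hvp : IsPGroup p (Subgroup.zpowers (u ^ c)) := by
    apply IsPGroup.of_card (n := 1)
    rw [Nat.card_zpowers, hv, pow_one]
  have hvy : u ^ c * y = y * u ^ c := ((show Commute u y from huy).pow_left c).eq
  exact hy1 (eq_one_of_commute_of_not_mem_kappa hp2 hpM hpσ hpκ hr1
    (M.pow_mem (hUM huU) c) hv1 hvp hyσ hvy)

/-- **S1358**: Sylow subgroups of `U` are abelian of rank at most two. -/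
theorem s1358_of [Finite G] (hG : IsMinSimpleOddOrder G) (hU : UniqThree G)
    (M : Subgroup G) (hM : IsCoatom M) (K U : Subgroup G) (hKU : IsSigmaDecomposition M K U)
    (h1350 : IsPiHallOf (sigma M) (sigmaCore M) M)
    (h1420a : ∀ N : Subgroup G, N ≤ M → Group.IsNilpotent N →
      (∀ p : ℕ, p.Prime → p ∣ Nat.card N → p ∉ sigma M) → IsMulCommutative N) :
    ∀ (p : ℕ), p.Prime → ∀ P : Sylow p U,
      IsMulCommutative (P : Subgroup U) ∧ PRankLE p 2 (P : Subgroup U) := by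
  intro p hp P
  have : Fact p.Prime := ⟨hp⟩
  have hUM : U ≤ M := hKU.compl.1
  constructor
  · have hNM : (P : Subgroup U).map U.subtype ≤ M := (Subgroup.map_subtype_le _).trans hUM
    have hNp : IsPGroup p ((P : Subgroup U).map U.subtype) := P.2.map U.subtype
    have hNn : Group.IsNilpotent ((P : Subgroup U).map U.subtype) := hNp.isNilpotent
    have hc := h1420a _ hNM hNn (by
      intro q hq hqd
      have hqU : q ∣ Nat.card U := hqd.trans (Subgroup.card_dvd_of_le (Subgroup.map_subtype_le _))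
      exact (not_mem_of_dvd_card_of_sigmaDecomposition h1350 hKU hq hqU).1)
    refine ⟨⟨fun a b => ?_⟩⟩
    have h1 := hc.is_comm.comm ⟨U.subtype a.1, a.1, a.2, rfl⟩ ⟨U.subtype b.1, b.1, b.2, rfl⟩
    have h2 : U.subtype a.1 * U.subtype b.1 = U.subtype b.1 * U.subtype a.1 :=
      congrArg Subtype.val h1
    apply Subtype.ext
    apply Subtype.ext
    exact h2
  · by_cases hpU : p ∣ Nat.card U
    · have hpσ := (not_mem_of_dvd_card_of_sigmaDecomposition h1350 hKU hp hpU).1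
      have hr2 : PRankLE p 2 M := by
        by_contra h
        exact hpσ (alpha_subset_sigma hG hU M hM ⟨hp, h⟩)
      have hr2U : PRankLE p 2 U := pRankLE_of_le hUM hr2
      exact pRankLE_of_injective (P : Subgroup U).subtype (Subgroup.subtype_injective _) hr2U
    · intro A _ _
      have h1 : Nat.card (P : Subgroup U) = 1 := by
        rw [Sylow.card_eq_multiplicity, Nat.factorization_eq_zero_of_not_dvd hpU, pow_zero]
      have h2 : Nat.card A ∣ Nat.card (P : Subgroup U) := Subgroup.card_subgroup_dvd_card A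
      rw [h1, Nat.dvd_one] at h2
      rw [h2]
      exact Nat.one_le_pow _ _ hp.pos

/-- **BG 12.10(e) for subgroups**: a nontrivial `τ₂(M)`-subgroup `X` of `M` with `C_{M_σ}(X) ≠ 1` has
`𝓜(C_G(X)) = {M}`. -/
theorem tau2_subgroup_uniq [Finite G] (hG : IsMinSimpleOddOrder G) (M : Subgroup G)
    (hM : IsCoatom M) (h1350 : IsPiHallOf (sigma M) (sigmaCore M) M)
    (hτ : ∀ (q : ℕ) [Fact q.Prime], q ∈ tau2 M → ∀ P : Sylow q M,
      IsMulCommutative (P : Subgroup M))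
    (h1417e : ∀ (p : ℕ) [Fact p.Prime], p ∈ tau2 M → ∀ A : Subgroup G,
      (A ≤ M ∧ IsElementaryAbelian p A ∧ Nat.card A = p ^ 2) →
      ∀ Mstar : Subgroup G, IsCoatom Mstar → Mstar ≠ M → A ≤ Mstar → sigmaCore M ⊓ Mstar = ⊥)
    (h1418a : ∀ E : Subgroup G, IsComplIn E (sigmaCore M) M → ∀ (p : ℕ) [Fact p.Prime],
      p ∈ tau2 M → ∀ A : Subgroup G, (A ≤ E ∧ IsElementaryAbelian p A ∧ Nat.card A = p ^ 2) →
      E ≤ Subgroup.normalizer (A : Set G))
    (X : Subgroup G) (hXM : X ≤ M) (hX1 : X ≠ ⊥)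
    (hXτ : ∀ p : ℕ, p.Prime → p ∣ Nat.card X → p ∈ tau2 M)
    (hXc : sigmaCore M ⊓ Subgroup.centralizer (X : Set G) ≠ ⊥) :
    Subgroup.centralizer (X : Set G) ≤ M ∧
      ∀ L : Subgroup G, IsCoatom L → Subgroup.centralizer (X : Set G) ≤ L → L = M := by
  have hs : IsSimpleGroup G := hG.2.1
  have hnc : ¬ IsMulCommutative G := hG.2.2.1
  have hMs : Group.IsSolvable M := hG.2.2.2 M hM.1
  obtain ⟨y, hy1⟩ := (Subgroup.ne_bot_iff_exists_ne_one).mp hXc
  obtain ⟨hyσ, hyC⟩ : (y : G) ∈ sigmaCore M ∧ (y : G) ∈ Subgroup.centralizer (X : Set G) := y.2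
  have hy1' : (y : G) ≠ 1 := fun h => hy1 (Subtype.ext h)
  have hK : ∀ p : ℕ, p.Prime → p ∣ Nat.card X → p ∉ sigma M := fun p hp hpd => (hXτ p hp hpd).2.1
  obtain ⟨E₀, hE₀, hXE₀⟩ := exists_complIn_ge hMs h1350 hXM hK
  have hn1 : Nat.card X ≠ 1 := fun h => hX1 (Subgroup.card_eq_one.mp h)
  obtain ⟨p, hpdef⟩ : ∃ p, p = (Nat.card X).minFac := ⟨_, rfl⟩
  have hp : p.Prime := hpdef ▸ Nat.minFac_prime hn1
  have hpn : p ∣ Nat.card X := hpdef ▸ Nat.minFac_dvd _
  have hpτ : p ∈ tau2 M := hXτ p hp hpn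
  have : Fact p.Prime := ⟨hp⟩
  have hp2 : p ≠ 2 := ne_two_of_dvd_of_odd hG.1 (hpn.trans (Subgroup.card_subgroup_dvd_card X))
  have hrE : ¬ PRankLE p 1 ↥E₀ := not_pRankLE_complement hE₀ h1350.2.1 hpτ.2.1 hpτ.2.2.2
  obtain ⟨A, hAE₀, hAe, hAcard⟩ := exists_elemAb_sq_of_not_pRankLE_one E₀ hrE
  have hAM : A ≤ M := hAE₀.trans hE₀.1
  have hAp : IsPGroup p A := IsPGroup.of_card hAcard
  have hE₀N : E₀ ≤ Subgroup.normalizer (A : Set G) := h1418a E₀ hE₀ p hpτ A ⟨hAE₀, hAe, hAcard⟩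
  have hcent : ∀ x ∈ X, ∀ a ∈ A, x * a = a * x := by
    intro x hx
    have hxE₀ : x ∈ E₀ := hXE₀ hx
    have hzX : Subgroup.zpowers x ≤ X := Subgroup.zpowers_le.mpr hx
    apply centralizes_of_minFac hp2 A hAe hAcard x (hE₀N hxE₀)
    · intro r hr hrd
      have hrX : r ∣ Nat.card X := by
        have h1 : orderOf x ∣ Nat.card X := by
          have := orderOf_dvd_natCard (⟨x, hx⟩ : X)
          rwa [Subgroup.orderOf_mk] at this
        exact hrd.trans h1
      rw [hpdef]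
      exact Nat.minFac_le_of_dvd hr.two_le hrX
    · intro u hu hup a ha
      have huE₀ : u ∈ E₀ := hXE₀ (hzX hu)
      have hTp : IsPGroup p (Subgroup.zpowers u ⊔ A : Subgroup G) :=
        IsPGroup.to_sup_of_normal_right' hup hAp (Subgroup.zpowers_le.mpr (hE₀N huE₀))
      have hTM : Subgroup.zpowers u ⊔ A ≤ M :=
        sup_le (Subgroup.zpowers_le.mpr (hE₀.1 huE₀)) hAM
      obtain ⟨P, hP⟩ := exists_sylow_map_ge hTM hTp
      have hPc := hτ p hpτ P
      obtain ⟨u', hu', rfl⟩ := hP (le_sup_left (a := Subgroup.zpowers u) (Subgroup.mem_zpowers u))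
      obtain ⟨a', ha', rfl⟩ := hP (le_sup_right (a := Subgroup.zpowers (M.subtype u')) ha)
      have h := hPc.is_comm.comm ⟨u', hu'⟩ ⟨a', ha'⟩
      have h' : u' * a' = a' * u' := congrArg Subtype.val h
      rw [← map_mul, h', map_mul]
  have hAC : A ≤ Subgroup.centralizer (X : Set G) := by
    intro a ha
    rw [Subgroup.mem_centralizer_iff]
    intro x hx
    exact hcent x hx a ha
  have huniq : ∀ L : Subgroup G, IsCoatom L → Subgroup.centralizer (X : Set G) ≤ L → L = M := by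
    intro L hL hCL
    by_contra hne
    have h1 := h1417e p hpτ A ⟨hAM, hAe, hAcard⟩ L hL hne (hAC.trans hCL)
    have h2 : (y : G) ∈ sigmaCore M ⊓ L := ⟨hyσ, hCL hyC⟩
    rw [h1, Subgroup.mem_bot] at h2
    exact hy1' h2
  refine ⟨?_, huniq⟩
  obtain ⟨x, hx1⟩ := (Subgroup.ne_bot_iff_exists_ne_one).mp hX1
  have hx1' : (x : G) ≠ 1 := fun h => hx1 (Subtype.ext h)
  have hCtop : Subgroup.centralizer (X : Set G) ≠ ⊤ := by
    intro h
    apply centralizer_singleton_ne_top hs hnc hx1'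
    rw [eq_top_iff, ← h]
    exact Subgroup.centralizer_le (Set.singleton_subset_iff.mpr x.2)
  obtain ⟨L, hL, hCL⟩ := exists_isCoatom_ge hCtop
  rw [← huniq L hL hCL]
  exact hCL

/-- **S1361**: `𝓜(C_G(X)) = {M}` for `1 ≠ X ≤ U` with `C_{M_σ}(X) ≠ 1`. -/
theorem s1361_of [Finite G] (hG : IsMinSimpleOddOrder G) (hU : UniqThree G)
    (M : Subgroup G) (hM : IsCoatom M) (K U : Subgroup G) (hKU : IsSigmaDecomposition M K U)
    (h1350 : IsPiHallOf (sigma M) (sigmaCore M) M)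
    (hτ : ∀ (q : ℕ) [Fact q.Prime], q ∈ tau2 M → ∀ P : Sylow q M,
      IsMulCommutative (P : Subgroup M))
    (h1417e : ∀ (p : ℕ) [Fact p.Prime], p ∈ tau2 M → ∀ A : Subgroup G,
      (A ≤ M ∧ IsElementaryAbelian p A ∧ Nat.card A = p ^ 2) →
      ∀ Mstar : Subgroup G, IsCoatom Mstar → Mstar ≠ M → A ≤ Mstar → sigmaCore M ⊓ Mstar = ⊥)
    (h1418a : ∀ E : Subgroup G, IsComplIn E (sigmaCore M) M → ∀ (p : ℕ) [Fact p.Prime],
      p ∈ tau2 M → ∀ A : Subgroup G, (A ≤ E ∧ IsElementaryAbelian p A ∧ Nat.card A = p ^ 2) →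
      E ≤ Subgroup.normalizer (A : Set G))
    (X : Subgroup G) (hXU : X ≤ U) (hX : X ≠ ⊥)
    (hXc : sigmaCore M ⊓ Subgroup.centralizer (X : Set G) ≠ ⊥) :
    Subgroup.centralizer (X : Set G) ≤ M ∧
      ∀ L : Subgroup G, IsCoatom L → Subgroup.centralizer (X : Set G) ≤ L → L = M := by
  have hUM : U ≤ M := hKU.compl.1
  obtain ⟨y, hy1⟩ := (Subgroup.ne_bot_iff_exists_ne_one).mp hXc
  obtain ⟨hyσ, hyC⟩ : (y : G) ∈ sigmaCore M ∧ (y : G) ∈ Subgroup.centralizer (X : Set G) := y.2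
  have hy1' : (y : G) ≠ 1 := fun h => hy1 (Subtype.ext h)
  refine tau2_subgroup_uniq hG M hM h1350 hτ h1417e h1418a X (hXU.trans hUM) hX ?_ hXc
  intro p hp hpX
  have : Fact p.Prime := ⟨hp⟩
  obtain ⟨x, hx⟩ := exists_prime_orderOf_dvd_card' p hpX
  have hxo : orderOf (x : G) = p := by rw [Subgroup.orderOf_coe]; exact hx
  have hxhat : (x : G) ∈ sigmaHat M := by
    refine ⟨hUM (hXU x.2), y, hyσ, hy1', ?_⟩
    exact Subgroup.mem_centralizer_iff.mp hyC (x : G) x.2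
  exact mem_tau2_of_mem_sigmaHat hG hU hM h1350 hKU (hXU x.2) hxhat hp (hxo ▸ dvd_rfl)

end Cfsg.Agent.Lib.Helper50
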