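import Cfsg.Agent.Lib.Helper97.BGTwelveCor
import Cfsg.Agent.Lib.Helper34.NonSigma
import Cfsg.Agent.Lib.Helper54.BGElevenA

/-!
# Bender–Glauberman Corollary 12.7, part (a): `τ₂(M) = {p}` when the Sylow `p`-subgroups of `G` are
nonabelian (for helper21's assembly of S1419)
-/

set_option autoImplicit false

namespace Cfsg.Agent.Lib.Helper50

open Cfsg Cfsg.Agent.Lib.Helper54 Cfsg.Agent.Lib.Helper97.BGTwelve

variable {G : Type*} [Group G]

/-- two subgroups normalizing each other with coprime orders commute elementwise -/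
theorem commute_of_normalize_of_coprime [Finite G] {A B : Subgroup G}
    (hAB : A ≤ Subgroup.normalizer (B : Set G)) (hBA : B ≤ Subgroup.normalizer (A : Set G))
    (hcop : (Nat.card A).Coprime (Nat.card B)) : ∀ a ∈ A, ∀ b ∈ B, a * b = b * a := by
  intro a ha b hb
  have h1 : a * b * a⁻¹ * b⁻¹ ∈ A ⊓ B := by
    constructor
    · have : b * a⁻¹ * b⁻¹ ∈ A :=
        (Subgroup.mem_normalizer_iff.mp (hBA hb) a⁻¹).mp (A.inv_mem ha)
      have h2 : a * (b * a⁻¹ * b⁻¹) ∈ A := A.mul_mem ha this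
      have h3 : a * b * a⁻¹ * b⁻¹ = a * (b * a⁻¹ * b⁻¹) := by group
      rw [h3]; exact h2
    · have : a * b * a⁻¹ ∈ B := (Subgroup.mem_normalizer_iff.mp (hAB ha) b).mp hb
      exact B.mul_mem this (B.inv_mem hb)
  have h2 : A ⊓ B = ⊥ := (Subgroup.disjoint_of_coprime_natCard hcop).eq_bot
  rw [h2, Subgroup.mem_bot] at h1
  calc a * b = a * b * a⁻¹ * b⁻¹ * (b * a) := by group
    _ = b * a := by rw [h1, one_mul]

/-- **BG 12.7, first assertion**: if the Sylow `p`-subgroups of `G` are nonabelian and `p ∈ τ₂(M)`,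
then `τ₂(M) = {p}`.  `hToolP` is the strong form of B&G Proposition 10.11(b). -/
theorem s1419_tau2 [Finite G] (_hG : IsMinSimpleOddOrder G)
    (_hU : Cfsg.Agent.Lib.Helper34.UniquenessThm G) (M : Subgroup G) (_hM : IsCoatom M)
    (E : Subgroup G)
    (hE : IsComplIn E (sigmaCore M) M) (p : ℕ) [Fact p.Prime] (hp : p ∈ tau2 M)
    (hS : ∀ S : Sylow p G, ¬ IsMulCommutative (S : Subgroup G))
    (A : Subgroup G) (hA : A ≤ E ∧ IsElementaryAbelian p A ∧ Nat.card A = p ^ 2)
    (h17b : ∀ P : Sylow p M, IsMulCommutative (P : Subgroup M))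
    (h18 : ∀ (q : ℕ) [Fact q.Prime], q ∈ tau2 M → ∀ B : Subgroup G,
      (B ≤ E ∧ IsElementaryAbelian q B ∧ Nat.card B = q ^ 2) →
      E ≤ Subgroup.normalizer (B : Set G) ∧ Subgroup.centralizer (B : Set G) ≤ M)
    (hToolP : ∀ (r : ℕ) [Fact r.Prime] (B : Subgroup G), r ≠ p → r ∈ tau2 M → B ≤ M →
      IsElementaryAbelian r B → Nat.card B = r ^ 2 → B ≤ Subgroup.centralizer (A : Set G) →
      A ≤ Subgroup.normalizer (B : Set G) →
      ∃ S : Sylow p G, A ≤ (S : Subgroup G) ∧ (S : Subgroup G) ≤ Subgroup.centralizer (B : Set G)) :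
    tau2 M = {p} := by
  have hpp : p.Prime := Fact.out
  ext r
  rw [Set.mem_singleton_iff]
  constructor
  · intro hr
    by_contra hrp
    have hrr : r.Prime := hr.1
    have : Fact r.Prime := ⟨hrr⟩
    -- an elementary abelian subgroup `B ≤ E` of order `r ^ 2`
    have hσπ : ∀ q : ℕ, q.Prime → q ∣ Nat.card (sigmaCore M) → q ∈ sigma M :=
      sigmaCore_isPi M
    have hrE : ¬ PRankLE r 1 ↥E := not_pRankLE_complement hE hσπ hr.2.1 hr.2.2.2
    obtain ⟨B, hBE, hBe, hBcard⟩ := exists_elemAb_sq_of_not_pRankLE_one E hrE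
    obtain ⟨hEB, hCB⟩ := h18 r hr B ⟨hBE, hBe, hBcard⟩
    obtain ⟨hEA, -⟩ := h18 p hp A hA
    have hcop : (Nat.card A).Coprime (Nat.card B) := by
      rw [hA.2.2, hBcard]
      exact Nat.Coprime.pow _ _ ((Nat.coprime_primes hpp hrr).mpr (Ne.symm hrp))
    have hcomm := commute_of_normalize_of_coprime (hA.1.trans hEB) (hBE.trans hEA) hcop
    have hBCA : B ≤ Subgroup.centralizer (A : Set G) := by
      intro b hb
      rw [Subgroup.mem_centralizer_iff]
      intro a ha
      exact hcomm a ha b hb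
    obtain ⟨S, -, hSB⟩ := hToolP r B hrp hr (hBE.trans hE.1) hBe hBcard hBCA (hA.1.trans hEB)
    have hSM : (S : Subgroup G) ≤ M := hSB.trans hCB
    obtain ⟨P, hP⟩ := exists_sylow_map_ge hSM S.2
    apply hS S
    have hPc := h17b P
    refine ⟨⟨fun x y => ?_⟩⟩
    obtain ⟨x', hx', hxx⟩ := hP x.2
    obtain ⟨y', hy', hyy⟩ := hP y.2
    have h := hPc.is_comm.comm ⟨x', hx'⟩ ⟨y', hy'⟩
    have h' : x' * y' = y' * x' := congrArg Subtype.val h
    apply Subtype.ext
    show (x : G) * (y : G) = (y : G) * (x : G)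
    rw [← hxx, ← hyy]
    show M.subtype x' * M.subtype y' = M.subtype y' * M.subtype x'
    rw [← map_mul, h', map_mul]
  · rintro rfl
    exact hp

end Cfsg.Agent.Lib.Helper50
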