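import Cfsg.Agent.Lib.Helper50.AlphaCore
import Cfsg.Agent.Lib.Helper97.BGTwelveCor
import Cfsg.Agent.Lib.Helper1.ThompsonFpf

/-!
# Bender–Glauberman Lemma 14.1 (statement S1429), conditional on Theorem 12.5 (S1417)

For `p ∈ π(M) - σ(M) - κ(M)`, `S` a Sylow `p`-subgroup of `M` and `A = Ω₁(S)`:
`|A| ≤ p²`, `C_{M_σ}(A) = 1` and `M_σ` is nilpotent.
-/

set_option autoImplicit false

namespace Cfsg.Agent.Lib.Helper50

open Cfsg

variable {G : Type*} [Group G]

/-- `M_σ` is normalized by `M` (elementwise form) -/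
theorem conj_mem_sigmaCore {M : Subgroup G} {m y : G} (hm : m ∈ M) (hy : y ∈ sigmaCore M) :
    m * y * m⁻¹ ∈ sigmaCore M := by
  obtain ⟨y', hy', rfl⟩ := hy
  refine ⟨⟨m, hm⟩ * y' * ⟨m, hm⟩⁻¹, ?_, rfl⟩
  exact (piCore_normal (sigma M) M).conj_mem y' hy' ⟨m, hm⟩

/-- a finite group normalized by an element `a` with `a ^ p = 1` that centralizes no nonidentity
element of it is nilpotent (Thompson) -/
theorem isNilpotent_of_fpf_conj [Finite G] {p : ℕ} (hp : p.Prime) (K : Subgroup G) (a : G)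
    (hap : a ^ p = 1) (hnorm : ∀ y ∈ K, a * y * a⁻¹ ∈ K)
    (hfpf : ∀ y ∈ K, a * y = y * a → y = 1) : Group.IsNilpotent K := by
  have hnorm' : ∀ y ∈ K, a⁻¹ * y * a ∈ K := by
    -- conjugation by `a` is a bijection of the finite set `K`
    have hinj : Function.Injective (fun y : K => (⟨a * y * a⁻¹, hnorm y y.2⟩ : K)) := by
      intro y z h
      have h1 : a * (y : G) * a⁻¹ = a * (z : G) * a⁻¹ := congrArg Subtype.val h
      apply Subtype.ext
      simpa using h1
    have hsurj := Finite.surjective_of_injective hinj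
    intro y hy
    obtain ⟨z, hz⟩ := hsurj ⟨y, hy⟩
    have h1 : a * (z : G) * a⁻¹ = y := congrArg Subtype.val hz
    have : a⁻¹ * y * a = z := by rw [← h1]; group
    rw [this]; exact z.2
  let φ : MulAut K :=
    { toFun := fun y => ⟨a * y * a⁻¹, hnorm y y.2⟩
      invFun := fun y => ⟨a⁻¹ * y * a, hnorm' y y.2⟩
      left_inv := fun y => by apply Subtype.ext; simp [mul_assoc]
      right_inv := fun y => by apply Subtype.ext; simp [mul_assoc]
      map_mul' := fun y z => by apply Subtype.ext; simp [mul_assoc] }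
  have hφpow : ∀ (n : ℕ) (y : K), (((φ ^ n) y : K) : G) = a ^ n * y * (a ^ n)⁻¹ := by
    intro n
    induction n with
    | zero => intro y; simp
    | succ n ih =>
      intro y
      rw [pow_succ', MulAut.mul_apply]
      show a * ((φ ^ n) y : G) * a⁻¹ = _
      rw [ih y, pow_succ']
      group
  have hpow : φ ^ p = 1 := by
    ext y
    rw [hφpow p y, hap]
    simp
  refine Cfsg.Agent.Lib.Helper1.fpf_nilpotent_aux p hp _ K rfl φ hpow ?_
  intro y hy
  have h1 : a * (y : G) * a⁻¹ = y := congrArg Subtype.val hy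
  have h2 : a * (y : G) = y * a := by
    calc a * (y : G) = a * y * a⁻¹ * a := by group
      _ = y * a := by rw [h1]
  exact Subtype.ext (hfpf y y.2 h2)

/-- **BG Lemma 14.1**, from the Uniqueness Theorem and (part of) Theorem 12.5. -/
theorem s1429_of [Finite G] (hG : IsMinSimpleOddOrder G) (hU : UniqThree G)
    (M : Subgroup G) (hM : IsCoatom M) (p : ℕ) [Fact p.Prime] (hpM : p ∣ Nat.card M)
    (hp : p ∉ sigma M ∪ kappa M) (S : Sylow p M)
    (h1417 : p ∈ tau2 M → ∀ A : Subgroup G, A ≤ M → IsElementaryAbelian p A →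
      Nat.card A = p ^ 2 →
      Group.IsNilpotent (sigmaCore M) ∧
      (∀ P : Sylow p M, A ≤ (P : Subgroup M).map M.subtype →
          ∀ x ∈ (P : Subgroup M).map M.subtype, x ^ p = 1 ↔ x ∈ A) ∧
      sigmaCore M ⊓ Subgroup.centralizer (A : Set G) = ⊥) :
    Nat.card ↥(Subgroup.closure
        {x : G | x ∈ (S : Subgroup M).map M.subtype ∧ x ^ p = 1}) ≤ p ^ 2 ∧
      sigmaCore M ⊓ Subgroup.centralizer ((Subgroup.closure
        {x : G | x ∈ (S : Subgroup M).map M.subtype ∧ x ^ p = 1} : Subgroup G) : Set G) = ⊥ ∧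
      Group.IsNilpotent (sigmaCore M) := by
  have hpp : p.Prime := Fact.out
  have hpσ : p ∉ sigma M := fun h => hp (Or.inl h)
  have hpκ : p ∉ kappa M := fun h => hp (Or.inr h)
  have hr2 : PRankLE p 2 M := by
    by_contra h
    exact hpσ (alpha_subset_sigma hG hU M hM ⟨hpp, h⟩)
  obtain ⟨S', hS'⟩ : ∃ S' : Subgroup G, S' = (S : Subgroup M).map M.subtype := ⟨_, rfl⟩
  rw [← hS']
  have hS'M : S' ≤ M := hS' ▸ Subgroup.map_subtype_le _
  have hS'p : IsPGroup p S' := hS' ▸ S.2.map M.subtype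
  by_cases hr1 : PRankLE p 1 M
  · -- cyclic Sylow subgroups
    have hp2 : p ≠ 2 := by
      rintro rfl
      have h2 : 2 ∣ Nat.card G := hpM.trans (Subgroup.card_subgroup_dvd_card M)
      exact (Nat.not_even_iff_odd.mpr hG.1) (even_iff_two_dvd.mpr h2)
    have hS'r : PRankLE p 1 ↥S' := Cfsg.Agent.Lib.Helper54.pRankLE_of_le hS'M hr1
    have hcyc : IsCyclic S' :=
      Cfsg.Agent.Lib.Helper97.BGTwelve.isCyclic_of_pRankLE_one hp2 S' hS'p hS'r
    have hcomm : ∀ x ∈ S', ∀ y ∈ S', x * y = y * x := by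
      intro x hx y hy
      have := (IsCyclic.isMulCommutative (α := S')).is_comm.comm ⟨x, hx⟩ ⟨y, hy⟩
      exact congrArg Subtype.val this
    -- all elements of the closure lie in the set
    have hcl : ∀ x ∈ Subgroup.closure {x : G | x ∈ S' ∧ x ^ p = 1}, x ∈ S' ∧ x ^ p = 1 := by
      intro x hx
      induction hx using Subgroup.closure_induction with
      | mem x hx => exact hx
      | one => exact ⟨S'.one_mem, one_pow _⟩
      | mul x y _ _ hx hy =>
        refine ⟨S'.mul_mem hx.1 hy.1, ?_⟩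
        rw [(show Commute x y from hcomm x hx.1 y hy.1).mul_pow, hx.2, hy.2, one_mul]
      | inv x _ hx => exact ⟨S'.inv_mem hx.1, by rw [inv_pow, hx.2, inv_one]⟩
    -- no nonidentity element of `S'` centralizes a nonidentity element of `M_σ`
    have hreg : ∀ x ∈ S', x ≠ 1 → ∀ y ∈ sigmaCore M, x * y = y * x → y = 1 := by
      have hκ : ∃ P : Sylow p M, ¬ (IsCyclic P ∧ ∃ x : M, x ∈ (P : Subgroup M) ∧ x ≠ 1 ∧
          ∃ y ∈ sigmaCore M, y ≠ 1 ∧ (x : G) * y = y * x) := by
        by_contra hcon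
        push Not at hcon
        exact hpκ ⟨hpp, hpM, hpσ, fun P => hcon P⟩
      obtain ⟨P, hP⟩ := hκ
      have hPcyc : IsCyclic P := by
        have h1 : IsCyclic ((P : Subgroup M).map M.subtype) :=
          Cfsg.Agent.Lib.Helper97.BGTwelve.isCyclic_of_pRankLE_one hp2 _ (P.2.map M.subtype)
            (Cfsg.Agent.Lib.Helper54.pRankLE_of_le (Subgroup.map_subtype_le _) hr1)
        exact (Subgroup.equivMapOfInjective (P : Subgroup M) M.subtype
          M.subtype_injective).isCyclic.mpr h1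
      obtain ⟨m, hm⟩ := MulAction.exists_smul_eq M S P
      intro x hx hx1 y hy hxy
      by_contra hy1
      apply hP
      refine ⟨hPcyc, ?_⟩
      -- conjugate `x`, `y` by `m`
      have hxM : x ∈ M := hS'M hx
      obtain ⟨x', hx'S, hx'x⟩ : ∃ x' : M, x' ∈ (S : Subgroup M) ∧ (x' : G) = x := by
        rw [hS'] at hx
        obtain ⟨x', hx', rfl⟩ := hx
        exact ⟨x', hx', rfl⟩
      refine ⟨m * x' * m⁻¹, ?_, ?_, (m : G) * y * (m : G)⁻¹, conj_mem_sigmaCore m.2 hy, ?_, ?_⟩
      · rw [← hm, Sylow.coe_subgroup_smul]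
        have := Subgroup.smul_mem_pointwise_smul x' (MulAut.conj m) (S : Subgroup M) hx'S
        simpa [MulAut.smul_def, MulAut.conj_apply] using this
      · intro h
        apply hx1
        have : x' = 1 := by
          have h2 : m⁻¹ * (m * x' * m⁻¹) * m = m⁻¹ * 1 * m := by rw [h]
          simpa [mul_assoc] using h2
        rw [← hx'x, this]; rfl
      · intro h
        apply hy1
        have h2 : (m : G)⁻¹ * ((m : G) * y * (m : G)⁻¹) * (m : G) = (m : G)⁻¹ * 1 * (m : G) := by
          rw [h]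
        simpa [mul_assoc] using h2
      · show ((m * x' * m⁻¹ : M) : G) * ((m : G) * y * (m : G)⁻¹) = _
        push_cast
        rw [hx'x]
        calc (m : G) * x * (m : G)⁻¹ * ((m : G) * y * (m : G)⁻¹)
            = (m : G) * (x * y) * (m : G)⁻¹ := by group
          _ = (m : G) * (y * x) * (m : G)⁻¹ := by rw [hxy]
          _ = (m : G) * y * (m : G)⁻¹ * ((m : G) * x * (m : G)⁻¹) := by group
    -- an element of order `p` in `S'`
    obtain ⟨a, haS, ha1, hap⟩ : ∃ a ∈ S', a ≠ 1 ∧ a ^ p = 1 := by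
      have hdvd : p ∣ Nat.card (S : Subgroup M) := by
        rw [Sylow.card_eq_multiplicity]
        exact dvd_pow_self p (Nat.Prime.factorization_pos_of_dvd hpp Nat.card_pos.ne' hpM).ne'
      obtain ⟨a, ha⟩ := exists_prime_orderOf_dvd_card' p hdvd
      refine ⟨((a : M) : G), ?_, ?_, ?_⟩
      · rw [hS']; exact ⟨a, a.2, rfl⟩
      · intro h
        have h1 : a = 1 := Subtype.ext (Subtype.ext h)
        rw [h1, orderOf_one] at ha
        exact hpp.one_lt.ne ha
      · have : a ^ p = 1 := by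
          have h := pow_orderOf_eq_one a
          rwa [ha] at h
        have h2 := congrArg (fun z : (S : Subgroup M) => ((z : M) : G)) this
        simpa using h2
    refine ⟨?_, ?_, ?_⟩
    · -- order at most `p ^ 1`
      by_contra hcard
      push Not at hcard
      refine Cfsg.Agent.Lib.Helper54.not_pRankLE_of_elemAb
        (B := Subgroup.closure {x : G | x ∈ S' ∧ x ^ p = 1}) (E := M) ?_ ?_ ?_ hcard hr2
      · exact fun x hx => hS'M (hcl x hx).1
      · exact fun x hx y hy => hcomm x (hcl x hx).1 y (hcl y hy).1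
      · exact fun x hx => (hcl x hx).2
    · rw [eq_bot_iff]
      rintro y ⟨hyσ, hyc⟩
      rw [Subgroup.mem_bot]
      have haA : a ∈ Subgroup.closure {x : G | x ∈ S' ∧ x ^ p = 1} :=
        Subgroup.subset_closure ⟨haS, hap⟩
      have h1 := Subgroup.mem_centralizer_iff.mp hyc a haA
      exact hreg a haS ha1 y hyσ h1
    · exact isNilpotent_of_fpf_conj hpp (sigmaCore M) a hap
        (fun y hy => conj_mem_sigmaCore (hS'M haS) hy)
        (fun y hy h => hreg a haS ha1 y hy h)
  · -- `p ∈ τ₂(M)`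
    have hτ : p ∈ tau2 M := ⟨hpp, hpσ, hr2, hr1⟩
    obtain ⟨A1, hA1M, hA1e, hA1c⟩ :=
      Cfsg.Agent.Lib.Helper97.BGTwelve.exists_elemAb_sq_of_not_pRankLE_one M hr1
    have hA1p : IsPGroup p A1 := by
      intro x
      refine ⟨1, ?_⟩
      apply Subtype.ext
      simpa using hA1e.2 x.1 x.2
    obtain ⟨Q, hQ⟩ := (hA1p.comap_subtype (H := A1) (K := M)).exists_le_sylow
    obtain ⟨m, hm⟩ := MulAction.exists_smul_eq M Q S
    obtain ⟨A0, hA0⟩ : ∃ A0 : Subgroup G, A0 = A1.map (MulAut.conj (m : G)).toMonoidHom :=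
      ⟨_, rfl⟩
    have hA0S : A0 ≤ S' := by
      rw [hS', ← hm, Cfsg.Agent.Lib.Helper34.map_subtype_smul_sylow, hA0]
      apply Subgroup.map_mono
      intro x hx
      exact ⟨⟨x, hA1M hx⟩, hQ (Subgroup.mem_subgroupOf.mpr hx), rfl⟩
    have hA0e : IsElementaryAbelian p A0 := by
      rw [hA0]
      refine ⟨?_, ?_⟩
      · haveI := hA1e.1
        exact Subgroup.map_isMulCommutative A1 _
      · rintro _ ⟨x, hx, rfl⟩
        rw [← map_pow, hA1e.2 x hx, map_one]
    have hA0c : Nat.card A0 = p ^ 2 := by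
      rw [hA0, Cfsg.Agent.Lib.Helper34.card_map_conj, hA1c]
    obtain ⟨hnil, hΩ, hcent⟩ := h1417 hτ A0 (hA0S.trans hS'M) hA0e hA0c
    have hΩ' := hΩ S (hS' ▸ hA0S)
    rw [← hS'] at hΩ'
    have hset : {x : G | x ∈ S' ∧ x ^ p = 1} = (A0 : Set G) := by
      ext x
      constructor
      · rintro ⟨hx, hxp⟩
        exact (hΩ' x hx).mp hxp
      · intro hx
        exact ⟨hA0S hx, (hΩ' x (hA0S hx)).mpr hx⟩
    rw [hset, Subgroup.closure_eq]
    exact ⟨hA0c.le, hcent, hnil⟩

end Cfsg.Agent.Lib.Helper50
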