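/-
helper50: **Step A** of Bender–Glauberman Proposition 14.2 (`HStepA`) from BG 13.6 (`H136`) and
BG 13.11 (`H1311`), and BG Lemma 13.12 (`H1312`) from Step A and the statement of `S1428`.
-/
import Mathlib
import Cfsg.Prelude.Def_OddOrderLocal
import Cfsg.Agent.Lib.Helper96.BGFourteenTwoHyp
import Cfsg.Agent.Lib.Helper96.BGFourteenTwoA
import Cfsg.Agent.Lib.Helper96.BGFourteenTwoB
import Cfsg.Agent.Lib.Helper96.BGFourteenTwoC
import Cfsg.Agent.Lib.Helper97.BGThirteenB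
import Cfsg.Agent.Lib.Helper97.BGThirteenSix
import Cfsg.Agent.Lib.Helper24.PrimeAction
import Cfsg.Agent.Lib.Helper10.BGThirteenG
import Cfsg.Agent.Lib.Helper54.BGTwelveSeventeenD
import Cfsg.Agent.S1403
import Cfsg.Agent.S1408
import Cfsg.Agent.S1414
import Cfsg.Agent.S1415
import Cfsg.Agent.S1417
import Cfsg.Agent.S1418
import Cfsg.Agent.S1420
import Cfsg.Agent.S1423
import Cfsg.Agent.S1424
import Cfsg.Agent.S1426

set_option autoImplicit false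

namespace Cfsg.Agent.Lib.Helper50.BGStepA

open scoped Pointwise
open Cfsg Cfsg.Agent.Lib.Helper54 Cfsg.Agent.Lib.Helper97.BGTwelve
open Cfsg.Agent.Lib.Helper34 (UniquenessThm)
open Cfsg.Agent.Lib.Helper96.BG142

variable {G : Type*} [Group G]

/-- `L` maximal, `p ∉ β(L)`: a `p'`-subgroup `Y ≤ L'` normalizing the `p`-subgroup `A ≤ L`
centralizes it (`L'` has a normal `p`-complement). -/
theorem comm_of_le_commutator [Finite G] (hG : IsMinSimpleOddOrder G) (L : Subgroup G)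
    (hL : IsCoatom L) (p : ℕ) [Fact p.Prime] (hpL : p ∣ Nat.card L) (hpβ : p ∉ beta L)
    (A Y : Subgroup G) (hAp : IsPGroup p A) (hAL : A ≤ L) (hYL : Y ≤ ⁅L, L⁆)
    (hYA : Y ≤ Subgroup.normalizer (A : Set G)) (hYp : (Nat.card Y).Coprime p) :
    ∀ a ∈ A, ∀ y ∈ Y, a * y = y * a := by
  obtain ⟨N, hNn, hNp, hN⟩ :=
    Cfsg.Agent.Lib.Helper97.BGThirteenSix.exists_normal_qprime hG L hL p hpL hpβ
  intro a ha y hy
  have hyL : y ∈ L := (Subgroup.commutator_le_self L) (hYL hy)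
  have hy'c : (⟨y, hyL⟩ : ↥L) ∈ commutator ↥L :=
    Cfsg.Agent.Lib.Helper97.BGThirteenSix.mem_commutator_of_val_mem ⟨y, hyL⟩ (hYL hy)
  have hy'o : (orderOf (⟨y, hyL⟩ : ↥L)).Coprime p := by
    have h1 : orderOf (⟨y, hyL⟩ : ↥L) = orderOf y := Subgroup.orderOf_mk y hyL
    have h2 : orderOf y ∣ Nat.card Y := by
      have := orderOf_dvd_natCard (⟨y, hy⟩ : ↥Y)
      rwa [Subgroup.orderOf_mk] at this
    rw [h1]
    exact Nat.Coprime.coprime_dvd_left h2 hYp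
  have hy'N : (⟨y, hyL⟩ : ↥L) ∈ N := hN _ hy'c hy'o
  have hcN : (⟨a, hAL ha⟩ : ↥L) * ⟨y, hyL⟩ * (⟨a, hAL ha⟩ : ↥L)⁻¹ * (⟨y, hyL⟩ : ↥L)⁻¹ ∈ N :=
    N.mul_mem (hNn.conj_mem _ hy'N _) (N.inv_mem hy'N)
  have hcA : a * y * a⁻¹ * y⁻¹ ∈ A := by
    have h1 : y * a⁻¹ * y⁻¹ ∈ A :=
      (Subgroup.mem_normalizer_iff.mp (hYA hy) a⁻¹).mp (A.inv_mem ha)
    have h2 := A.mul_mem ha h1
    simpa [mul_assoc] using h2
  have hbot : A.subgroupOf L ⊓ N = ⊥ := by
    apply disjoint_iff.mp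
    apply Subgroup.disjoint_of_coprime_natCard
    obtain ⟨k, hk⟩ := IsPGroup.iff_card.mp hAp
    rw [Nat.card_congr (Subgroup.subgroupOfEquivOfLe hAL).toEquiv, hk]
    exact (Nat.Coprime.pow_left k hNp.symm)
  have hc1 : (⟨a, hAL ha⟩ : ↥L) * ⟨y, hyL⟩ * (⟨a, hAL ha⟩ : ↥L)⁻¹ * (⟨y, hyL⟩ : ↥L)⁻¹ = 1 := by
    have : (⟨a, hAL ha⟩ : ↥L) * ⟨y, hyL⟩ * (⟨a, hAL ha⟩ : ↥L)⁻¹ * (⟨y, hyL⟩ : ↥L)⁻¹
        ∈ A.subgroupOf L ⊓ N := by
      refine ⟨?_, hcN⟩
      show _ ∈ A.subgroupOf L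
      rw [Subgroup.mem_subgroupOf]
      simpa using hcA
    rwa [hbot, Subgroup.mem_bot] at this
  have hc2 : a * y * a⁻¹ * y⁻¹ = 1 := by
    have := congrArg (fun t : ↥L => (t : G)) hc1
    simpa using this
  calc a * y = (a * y * a⁻¹ * y⁻¹) * (y * a) := by group
    _ = y * a := by rw [hc2, one_mul]

/-- `L` of `q`-rank one (`q` odd) with `q ∣ |L'|`: every subgroup of order `q` of `L` lies in `L'`. -/
theorem le_commutator_of_rank_one [Finite G] (L : Subgroup G) (q : ℕ) [Fact q.Prime]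
    (hq2 : q ≠ 2) (hr : PRankLE q 1 ↥L) (hqd : q ∣ Nat.card ↥⁅L, L⁆) (Y : Subgroup G)
    (hYL : Y ≤ L) (hY : Nat.card Y = q) : Y ≤ ⁅L, L⁆ := by
  have hq : q.Prime := Fact.out
  -- an element of order `q` of `L'`
  have hqd' : q ∣ Nat.card (commutator ↥L) := by
    have h1 : Nat.card ↥⁅L, L⁆ = Nat.card (commutator ↥L) := by
      rw [← Subgroup.map_subtype_commutator,
        Subgroup.card_map_of_injective (Subgroup.subtype_injective _)]
    rwa [← h1]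
  obtain ⟨z, hz⟩ := exists_prime_orderOf_dvd_card' q hqd'
  -- `z : ↥(commutator ↥L)`
  set Z : Subgroup ↥L := Subgroup.zpowers (z : ↥L) with hZ
  have hZc : Z ≤ commutator ↥L := (Subgroup.zpowers_le).mpr z.2
  have hZq : Nat.card Z = q := by
    rw [hZ, Nat.card_zpowers, Subgroup.orderOf_coe, hz]
  have hZp : IsPGroup q Z := IsPGroup.of_card (n := 1) (by rw [hZq, pow_one])
  have hY'q : Nat.card (Y.subgroupOf L) = q := by
    rw [Nat.card_congr (Subgroup.subgroupOfEquivOfLe hYL).toEquiv, hY]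
  have hY'p : IsPGroup q (Y.subgroupOf L) := IsPGroup.of_card (n := 1) (by rw [hY'q, pow_one])
  obtain ⟨Q, hYQ⟩ := hY'p.exists_le_sylow
  obtain ⟨Q2, hZQ2⟩ := hZp.exists_le_sylow
  obtain ⟨g, hg⟩ := MulAction.exists_smul_eq ↥L Q2 Q
  have hQc : IsCyclic (Q : Subgroup ↥L) :=
    isCyclic_sylow_of_rank_one (le_refl L) hq2 hr Q
  have hW : MulAut.conj g • Z ≤ (Q : Subgroup ↥L) := by
    rw [← hg, Sylow.coe_subgroup_smul]
    exact Subgroup.pointwise_smul_le_pointwise_smul_iff.mpr hZQ2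
  have hWq : Nat.card (MulAut.conj g • Z : Subgroup ↥L) = q := by
    rw [card_conj_smul, hZq]
  intro y hy
  have hy'Q : (⟨y, hYL hy⟩ : ↥L) ∈ (Q : Subgroup ↥L) :=
    hYQ (Subgroup.mem_subgroupOf.mpr hy)
  have hyq : (⟨y, hYL hy⟩ : ↥L) ^ q = 1 := by
    apply Subtype.ext
    have h1 : (⟨y, hy⟩ : ↥Y) ^ Nat.card Y = 1 := pow_card_eq_one'
    rw [hY] at h1
    have := congrArg (fun t : ↥Y => (t : G)) h1
    simpa using this
  have hyW : (⟨y, hYL hy⟩ : ↥L) ∈ MulAut.conj g • Z :=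
    Cfsg.Agent.Lib.Helper10.BG13.mem_of_pow_eq_one_of_isCyclic hq hQc hW hWq hy'Q hyq
  have hyc : (⟨y, hYL hy⟩ : ↥L) ∈ commutator ↥L := by
    rw [Subgroup.mem_pointwise_smul_iff_inv_smul_mem] at hyW
    have h1 := hZc hyW
    have hn : (commutator ↥L).Normal := inferInstance
    have h2 := hn.conj_mem _ h1 g
    simpa [MulAut.smul_def, mul_assoc] using h2
  rw [← Subgroup.map_subtype_commutator]
  exact ⟨⟨y, hYL hy⟩, hyc, rfl⟩

/-- `S1403` as the Uniqueness Theorem hypothesis used by the libraries. -/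
theorem uniquenessThm [Finite G] (hG : IsMinSimpleOddOrder G) : UniquenessThm G :=
  fun K hK h1 h2 => Cfsg.Agent.S1403.result hG K hK h1 h2

/-- two clauses of `S1418`, in the form used by helper97's library -/
theorem h1418 [Finite G] (hG : IsMinSimpleOddOrder G) :
    Cfsg.Agent.Lib.Helper97.BGThirteen.H1418 G := by
  intro L hL E' hE' q _ hq A hA
  have h := Cfsg.Agent.S1418.result hG L hL E' hE' q hq A hA
  exact ⟨h.1.1, h.2.1.2.2⟩

/-- The first half of Step A: if `p ∉ σ(H)`, there are an elementary abelian `A ≥ X` of order `p²`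
normalized by `C_{M_σ}(X)` and a maximal `M₁ ≥ N_G(A)` with `p ∈ σ(M₁)`; moreover `p` is not ideal. -/
theorem stepA_setup [Finite G] (hG : IsMinSimpleOddOrder G) (M H : Subgroup G) (hM : IsCoatom M)
    (hH : IsCoatom H) (p : ℕ) [Fact p.Prime] (hpτ : p ∈ tau1 M ∨ p ∈ tau3 M) (X : Subgroup G)
    (hXM : X ≤ M) (hXp : Nat.card X = p) (hNX : Subgroup.normalizer (X : Set G) ≤ H)
    (hpH : p ∉ sigma H) :
    ∃ A M₁ : Subgroup G, IsElementaryAbelian p A ∧ Nat.card A = p ^ 2 ∧ X ≤ A ∧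
      sigmaCore M ⊓ Subgroup.centralizer (X : Set G) ≤ Subgroup.normalizer (A : Set G) ∧
      IsCoatom M₁ ∧ Subgroup.normalizer (A : Set G) ≤ M₁ ∧ p ∈ sigma M₁ ∧
      ¬ IsIdealPrime p G := by
  have hp : p.Prime := Fact.out
  have hU : UniquenessThm G := uniquenessThm hG
  have hXpg : IsPGroup p X := IsPGroup.of_card (n := 1) (by rw [hXp, pow_one])
  have hX1 : X ≠ ⊥ := by
    intro h
    rw [h, Subgroup.card_bot] at hXp
    exact hp.one_lt.ne hXp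
  have hτ2 : p ∈ tau2 H := by
    rcases mem_sigma_or_tau2_of_normalizer_le hG hU H hH p X hXpg hX1 hNX with h | h
    · exact absurd h hpH
    · exact h
  have hnc : ∀ g : G, MulAut.conj g • M ≠ H :=
    not_conj_of_normalizer_le hG hU M H hM p X hXpg hX1 hXM hNX (Or.inr hpτ)
  have hnc' : ∀ g : G, MulAut.conj g • H ≠ M := by
    intro g hg
    apply hnc g⁻¹
    rw [← hg, ← mul_smul, ← map_mul, inv_mul_cancel, map_one, one_smul]
  obtain ⟨A₀, hA₀⟩ := exists_elemAb_sq_of_not_pRankLE_one H hτ2.2.2.2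
  have hnil : Group.IsNilpotent (sigmaCore H) :=
    (Cfsg.Agent.S1417.result hG H hH p hτ2 A₀ hA₀).1
  have hdisj := ((sigma_disjoint hG hU H M hH hM hnc').2 hnil).1
  have hYN : sigmaCore M ⊓ Subgroup.centralizer (X : Set G) ≤ Subgroup.normalizer (X : Set G) :=
    inf_le_right.trans (Subgroup.centralizer_le_normalizer _)
  have hKH : X ⊔ (sigmaCore M ⊓ Subgroup.centralizer (X : Set G)) ≤ H :=
    sup_le (Subgroup.le_normalizer.trans hNX) (hYN.trans hNX)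
  have hKpi : ∀ r : ℕ, r.Prime →
      r ∣ Nat.card (X ⊔ (sigmaCore M ⊓ Subgroup.centralizer (X : Set G)) : Subgroup G) →
        r ∉ sigma H := by
    intro r hr hrd
    have h1 := hrd.trans (Cfsg.Agent.Lib.Helper22.card_sup_dvd_mul_of_le_normalizer hYN)
    rcases (Nat.Prime.dvd_mul hr).mp h1 with h | h
    · rw [hXp] at h
      rw [(Nat.prime_dvd_prime_iff_eq hr hp).mp h]
      exact hpH
    · intro hrH
      exact hdisj r hrH (sigmaCore_isPi M r hr (h.trans (Subgroup.card_dvd_of_le inf_le_left)))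
  obtain ⟨E₀, hE₀, hKE₀⟩ := exists_complIn_ge (hG.2.2.2 H hH.1)
    (sigmaCore_hall_of hG hU H hH).1 hKH hKpi
  have hrk : ¬ PRankLE p 1 ↥E₀ :=
    not_pRankLE_complement hE₀ (sigmaCore_isPi H) hτ2.2.1 hτ2.2.2.2
  obtain ⟨A, hAE, hAe, hAc⟩ := exists_elemAb_sq_of_not_pRankLE_one E₀ hrk
  have h18 := Cfsg.Agent.S1418.result hG H hH E₀ hE₀ p hτ2 A ⟨hAE, hAe, hAc⟩
  have hAq : IsPGroup p A := Cfsg.Agent.Lib.Helper34.isPGroup_of_isElementaryAbelian hAe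
  have hA1 : A ≠ ⊥ := by
    intro h
    rw [h, Subgroup.card_bot] at hAc
    have := Nat.one_lt_pow (n := 2) (by norm_num) hp.one_lt
    omega
  have hAT : A ≠ ⊤ := ne_top_of_isPGroup hG.2.1 hG.2.2.1 hAq
  obtain ⟨M₁, hM₁, hNM₁⟩ := exists_isCoatom_ge (normalizer_ne_top_of_simple hG.2.1 hA1 hAT)
  have hpM₁ : p ∈ sigma M₁ :=
    Cfsg.Agent.Lib.Helper97.BGThirteen.mem_sigma_of_normalizer_elemAb_le hG hU (h1418 hG) M₁ hM₁ p A
      hAe hAc hNM₁
  refine ⟨A, M₁, hAe, hAc, h18.1.2 X (le_sup_left.trans hKE₀) hXp,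
    (le_sup_right.trans hKE₀).trans h18.1.1, hM₁, hNM₁, hpM₁, ?_⟩
  exact (Cfsg.Agent.S1408.result hG H hH p hpH hτ2.2.2.1 hτ2.2.2.2).1

/-- `𝓜(C_G(Y₁)) = {M}` for `Y₁ ≤ C_{M_σ}(X)` of prime order, `|X| = p ∈ τ₁(M)`: BG 13.6. -/
theorem uniq_of_tau1 [Finite G] (hG : IsMinSimpleOddOrder G) (h136 : H136 G) (M : Subgroup G)
    (hM : IsCoatom M) (p : ℕ) [Fact p.Prime] (hp : p ∈ tau1 M) (X : Subgroup G) (hXM : X ≤ M)
    (hXp : Nat.card X = p) (q : ℕ) [Fact q.Prime] (Y₁ : Subgroup G)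
    (hY₁ : Y₁ ≤ sigmaCore M ⊓ Subgroup.centralizer (X : Set G)) (hY₁q : Nat.card Y₁ = q) :
    Subgroup.centralizer (Y₁ : Set G) ≤ M ∧
      ∀ L : Subgroup G, IsCoatom L → Subgroup.centralizer (Y₁ : Set G) ≤ L → L = M := by
  have hpp : p.Prime := Fact.out
  have hU : UniquenessThm G := uniquenessThm hG
  obtain ⟨E, hE, hXE⟩ := exists_complIn_ge (hG.2.2.2 M hM.1) (sigmaCore_hall_of hG hU M hM).1 hXM
    (fun r hr hrd => by
      rw [hXp] at hrd
      rw [(Nat.prime_dvd_prime_iff_eq hr hpp).mp hrd]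
      exact hp.2.1)
  exact (h136 M hM E hE p hp X hXE hXp q Y₁ hY₁ hY₁q).1

/-- `𝓜(C_G(Y₁)) = {M}` for `Y₁ ≤ C_{M_σ}(X)` of prime order, `|X| = p ∈ τ₃(M)`: BG 13.11, 12.17 and
12.14. -/
theorem uniq_of_tau3 [Finite G] (hG : IsMinSimpleOddOrder G) (h1311 : H1311 G) (M : Subgroup G)
    (hM : IsCoatom M) (p : ℕ) [Fact p.Prime] (hp : p ∈ tau3 M) (X : Subgroup G) (hXM : X ≤ M)
    (hXp : Nat.card X = p) (q : ℕ) [Fact q.Prime] (Y₁ : Subgroup G)
    (hY₁ : Y₁ ≤ sigmaCore M ⊓ Subgroup.centralizer (X : Set G)) (hY₁q : Nat.card Y₁ = q) :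
    Subgroup.centralizer (Y₁ : Set G) ≤ M ∧
      ∀ L : Subgroup G, IsCoatom L → Subgroup.centralizer (Y₁ : Set G) ≤ L → L = M := by
  have hpp : p.Prime := Fact.out
  have hq : q.Prime := Fact.out
  have hU : UniquenessThm G := uniquenessThm hG
  obtain ⟨E, hE, hXE⟩ := exists_complIn_ge (hG.2.2.2 M hM.1) (sigmaCore_hall_of hG hU M hM).1 hXM
    (fun r hr hrd => by
      rw [hXp] at hrd
      rw [(Nat.prime_dvd_prime_iff_eq hr hpp).mp hrd]
      exact hp.2.1)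
  have hET : E ≠ ⊤ := fun h => hM.1 (top_le_iff.mp (h ▸ hE.1))
  obtain ⟨E₃, hE₃⟩ := Cfsg.Agent.Lib.Helper62.exists_isPiHallOf (tau3 M) E (hG.2.2.2 E hET)
  have h15 := (Cfsg.Agent.S1415.result hG M hM E hE).2.2 E₃ hE₃
  have hXE₃ : X ≤ E₃ := le_hall_of_normal hE₃ h15.2.2 hXE (fun r hr hrd => by
    rw [hXp] at hrd
    rw [(Nat.prime_dvd_prime_iff_eq hr hpp).mp hrd]
    exact hp)
  have hX1 : X ≠ ⊥ := by
    intro h
    rw [h, Subgroup.card_bot] at hXp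
    exact hpp.one_lt.ne hXp
  obtain ⟨x, hx1⟩ := (Subgroup.ne_bot_iff_exists_ne_one).mp hX1
  have hx1' : (x : G) ≠ 1 := fun h => hx1 (Subtype.ext h)
  have hCC : Subgroup.centralizer (X : Set G) ≤ Subgroup.centralizer ({(x : G)} : Set G) :=
    Subgroup.centralizer_le (by
      intro t ht
      rw [Set.mem_singleton_iff] at ht
      rw [ht]
      exact x.2)
  have hY₁x : Y₁ ≤ sigmaCore M ⊓ Subgroup.centralizer ({(x : G)} : Set G) :=
    hY₁.trans (inf_le_inf_left _ hCC)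
  have hne : sigmaCore M ⊓ Subgroup.centralizer ({(x : G)} : Set G) ≠ ⊥ := by
    intro h
    rw [h, le_bot_iff] at hY₁x
    rw [hY₁x, Subgroup.card_bot] at hY₁q
    exact hq.one_lt.ne hY₁q
  have h11 := (h1311 M hM E hE E₃ hE₃ ⟨x, hXE₃ x.2, hx1', hne⟩).2.2 (x : G) (hXE x.2) hx1'
  have h26 := (Cfsg.Agent.S1426.result hG M hM E hE).1
  have hle : Y₁ ≤ ⁅sigmaCore M, sigmaCore M⁆ := by
    refine hY₁x.trans ?_
    rw [h11]
    exact h26
  have hY₁σ : Y₁ ≤ sigmaCore M := hY₁.trans inf_le_left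
  have hqσ : q ∈ sigma M := sigmaCore_isPi M q hq (hY₁q ▸ Subgroup.card_dvd_of_le hY₁σ)
  obtain ⟨S₀⟩ : Nonempty (Sylow q ↥(sigmaCore M)) := inferInstance
  exact (Cfsg.Agent.S1423.result hG M hM q hqσ Y₁ (hY₁σ.trans (sigmaCore_le M)) hY₁q S₀
    (Or.inr hle)).1

/-- **Step A** of BG Proposition 14.2(c), from BG 13.6 and BG 13.11. -/
theorem hStepA_of [Finite G] (hG : IsMinSimpleOddOrder G) (h136 : H136 G) (h1311 : H1311 G) :
    HStepA G := by
  intro M hM p hpτ X hXM hXp hYne H hH hNX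
  by_contra hpH
  have hpp : p.Prime := by
    rcases hpτ with h | h
    · exact h.1
    · exact h.1
  have : Fact p.Prime := ⟨hpp⟩
  have : IsSimpleGroup G := hG.2.1
  have hU : UniquenessThm G := uniquenessThm hG
  obtain ⟨A, M₁, hAe, hAc, hXA, hYNA, hM₁, hNM₁, hpM₁, hnid⟩ :=
    stepA_setup hG M H hM hH p hpτ X hXM hXp hNX hpH
  obtain ⟨y, hy1⟩ := (Subgroup.ne_bot_iff_exists_ne_one).mp hYne
  have hy1' : (y : G) ≠ 1 := fun h => hy1 (Subtype.ext h)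
  obtain ⟨q, Y₁, hq, hY₁q, hY₁Y, -, hY₁1, hY₁p⟩ := exists_prime_card_le y.2 hy1'
  have : Fact q.Prime := ⟨hq⟩
  have hqσ : q ∈ sigma M :=
    sigmaCore_isPi M q hq (hY₁q ▸ Subgroup.card_dvd_of_le (hY₁Y.trans inf_le_left))
  have hpσ : p ∉ sigma M := by
    rcases hpτ with h | h
    · exact h.2.1
    · exact h.2.1
  have hqp : q ≠ p := fun h => hpσ (h ▸ hqσ)
  have hr1 : PRankLE p 1 ↥M := by
    rcases hpτ with h | h
    · exact h.2.2.2.2
    · exact h.2.2.2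
  have hAM : ¬ A ≤ M := by
    intro hAM
    refine not_pRankLE_of_elemAb hAM (fun a ha b hb => ?_) hAe.2 ?_ hr1
    · have := hAe.1
      have h1 : (⟨a, ha⟩ : ↥A) * ⟨b, hb⟩ = ⟨b, hb⟩ * ⟨a, ha⟩ := mul_comm' _ _
      exact congrArg (fun t : ↥A => (t : G)) h1
    · rw [hAc]
      exact Nat.pow_lt_pow_right hpp.one_lt (by norm_num)
  have hu : Subgroup.centralizer (Y₁ : Set G) ≤ M ∧
      ∀ L : Subgroup G, IsCoatom L → Subgroup.centralizer (Y₁ : Set G) ≤ L → L = M := by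
    rcases hpτ with h | h
    · exact uniq_of_tau1 hG h136 M hM p h X hXM hXp q Y₁ hY₁Y hY₁q
    · exact uniq_of_tau3 hG h1311 M hM p h X hXM hXp q Y₁ hY₁Y hY₁q
  have hY₁N : Y₁ ≤ Subgroup.normalizer (A : Set G) := hY₁Y.trans hYNA
  have hY₁M₁ : Y₁ ≤ M₁ := hY₁N.trans hNM₁
  have hAM₁ : A ≤ M₁ := Subgroup.le_normalizer.trans hNM₁
  have hAq : IsPGroup p A := Cfsg.Agent.Lib.Helper34.isPGroup_of_isElementaryAbelian hAe
  have hpβ : p ∉ beta M₁ := fun h => hnid h.2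
  have hpd : p ∣ Nat.card M₁ := hpM₁.2.1
  have hXσ : X ≤ sigmaCore M₁ :=
    le_hall_of_normal (sigmaCore_hall_of hG hU M₁ hM₁).1 (le_normalizer_sigmaCore M₁)
      (hXA.trans hAM₁) (fun r hr hrd => by
        rw [hXp] at hrd
        rw [(Nat.prime_dvd_prime_iff_eq hr hpp).mp hrd]
        exact hpM₁)
  -- `Y₁` and `X` commute
  have hYX : ∀ y ∈ Y₁, ∀ x ∈ X, x * y = y * x := by
    intro y hy x hx
    exact Subgroup.mem_centralizer_iff.mp ((hY₁Y hy).2) x hx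
  by_cases hc : Y₁ ≤ ⁅M₁, M₁⁆
  · have hcomm := comm_of_le_commutator hG M₁ hM₁ p hpd hpβ A Y₁ hAq hAM₁ hc hY₁N
      (by rw [hY₁q]; exact (Nat.coprime_primes hq hpp).mpr hqp)
    apply hAM
    intro a ha
    apply hu.1
    rw [Subgroup.mem_centralizer_iff]
    intro y hy
    exact (hcomm a ha y hy).symm
  · have hqM₁ : q ∉ sigma M₁ := fun h =>
      hc (Cfsg.Agent.Lib.Helper24.le_commutator_of_mem_sigma hG hU M₁ hM₁ q h hY₁p hY₁M₁)
    have hqd : q ∣ Nat.card M₁ := hY₁q ▸ Subgroup.card_dvd_of_le hY₁M₁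
    have hq2 : q ≠ 2 := ne_two_of_dvd_card hG hqd
    have hY₁π : ∀ r : ℕ, r.Prime → r ∣ Nat.card Y₁ → r ∉ sigma M₁ := by
      intro r hr hrd
      rw [hY₁q] at hrd
      rw [(Nat.prime_dvd_prime_iff_eq hr hq).mp hrd]
      exact hqM₁
    obtain ⟨E₁, hE₁, hY₁E₁⟩ := exists_complIn_ge (hG.2.2.2 M₁ hM₁.1)
      (sigmaCore_hall_of hG hU M₁ hM₁).1 hY₁M₁ hY₁π
    by_cases hr : PRankLE q 1 ↥M₁
    · by_cases hqc : q ∣ Nat.card ↥⁅M₁, M₁⁆
      · exact hc (le_commutator_of_rank_one M₁ q hq2 hr hqc Y₁ hY₁M₁ hY₁q)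
      · have hqτ : q ∈ tau1 M₁ := ⟨hq, hqM₁, hqd, hqc, hr⟩
        have hXC : X ≤ Subgroup.centralizer (Y₁ : Set G) := by
          intro x hx
          rw [Subgroup.mem_centralizer_iff]
          intro y hy
          exact (hYX y hy x hx).symm
        have h6 := (h136 M₁ hM₁ E₁ hE₁ q hqτ Y₁ hY₁E₁ hY₁q p X (le_inf hXσ hXC) hXp).1
        have hHM₁ : H = M₁ := h6.2 H hH ((Subgroup.centralizer_le_normalizer _).trans hNX)
        exact hpH (hHM₁ ▸ hpM₁)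
    · have hqτ : q ∈ tau2 M₁ :=
        ⟨hq, hqM₁, Cfsg.Agent.Lib.Helper34.pRankLE_two_of_not_mem_sigma hU hM₁ hqM₁, hr⟩
      obtain ⟨y₁, hy₁⟩ := (Subgroup.ne_bot_iff_exists_ne_one).mp hY₁1
      have hy₁' : (y₁ : G) ≠ 1 := fun h => hy₁ (Subtype.ext h)
      have hX1 : X ≠ ⊥ := by
        intro h
        rw [h, Subgroup.card_bot] at hXp
        exact hpp.one_lt.ne hXp
      obtain ⟨x, hx1⟩ := (Subgroup.ne_bot_iff_exists_ne_one).mp hX1
      have hx1' : (x : G) ≠ 1 := fun h => hx1 (Subtype.ext h)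
      have hord : ∀ r : ℕ, r.Prime → r ∣ orderOf (y₁ : G) → r ∈ tau2 M₁ := by
        intro r hr hrd
        have h1 : orderOf (y₁ : G) ∣ Nat.card Y₁ := by
          have := orderOf_dvd_natCard y₁
          rwa [← Subgroup.orderOf_coe] at this
        rw [hY₁q] at h1
        rw [(Nat.prime_dvd_prime_iff_eq hr hq).mp (hrd.trans h1)]
        exact hqτ
      have hhat : (y₁ : G) ∈ sigmaHat M₁ :=
        ⟨hY₁M₁ y₁.2, (x : G), hXσ x.2, hx1', (hYX _ y₁.2 _ x.2).symm⟩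
      have h20 := (Cfsg.Agent.S1420.result hG M₁ hM₁ E₁ hE₁).2.2.2 (y₁ : G) (hY₁M₁ y₁.2) hy₁' hord hhat
      have hCC : Subgroup.centralizer (Y₁ : Set G) ≤ Subgroup.centralizer ({(y₁ : G)} : Set G) :=
        Subgroup.centralizer_le (by
          intro t ht
          rw [Set.mem_singleton_iff] at ht
          rw [ht]
          exact y₁.2)
      have hMM : M₁ = M := hu.2 M₁ hM₁ (hCC.trans h20.1)
      exact hAM (hMM ▸ hAM₁)

/-- **BG Lemma 13.12** from Step A and the statement of `S1428` (BG Theorem 13.4). -/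
theorem h1312_of [Finite G] (hG : IsMinSimpleOddOrder G) (hA : HStepA G)
    (h1428 : Cfsg.Agent.Lib.Helper97.BGThirteenSix.Stmt1428 G) : H1312 G := by
  intro M hM E hE p hp P hPE hP q hq A hAE hAe hAc hAP
  by_contra hY
  have hpp : p.Prime := hp.1
  have hqq : q.Prime := hq.1
  have : Fact p.Prime := ⟨hpp⟩
  have : Fact q.Prime := ⟨hqq⟩
  have : IsSimpleGroup G := hG.2.1
  have hU : UniquenessThm G := uniquenessThm hG
  -- a subgroup `R` of order `q` of `C_A(P)`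
  obtain ⟨a, ha1⟩ := (Subgroup.ne_bot_iff_exists_ne_one).mp hAP
  have ha1' : (a : G) ≠ 1 := fun h => ha1 (Subtype.ext h)
  obtain ⟨r, R, hr, hRr, hRle, -, hR1, hRp⟩ := exists_prime_card_le a.2 ha1'
  have hRA : R ≤ A := hRle.trans inf_le_left
  have hrq : r = q := by
    have h1 : r ∣ Nat.card A := hRr ▸ Subgroup.card_dvd_of_le hRA
    rw [hAc] at h1
    exact (Nat.prime_dvd_prime_iff_eq hr hqq).mp (hr.dvd_of_dvd_pow h1)
  rw [hrq] at hRr hRp
  have hRCP : R ≤ Subgroup.centralizer (P : Set G) := hRle.trans inf_le_right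
  have h28 := h1428 M hM E hE p hp P hPE hP R (le_inf (hRA.trans hAE) hRCP)
    (by rw [hRr]; exact hqq)
  have hYR : sigmaCore M ⊓ Subgroup.centralizer (R : Set G) ≠ ⊥ := by
    intro h
    apply hY
    rw [← le_bot_iff, ← h]
    exact h28
  have h18 := (Cfsg.Agent.S1418.result hG M hM E hE q hq A ⟨hAE, hAe, hAc⟩).2.2 R hRA hRr hYR
  -- a maximal subgroup `H` over `N_G(P)`
  have hPM : P ≤ M := hPE.trans hE.1
  have hPp : IsPGroup p P := IsPGroup.of_card (n := 1) (by rw [hP, pow_one])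
  have hP1 : P ≠ ⊥ := by
    intro h
    rw [h, Subgroup.card_bot] at hP
    exact hpp.one_lt.ne hP
  have hPT : P ≠ ⊤ := ne_top_of_isPGroup hG.2.1 hG.2.2.1 hPp
  obtain ⟨H, hH, hNP⟩ := exists_isCoatom_ge (normalizer_ne_top_of_simple hG.2.1 hP1 hPT)
  have hpH : p ∈ sigma H := hA M hM p (Or.inl hp) P hPM hP hY H hH hNP
  have hHM : H ≠ M := fun h => hp.2.1 (h ▸ hpH)
  have hCPH : Subgroup.centralizer (P : Set G) ≤ H :=
    (Subgroup.centralizer_le_normalizer _).trans hNP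
  have hRH : R ≤ H := hRCP.trans hCPH
  have hMH : sigmaCore M ⊓ H ≠ ⊥ := by
    intro h
    apply hY
    rw [← le_bot_iff, ← h]
    exact le_inf inf_le_left (inf_le_right.trans hCPH)
  -- no elementary abelian subgroup of order `q ^ 2` of `M` lies in `H`
  have hf : ∀ A' : Subgroup G, A' ≤ M → IsElementaryAbelian q A' → Nat.card A' = q ^ 2 →
      ¬ A' ≤ H := by
    intro A' hA'M hA'e hA'c hA'H
    exact hMH ((Cfsg.Agent.S1417.result hG M hM q hq A' ⟨hA'M, hA'e, hA'c⟩).2.2.2.2.1 H hH hHM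
      hA'H)
  -- `N_G(R) ≤ M`
  have hRT : R ≠ ⊤ := ne_top_of_isPGroup hG.2.1 hG.2.2.1 hRp
  obtain ⟨L, hL, hNL⟩ := exists_isCoatom_ge (normalizer_ne_top_of_simple hG.2.1 hR1 hRT)
  have hLM : L = M := h18.2 L hL ((Subgroup.centralizer_le_normalizer _).trans hNL)
  have hNR : Subgroup.normalizer (R : Set G) ≤ M := hLM ▸ hNL
  have hRM : R ≤ M := Subgroup.le_normalizer.trans hNR
  -- `q ∉ σ(H)`
  have hqσH : q ∉ sigma H := by
    intro hqH
    have hRHM : R ≤ H ⊓ M := le_inf hRH hRM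
    obtain ⟨S, hRS⟩ := Cfsg.Agent.Lib.Helper34.exists_sylow_map_ge hRp hRHM
    have h24 := Cfsg.Agent.S1424.result hG H hH q hqH R hRp hR1 hRH M hM hHM.symm hNR S hRS
    have hS'HM : (S : Subgroup ↥(H ⊓ M)).map (H ⊓ M).subtype ≤ H ⊓ M := Subgroup.map_subtype_le _
    have hrk : ¬ PRankLE q 1 ↥((S : Subgroup ↥(H ⊓ M)).map (H ⊓ M).subtype) := fun h =>
      hq.2.2.2 (pRankLE_of_le_of_not_dvd_relIndex M _ (hS'HM.trans inf_le_right) h24.2.2 h)
    obtain ⟨A', hA'S, hA'e, hA'c⟩ := exists_elemAb_sq_of_not_pRankLE_one _ hrk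
    exact hf A' (hA'S.trans (hS'HM.trans inf_le_right)) hA'e hA'c
      (hA'S.trans (hS'HM.trans inf_le_left))
  -- `q ∉ τ₂(H)`
  have hqτ2H : q ∉ tau2 H := by
    intro hqH
    obtain ⟨A₀, hA₀⟩ := exists_elemAb_sq_of_not_pRankLE_one H hqH.2.2.2
    have h17 := (Cfsg.Agent.S1417.result hG H hH q hqH A₀ hA₀).2.1
    obtain ⟨T, hRT'⟩ := Cfsg.Agent.Lib.Helper34.exists_sylow_map_ge hRp hRH
    have hTab := (h17 T).1
    have hT'M : (T : Subgroup ↥H).map H.subtype ≤ M := by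
      intro t ht
      apply h18.1
      rw [Subgroup.mem_centralizer_iff]
      intro x hx
      obtain ⟨t', ht', rfl⟩ := ht
      obtain ⟨x', hx', rfl⟩ := hRT' hx
      have h1 : (⟨x', hx'⟩ : ↥(T : Subgroup ↥H)) * ⟨t', ht'⟩ = ⟨t', ht'⟩ * ⟨x', hx'⟩ :=
        mul_comm' _ _
      have h2 := congrArg (fun z : ↥(T : Subgroup ↥H) => ((z : ↥H) : G)) h1
      simpa using h2
    have hrk : ¬ PRankLE q 1 ↥((T : Subgroup ↥H).map H.subtype) := fun h =>
      hqH.2.2.2 (pRankLE_of_sylow_rel H T h)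
    obtain ⟨A', hA'T, hA'e, hA'c⟩ := exists_elemAb_sq_of_not_pRankLE_one _ hrk
    exact hf A' (hA'T.trans hT'M) hA'e hA'c (hA'T.trans (Subgroup.map_subtype_le _))
  -- so `q ∈ τ₁(H) ∪ τ₃(H)`
  have hqdH : q ∣ Nat.card H := hRr ▸ Subgroup.card_dvd_of_le hRH
  have hr2 : PRankLE q 2 ↥H := Cfsg.Agent.Lib.Helper34.pRankLE_two_of_not_mem_sigma hU hH hqσH
  have hr1 : PRankLE q 1 ↥H := by
    by_contra h
    exact hqτ2H ⟨hqq, hqσH, hr2, h⟩
  have hqτ : q ∈ tau1 H ∪ tau3 H := by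
    by_cases hd : q ∣ Nat.card ↥⁅H, H⁆
    · exact Or.inr ⟨hqq, hqσH, hd, hr1⟩
    · exact Or.inl ⟨hqq, hqσH, hqdH, hd, hr1⟩
  -- Step A for `(H, q, R, M)`
  have hPσ : P ≤ sigmaCore H :=
    le_hall_of_normal (sigmaCore_hall_of hG hU H hH).1 (le_normalizer_sigmaCore H)
      (Subgroup.le_normalizer.trans hNP) (fun r hr hrd => by
        rw [hP] at hrd
        rw [(Nat.prime_dvd_prime_iff_eq hr hpp).mp hrd]
        exact hpH)
  have hPCR : P ≤ Subgroup.centralizer (R : Set G) := by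
    intro x hx
    rw [Subgroup.mem_centralizer_iff]
    intro y hy
    exact (Subgroup.mem_centralizer_iff.mp (hRCP hy) x hx).symm
  have hne : sigmaCore H ⊓ Subgroup.centralizer (R : Set G) ≠ ⊥ := by
    intro h
    apply hP1
    rw [← le_bot_iff, ← h]
    exact le_inf hPσ hPCR
  exact hq.2.1 (hA H hH q hqτ R hRH hRr hne M hM hNR)

end Cfsg.Agent.Lib.Helper50.BGStepA
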