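import Mathlib
import Cfsg.Agent.S0041

/-!
# Module [LIN] of board #3146 (S1376 / S1436): `C_s × C_s` acting on `C_p × C_p` contains a
nontrivial "scalar"

`exists_normalizes_zpowers`: an elementary abelian group `B` of order `s²` normalizing an elementary
abelian `p`-group `A` of order at most `p²` (`p ≠ s`) contains, for every `x ∈ A`, a non-identity element
normalizing `⟨x⟩`.
-/

set_option autoImplicit false

namespace Cfsg.Agent.Lib.Helper50

open Cfsg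

/-- a homomorphism from a non-cyclic group to a cyclic group has a nontrivial kernel -/
theorem exists_ne_one_map_eq_one {B C : Type*} [Group B] [Group C] [IsCyclic C]
    (hB : ¬ IsCyclic B) (F : B →* C) : ∃ b : B, b ≠ 1 ∧ F b = 1 := by
  by_contra h
  push Not at h
  apply hB
  apply isCyclic_of_injective F
  rw [injective_iff_map_eq_one]
  intro b hb
  by_contra hb1
  exact h b hb1 hb

/-- the automorphism group of a group of prime order is cyclic and commutative -/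
theorem mulAut_of_card_prime {L : Type*} [Group L] {p : ℕ} [Fact p.Prime]
    (hL : Nat.card L = p) : IsCyclic (MulAut L) ∧ ∀ φ ψ : MulAut L, φ * ψ = ψ * φ := by
  have : Fact (Nat.card L).Prime := ⟨hL ▸ Fact.out⟩
  have hc : IsCyclic L := isCyclic_of_prime_card hL
  let e := IsCyclic.mulAutMulEquiv L
  constructor
  · exact isCyclic_of_injective e.toMonoidHom e.injective
  · intro φ ψ
    apply e.injective
    rw [map_mul, map_mul, mul_comm]

variable {G : Type*} [Group G] [Finite G]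

theorem exists_normalizes_zpowers (p s : ℕ) [Fact p.Prime] [Fact s.Prime] (hps : p ≠ s)
    (A B : Subgroup G) (hBA : B ≤ Subgroup.normalizer (A : Set G))
    (hAab : ∀ a ∈ A, ∀ b ∈ A, a * b = b * a) (hAexp : ∀ a ∈ A, a ^ p = 1)
    (hAcard : Nat.card A ≤ p ^ 2)
    (hBab : ∀ a ∈ B, ∀ b ∈ B, a * b = b * a) (hBexp : ∀ b ∈ B, b ^ s = 1)
    (hBcard : Nat.card B = s ^ 2) (x : G) (hx : x ∈ A) :
    ∃ b ∈ B, b ≠ 1 ∧ b * x * b⁻¹ ∈ Subgroup.zpowers x := by
  have hp : p.Prime := Fact.out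
  have hs : s.Prime := Fact.out
  have hcop : Nat.Coprime s p := (Nat.coprime_primes hs hp).2 (Ne.symm hps)
  have hconjA : ∀ b ∈ B, ∀ a ∈ A, b * a * b⁻¹ ∈ A := fun b hb a ha =>
    (Subgroup.mem_normalizer_iff.1 (hBA hb) a).1 ha
  -- `B` is not cyclic
  have hBnc : ¬ IsCyclic ↥B := by
    intro hc
    obtain ⟨g, hg⟩ := hc.exists_generator
    have h1 : orderOf g = Nat.card ↥B := orderOf_eq_card_of_forall_mem_zpowers hg
    have h2 : g ^ s = 1 := Subtype.ext (by simpa using hBexp g g.2)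
    have h3 := orderOf_dvd_of_pow_eq_one h2
    rw [h1, hBcard] at h3
    have h4 := Nat.le_of_dvd hs.pos h3
    nlinarith [hs.two_le]
  obtain ⟨b0, hb0B, hb01⟩ : ∃ b ∈ B, b ≠ 1 := by
    by_contra h
    push Not at h
    have hbot : B = ⊥ := (Subgroup.eq_bot_iff_forall B).2 h
    rw [hbot, Subgroup.card_bot] at hBcard
    nlinarith [hs.two_le]
  by_cases hx1 : x = 1
  · exact ⟨b0, hb0B, hb01, by rw [hx1]; simp⟩
  -- some `b1 ≠ 1` in `B` has a nontrivial fixed point on `A`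
  obtain ⟨b1, hb1B, hb11, z, hzA, hz1, hbz⟩ :
      ∃ b1 ∈ B, b1 ≠ 1 ∧ ∃ z ∈ A, z ≠ 1 ∧ b1 * z = z * b1 := by
    by_contra h
    push Not at h
    apply hBnc
    have hAc : IsMulCommutative ↥A := ⟨⟨fun a b => Subtype.ext (hAab a a.2 b b.2)⟩⟩
    have hA1 : A ≠ ⊥ := fun h0 => hx1 (Subgroup.mem_bot.1 (h0 ▸ hx))
    apply Cfsg.Agent.S0041.result B A hA1 hBA _
      (Or.inl ⟨⟨fun a b => Subtype.ext (hBab a a.2 b b.2)⟩⟩)
    intro b hbB hb1
    rw [eq_bot_iff]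
    rintro z ⟨hzA, hzc⟩
    rw [Subgroup.mem_bot]
    by_contra hz1
    have h5 := Subgroup.mem_centralizer_iff.1 hzc b (Set.mem_singleton b)
    exact h b hbB hb1 z hzA hz1 h5
  set Z : Subgroup G := A ⊓ Subgroup.centralizer ({b1} : Set G) with hZdef
  have hmemZ : ∀ a : G, a ∈ Z ↔ a ∈ A ∧ b1 * a = a * b1 := by
    intro a
    rw [hZdef, Subgroup.mem_inf, Subgroup.mem_centralizer_iff]
    constructor
    · rintro ⟨h1, h2⟩
      exact ⟨h1, h2 b1 (Set.mem_singleton b1)⟩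
    · rintro ⟨h1, h2⟩
      refine ⟨h1, fun h hh => ?_⟩
      rw [Set.mem_singleton_iff] at hh
      rw [hh]; exact h2
  have hZA : Z ≤ A := inf_le_left
  by_cases hxZ : x ∈ Z
  · refine ⟨b1, hb1B, hb11, ?_⟩
    have e : b1 * x * b1⁻¹ = x := by rw [((hmemZ x).1 hxZ).2]; group
    rw [e]; exact Subgroup.mem_zpowers x
  -- orders: `|A| = p²`, `|Z| = p`
  have hApg : IsPGroup p ↥A := fun a => ⟨1, by
    apply Subtype.ext
    simpa using hAexp a a.2⟩
  have hZpg : IsPGroup p ↥Z := fun a => ⟨1, by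
    apply Subtype.ext
    simpa using hAexp a (hZA a.2)⟩
  obtain ⟨n, hn⟩ := IsPGroup.iff_card.1 hApg
  obtain ⟨j, hj⟩ := IsPGroup.iff_card.1 hZpg
  have hZ1 : Z ≠ ⊥ := fun h0 => hz1 (Subgroup.mem_bot.1 (h0 ▸ (hmemZ z).2 ⟨hzA, hbz⟩))
  have hZltA : Nat.card ↥Z < Nat.card ↥A := by
    by_contra hge
    push Not at hge
    have := Subgroup.eq_of_le_of_card_ge hZA hge
    exact hxZ (this ▸ hx)
  have hn2 : n ≤ 2 := by
    rw [hn] at hAcard
    exact (Nat.pow_le_pow_iff_right hp.one_lt).1 hAcard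
  have hj0 : j ≠ 0 := by
    intro h0
    rw [h0, pow_zero] at hj
    exact hZ1 (Subgroup.card_eq_one.1 hj)
  have hjn : j < n := by
    rw [hn, hj] at hZltA
    exact (Nat.pow_lt_pow_iff_right hp.one_lt).1 hZltA
  have hj1 : j = 1 := by omega
  have hn2' : n = 2 := by omega
  rw [hj1, pow_one] at hj
  rw [hn2'] at hn
  -- the commutator map `κ(a) = a⁻¹ (b1 a b1⁻¹)` and its image `M`
  let κ : ↥A →* G := MonoidHom.mk' (fun a => (a : G)⁻¹ * (b1 * a * b1⁻¹)) (by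
    intro a b
    have h1 : b1 * (a : G) * b1⁻¹ ∈ A := hconjA b1 hb1B a a.2
    have h2 : (b : G)⁻¹ * (a : G)⁻¹ = (a : G)⁻¹ * (b : G)⁻¹ :=
      hAab _ (A.inv_mem b.2) _ (A.inv_mem a.2)
    have h3 : (b : G)⁻¹ * (b1 * (a : G) * b1⁻¹) = (b1 * (a : G) * b1⁻¹) * (b : G)⁻¹ :=
      hAab _ (A.inv_mem b.2) _ h1
    calc ((a * b : ↥A) : G)⁻¹ * (b1 * ((a * b : ↥A) : G) * b1⁻¹)
        = (b : G)⁻¹ * (a : G)⁻¹ * ((b1 * (a : G) * b1⁻¹) * (b1 * (b : G) * b1⁻¹)) := by
          simp only [Subgroup.coe_mul, mul_inv_rev]; group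
      _ = (a : G)⁻¹ * ((b : G)⁻¹ * (b1 * (a : G) * b1⁻¹)) * (b1 * (b : G) * b1⁻¹) := by
          rw [h2]; group
      _ = (a : G)⁻¹ * ((b1 * (a : G) * b1⁻¹) * (b : G)⁻¹) * (b1 * (b : G) * b1⁻¹) := by rw [h3]
      _ = (a : G)⁻¹ * (b1 * (a : G) * b1⁻¹) * ((b : G)⁻¹ * (b1 * (b : G) * b1⁻¹)) := by group)
  have hκ : ∀ a : ↥A, κ a = (a : G)⁻¹ * (b1 * a * b1⁻¹) := fun a => rfl
  set M : Subgroup G := κ.range with hMdef
  have hMA : M ≤ A := by
    rintro _ ⟨a, rfl⟩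
    rw [hκ]
    exact A.mul_mem (A.inv_mem a.2) (hconjA b1 hb1B a a.2)
  -- `ker κ ≅ Z`
  have hker : Nat.card ↥κ.ker = Nat.card ↥Z := by
    apply Nat.card_congr
    refine ⟨fun a => ⟨(a.1 : G), (hmemZ _).2 ⟨a.1.2, ?_⟩⟩,
      fun c => ⟨⟨c.1, hZA c.2⟩, ?_⟩, fun a => rfl, fun c => rfl⟩
    · have h1 : κ a.1 = 1 := a.2
      rw [hκ] at h1
      have h2 : b1 * (a.1 : G) * b1⁻¹ = (a.1 : G) := by
        have := congrArg (fun t => (a.1 : G) * t) h1
        simpa using this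
      calc b1 * (a.1 : G) = b1 * (a.1 : G) * b1⁻¹ * b1 := by group
        _ = (a.1 : G) * b1 := by rw [h2]
    · rw [MonoidHom.mem_ker, hκ]
      have h2 := ((hmemZ c.1).1 c.2).2
      change (c.1 : G)⁻¹ * (b1 * c.1 * b1⁻¹) = 1
      rw [h2]; group
  have hMcard : Nat.card ↥M = p := by
    have h1 := Subgroup.index_ker κ
    have h2 := Subgroup.card_mul_index κ.ker
    rw [h1, hker, hj, hn] at h2
    have h3 : p * Nat.card ↥M = p * p := by rw [h2]; ring
    exact Nat.eq_of_mul_eq_mul_left hp.pos h3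
  -- `B` normalizes `Z` and `M`
  have hBZ : B ≤ Subgroup.normalizer (Z : Set G) := by
    have key : ∀ b ∈ B, ∀ c ∈ Z, b * c * b⁻¹ ∈ Z := by
      intro b hb c hc
      obtain ⟨hcA, hcb⟩ := (hmemZ c).1 hc
      refine (hmemZ _).2 ⟨hconjA b hb c hcA, ?_⟩
      have hbb : b1 * b = b * b1 := hBab b1 hb1B b hb
      calc b1 * (b * c * b⁻¹) = (b1 * b) * c * b⁻¹ := by group
        _ = b * (b1 * c) * b⁻¹ := by rw [hbb]; group
        _ = b * (c * b1) * b⁻¹ := by rw [hcb]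
        _ = b * c * (b1 * b⁻¹) := by group
        _ = b * c * (b⁻¹ * b1) := by
            have : b1 * b⁻¹ = b⁻¹ * b1 := hBab b1 hb1B _ (B.inv_mem hb)
            rw [this]
        _ = b * c * b⁻¹ * b1 := by group
    intro b hb
    rw [Subgroup.mem_normalizer_iff]
    intro c
    constructor
    · exact key b hb c
    · intro h
      have := key b⁻¹ (B.inv_mem hb) _ h
      simpa [mul_assoc] using this
  have hBM : B ≤ Subgroup.normalizer (M : Set G) := by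
    have key : ∀ b ∈ B, ∀ c ∈ M, b * c * b⁻¹ ∈ M := by
      rintro b hb _ ⟨a, rfl⟩
      refine ⟨⟨b * a * b⁻¹, hconjA b hb a a.2⟩, ?_⟩
      rw [hκ, hκ]
      have hbb : b1 * b = b * b1 := hBab b1 hb1B b hb
      have hbb' : b⁻¹ * b1⁻¹ = b1⁻¹ * b⁻¹ := by
        rw [← mul_inv_rev, ← mul_inv_rev, hbb]
      change (b * (a : G) * b⁻¹)⁻¹ * (b1 * (b * (a : G) * b⁻¹) * b1⁻¹) = _
      calc (b * (a : G) * b⁻¹)⁻¹ * (b1 * (b * (a : G) * b⁻¹) * b1⁻¹)
          = b * (a : G)⁻¹ * b⁻¹ * ((b1 * b) * (a : G) * (b⁻¹ * b1⁻¹)) := by group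
        _ = b * (a : G)⁻¹ * b⁻¹ * ((b * b1) * (a : G) * (b1⁻¹ * b⁻¹)) := by rw [hbb, hbb']
        _ = b * ((a : G)⁻¹ * (b1 * (a : G) * b1⁻¹)) * b⁻¹ := by group
    intro b hb
    rw [Subgroup.mem_normalizer_iff]
    intro c
    constructor
    · exact key b hb c
    · intro h
      have := key b⁻¹ (B.inv_mem hb) _ h
      simpa [mul_assoc] using this
  -- `Z ∩ M = 1`
  have hZM : ∀ m ∈ M, m ∈ Z → m = 1 := by
    rintro _ ⟨a, rfl⟩ hmZ
    set m := κ a with hm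
    have hmb : b1 * m = m * b1 := ((hmemZ m).1 hmZ).2
    have hconj : b1 * (a : G) * b1⁻¹ = (a : G) * m := by rw [hm, hκ]; group
    have hiter : ∀ i : ℕ, b1 ^ i * (a : G) * (b1 ^ i)⁻¹ = (a : G) * m ^ i := by
      intro i
      induction i with
      | zero => simp
      | succ i ih =>
        have e : b1 ^ (i + 1) * (a : G) * (b1 ^ (i + 1))⁻¹ =
            b1 * (b1 ^ i * (a : G) * (b1 ^ i)⁻¹) * b1⁻¹ := by
          rw [pow_succ']; group
        have e2 : b1 * m ^ i * b1⁻¹ = m ^ i := by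
          have : b1 * m ^ i = m ^ i * b1 := (Commute.pow_right (show Commute b1 m from hmb) i)
          rw [this]; group
        rw [e, ih]
        calc b1 * ((a : G) * m ^ i) * b1⁻¹ = (b1 * (a : G) * b1⁻¹) * (b1 * m ^ i * b1⁻¹) := by
              group
          _ = (a : G) * m * m ^ i := by rw [hconj, e2]
          _ = (a : G) * m ^ (i + 1) := by rw [pow_succ', mul_assoc]
    have hms : m ^ s = 1 := by
      have h1 := hiter s
      rw [hBexp b1 hb1B] at h1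
      have h2 : (a : G) = (a : G) * m ^ s := by simpa using h1
      exact (mul_eq_left (a := (a : G))).1 h2.symm
    have hmp : m ^ p = 1 := hAexp m (hZA hmZ)
    have h1 : orderOf m ∣ Nat.gcd s p := Nat.dvd_gcd (orderOf_dvd_of_pow_eq_one hms)
      (orderOf_dvd_of_pow_eq_one hmp)
    rw [hcop] at h1
    exact orderOf_eq_one_iff.1 (Nat.dvd_one.1 h1)
  -- `A = Z M`
  obtain ⟨z', hz'Z, m', hm'M, hxzm⟩ : ∃ z' ∈ Z, ∃ m' ∈ M, x = z' * m' := by
    let g : ↥Z × ↥M → ↥A := fun t => ⟨t.1 * t.2, A.mul_mem (hZA t.1.2) (hMA t.2.2)⟩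
    have hginj : Function.Injective g := by
      rintro ⟨⟨a, ha⟩, ⟨b, hb⟩⟩ ⟨⟨a', ha'⟩, ⟨b', hb'⟩⟩ hab
      have hab' : a * b = a' * b' := congrArg Subtype.val hab
      have h1 : a'⁻¹ * a = b' * b⁻¹ := by
        have : a'⁻¹ * (a * b) * b⁻¹ = a'⁻¹ * (a' * b') * b⁻¹ := by rw [hab']
        simpa [mul_assoc] using this
      have h2 : b' * b⁻¹ = 1 := by
        apply hZM _ (M.mul_mem hb' (M.inv_mem hb))
        rw [← h1]
        exact Z.mul_mem (Z.inv_mem ha') ha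
      have h3 : a'⁻¹ * a = 1 := by rw [h1, h2]
      have h4 : a = a' := by
        have := congrArg (fun t => a' * t) h3
        simpa using this
      have h5 : b = b' := by
        have := congrArg (fun t => t * b) h2
        simpa using this.symm
      subst h4; subst h5; rfl
    have hcard : Nat.card ↥A ≤ Nat.card (↥Z × ↥M) := by
      rw [Nat.card_prod, hj, hMcard, hn]
      exact le_of_eq (by ring)
    obtain ⟨⟨z', m'⟩, hzm⟩ := (hginj.bijective_of_nat_card_le hcard).2 ⟨x, hx⟩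
    exact ⟨z', z'.2, m', m'.2, (congrArg Subtype.val hzm).symm⟩
  -- the two actions of `B`
  let f1 : ↥B →* MulAut ↥Z := (Subgroup.normalizerMonoidHom Z).comp (Subgroup.inclusion hBZ)
  let f2 : ↥B →* MulAut ↥M := (Subgroup.normalizerMonoidHom M).comp (Subgroup.inclusion hBM)
  have hf1 : ∀ (b : ↥B) (c : ↥Z), ((f1 b c : ↥Z) : G) = b * c * (b : G)⁻¹ := fun b c => rfl
  have hf2 : ∀ (b : ↥B) (c : ↥M), ((f2 b c : ↥M) : G) = b * c * (b : G)⁻¹ := fun b c => rfl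
  let θ : ↥Z ≃* ↥M := mulEquivOfPrimeCardEq hj hMcard
  obtain ⟨hMcyc, hMcomm⟩ := mulAut_of_card_prime (L := ↥M) hMcard
  let F : ↥B →* MulAut ↥M := MonoidHom.mk' (fun b => (MulAut.congr θ (f1 b))⁻¹ * f2 b) (by
    intro a b
    rw [map_mul, map_mul, map_mul, mul_inv_rev]
    rw [hMcomm (MulAut.congr θ (f1 b))⁻¹ (MulAut.congr θ (f1 a))⁻¹, mul_assoc, mul_assoc]
    congr 1
    rw [← mul_assoc, ← mul_assoc, hMcomm (MulAut.congr θ (f1 b))⁻¹ (f2 a)])
  obtain ⟨b, hb1, hFb⟩ := exists_ne_one_map_eq_one hBnc F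
  have hFb' : f2 b = MulAut.congr θ (f1 b) := by
    have h1 : (MulAut.congr θ (f1 b))⁻¹ * f2 b = 1 := hFb
    exact (inv_mul_eq_one.1 h1).symm
  have hZcyc : IsCyclic ↥Z := isCyclic_of_prime_card hj
  obtain ⟨k, hk⟩ := MonoidHom.map_cyclic ((f1 b : ↥Z ≃* ↥Z).toMonoidHom)
  have hkZ : ∀ c : ↥Z, f1 b c = c ^ k := fun c => hk c
  have hkM : ∀ c : ↥M, f2 b c = c ^ k := by
    intro c
    rw [hFb']
    change θ (f1 b (θ.symm c)) = c ^ k
    rw [hkZ, map_zpow, MulEquiv.apply_symm_apply]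
  refine ⟨b, b.2, fun h => hb1 (Subtype.ext h), ?_⟩
  have e1 : (b : G) * z' * (b : G)⁻¹ = z' ^ k := by
    have := congrArg Subtype.val (hkZ ⟨z', hz'Z⟩)
    rw [hf1] at this
    simpa using this
  have e2 : (b : G) * m' * (b : G)⁻¹ = m' ^ k := by
    have := congrArg Subtype.val (hkM ⟨m', hm'M⟩)
    rw [hf2] at this
    simpa using this
  have hcomm : Commute z' m' := hAab z' (hZA hz'Z) m' (hMA hm'M)
  have e3 : (b : G) * x * (b : G)⁻¹ = x ^ k := by
    rw [hxzm, hcomm.mul_zpow, ← e1, ← e2]; group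
  rw [e3]
  exact Subgroup.zpow_mem_zpowers x k

end Cfsg.Agent.Lib.Helper50
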