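import Mathlib
import Cfsg.Agent.Lib.Helper2.FWDefs

/-!
# FW-[F4] `shift`, relative form (helper2's project FW, S3211): helper50

`shift_of`: the statement of [FW-F4] with [FW-NL] and [FW-U] as hypotheses.
-/

set_option autoImplicit false
set_option linter.unusedSectionVars false
set_option linter.unusedVariables false

namespace Cfsg.Agent.Lib.Helper50.FW

open Cfsg.Agent.Lib.Helper2.FW

variable {G : Type*} [Group G] {L₁ L₂ : Subgroup G} {j n : G}

theorem shift_of (H : Hyp L₁ L₂ j n) {a : G} (ha : a ∈ L₁) (haa : a * a = j)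
    (hNL : ∀ x ∈ L₁, ∀ y ∈ L₂, (n * (x * y)) * (n * (x * y)) ≠ 1)
    (hU : n * a * n⁻¹ ∈ L₂ ∧ (n * a * n⁻¹) * (n * a * n⁻¹) = j ∧
      (a * (n * a * n⁻¹)) * j = j * (a * (n * a * n⁻¹)) ∧
      (a * (n * a * n⁻¹)) * (a * (n * a * n⁻¹)) = 1 ∧
      a * (n * a * n⁻¹) ≠ 1 ∧ a * (n * a * n⁻¹) ≠ j ∧
      n * (a * (n * a * n⁻¹)) = (a * (n * a * n⁻¹)) * n) {k : G}
    (hk : k ∈ Roots j (a * (n * a * n⁻¹)) (a * (n * a * n⁻¹))) (hkL : ¬ InL L₁ L₂ k) :
    a⁻¹ * k ∈ Roots j (a * (n * a * n⁻¹)) j ∧ ¬ InL L₁ L₂ (a⁻¹ * k) ∧ a⁻¹ * k ≠ n := by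
  obtain ⟨hbL, hbb, huj, huu, hu1, huj', hnu⟩ := hU
  obtain ⟨hkj, hku, hkk⟩ := hk
  obtain ⟨b, hb⟩ : ∃ b, b = n * a * n⁻¹ := ⟨_, rfl⟩
  rw [← hb] at hbL hbb huj huu hu1 huj' hnu hku hkk ⊢
  -- basic commutations
  have haj : a * j = j * a := H.cent₁ a ha
  have hbj : b * j = j * b := H.cent₂ b hbL
  have hab : a * b = b * a := H.comm a ha b hbL
  have hjinv : j⁻¹ = j := inv_eq_of_mul_eq_one_left H.j_sq
  have hau : Commute a (a * b) := by
    show a * (a * b) = a * b * a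
    rw [mul_assoc, ← hab]
  have hnjn : n * j * n⁻¹ = j := by rw [H.n_comm, mul_inv_cancel_right]
  -- `a n = n b`
  have hanb : a * n = n * b := by
    have h1 : n * a = b * n := by rw [hb]; group
    have h2 : (a * n) * n = (n * b) * n := by
      calc (a * n) * n = a * (n * n) := by group
        _ = a * j := by rw [H.n_sq]
        _ = j * a := haj
        _ = (n * n) * a := by rw [H.n_sq]
        _ = n * (n * a) := by group
        _ = n * (b * n) := by rw [h1]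
        _ = (n * b) * n := by group
    exact mul_right_cancel h2
  -- `k = n (x y)`
  rcases H.cover k hkj with hL | ⟨x, hx, y, hy, hkxy⟩
  · exact absurd hL hkL
  have hya : y * a = a * y := (H.comm a ha y hy).symm
  have hkak : k * a * k⁻¹ = n * (x * a * x⁻¹) * n⁻¹ := by
    rw [hkxy]
    calc n * (x * y) * a * (n * (x * y))⁻¹ = n * (x * (y * a) * y⁻¹ * x⁻¹) * n⁻¹ := by group
      _ = n * (x * (a * y) * y⁻¹ * x⁻¹) * n⁻¹ := by rw [hya]
      _ = n * (x * a * x⁻¹) * n⁻¹ := by group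
  -- `m = x y` commutes with `u`
  have hmu : Commute (x * y) (a * b) := by
    have h1 : Commute (n⁻¹ * k) (a * b) :=
      Commute.mul_left (Commute.inv_left (show Commute n (a * b) from hnu)) hku
    rwa [hkxy, inv_mul_cancel_left] at h1
  -- `A B' = a b`
  have hB'x : (y * b * y⁻¹) * x⁻¹ = x⁻¹ * (y * b * y⁻¹) :=
    (H.comm x⁻¹ (L₁.inv_mem hx) _ (L₂.mul_mem (L₂.mul_mem hy hbL) (L₂.inv_mem hy))).symm
  have hAB : (x * a * x⁻¹) * (y * b * y⁻¹) = a * b := by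
    have h1 : (x * y) * (a * b) * (x * y)⁻¹ = a * b := by
      rw [hmu.eq, mul_inv_cancel_right]
    rw [← h1]
    calc (x * a * x⁻¹) * (y * b * y⁻¹) = x * a * (x⁻¹ * (y * b * y⁻¹)) := by group
      _ = x * a * ((y * b * y⁻¹) * x⁻¹) := by rw [hB'x]
      _ = x * (a * y) * (b * y⁻¹ * x⁻¹) := by group
      _ = x * (y * a) * (b * y⁻¹ * x⁻¹) := by rw [hya]
      _ = (x * y) * (a * b) * (x * y)⁻¹ := by group
  -- `ε`
  have hε1 : a⁻¹ * (x * a * x⁻¹) ∈ L₁ :=
    L₁.mul_mem (L₁.inv_mem ha) (L₁.mul_mem (L₁.mul_mem hx ha) (L₁.inv_mem hx))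
  have hεeq : a⁻¹ * (x * a * x⁻¹) = b * (y * b * y⁻¹)⁻¹ := by
    have h1 : x * a * x⁻¹ = a * b * (y * b * y⁻¹)⁻¹ := by rw [← hAB, mul_inv_cancel_right]
    rw [h1]; group
  have hε2 : a⁻¹ * (x * a * x⁻¹) ∈ L₂ := by
    rw [hεeq]
    exact L₂.mul_mem hbL (L₂.inv_mem (L₂.mul_mem (L₂.mul_mem hy hbL) (L₂.inv_mem hy)))
  have hsq : (a⁻¹ * k) * (a⁻¹ * k) = a⁻¹ * (k * a * k⁻¹)⁻¹ * (k * k) := by group
  have hkey : (a⁻¹ * k) * (a⁻¹ * k) = j := by
    rcases H.inter _ hε1 hε2 with h1 | h1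
    · -- `ε = 1`: contradiction with [FW-NL]
      exfalso
      have hA : x * a * x⁻¹ = a := (inv_mul_eq_one.mp h1).symm
      rw [hA, ← hb] at hkak
      have h2 : (a⁻¹ * k) * (a⁻¹ * k) = 1 := by
        rw [hsq, hkak, hkk, hab]; group
      have h3 : a⁻¹ * k = n * (x * (b⁻¹ * y)) := by
        have h4 : a⁻¹ * n = n * b⁻¹ := by
          calc a⁻¹ * n = a⁻¹ * (n * b) * b⁻¹ := by group
            _ = a⁻¹ * (a * n) * b⁻¹ := by rw [hanb]
            _ = n * b⁻¹ := by group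
        have h5 : b⁻¹ * x = x * b⁻¹ := (H.comm x hx b⁻¹ (L₂.inv_mem hbL)).symm
        calc a⁻¹ * k = (a⁻¹ * n) * (x * y) := by rw [hkxy]; group
          _ = (n * b⁻¹) * (x * y) := by rw [h4]
          _ = n * ((b⁻¹ * x) * y) := by group
          _ = n * ((x * b⁻¹) * y) := by rw [h5]
          _ = n * (x * (b⁻¹ * y)) := by group
      rw [h3] at h2
      exact hNL x hx (b⁻¹ * y) (L₂.mul_mem (L₂.inv_mem hbL) hy) h2
    · -- `ε = j`
      have hA : x * a * x⁻¹ = a * j := inv_mul_eq_iff_eq_mul.mp h1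
      have hkak' : k * a * k⁻¹ = b * j := by
        rw [hkak, hA]
        calc n * (a * j) * n⁻¹ = (n * a * n⁻¹) * (n * j * n⁻¹) := by group
          _ = b * j := by rw [hnjn, ← hb]
      have haj' : a⁻¹ * j⁻¹ = j⁻¹ * a⁻¹ := by
        rw [← mul_inv_rev, ← mul_inv_rev, haj]
      rw [hsq, hkak', hkk]
      calc a⁻¹ * (b * j)⁻¹ * (a * b) = (a⁻¹ * j⁻¹) * (b⁻¹ * (a * b)) := by group
        _ = (j⁻¹ * a⁻¹) * (b⁻¹ * (b * a)) := by rw [haj', hab]
        _ = j⁻¹ := by group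
        _ = j := hjinv
  refine ⟨⟨?_, ?_, hkey⟩, ?_, ?_⟩
  · exact (Commute.mul_left (Commute.inv_left (show Commute a j from haj)) hkj).eq
  · exact (Commute.mul_left (Commute.inv_left hau) hku).eq
  · rintro ⟨x', hx', y', hy', h⟩
    apply hkL
    refine ⟨a * x', L₁.mul_mem ha hx', y', hy', ?_⟩
    calc k = a * (a⁻¹ * k) := by group
      _ = a * (x' * y') := by rw [h]
      _ = a * x' * y' := by group
  · intro h
    have h1 : k = a * n := by
      calc k = a * (a⁻¹ * k) := by group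
        _ = a * n := by rw [h]
    have h2 : k * k = (a * b) * j := by
      rw [h1]
      calc a * n * (a * n) = a * (n * a * n⁻¹) * (n * n) := by group
        _ = (a * b) * j := by rw [← hb, H.n_sq]
    rw [hkk] at h2
    apply H.j_ne
    have h3 : (a * b) * 1 = (a * b) * j := by rw [mul_one]; exact h2
    exact (mul_left_cancel h3).symm

end Cfsg.Agent.Lib.Helper50.FW
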