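import Mathlib
import Cfsg.Agent.Lib.Helper30.BSW.Defs

/-!
# Brauer–Suzuki–Wall (S3282), module [B2]: the number of non-identity elements conjugate into `K`
-/

set_option autoImplicit false

namespace Cfsg.Agent.Lib.Helper50.BSW

open Cfsg.Agent.Lib.Helper30.BSW

variable {G : Type*} [Group G] {t s : G} {K : Subgroup G}

/-- `C_G(t)` normalizes `K`. -/
theorem conj_mem_of_mem_H (b : Basic t s K) {c : G} (hc : c ∈ Subgroup.centralizer ({t} : Set G)) {y : G}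
    (hy : y ∈ K) : c * y * c⁻¹ ∈ K := by
  rcases (b.mem_H c).1 hc with hcK | ⟨z, hz, rfl⟩
  · rw [b.comm c hcK y hy, mul_assoc, mul_inv_cancel, mul_one]; exact hy
  · rw [b.inv_coset z hz y hy]; exact K.inv_mem hy

theorem card_nonone (K : Subgroup G) [Finite G] : Nat.card {y : G // y ∈ K ∧ y ≠ 1} = Nat.card K - 1 := by
  have h1 : Nat.card {y : G // y ∈ K ∧ y ≠ 1} = Set.ncard ((K : Set G) \ {1}) := by
    rw [← Nat.card_coe_set_eq]
    rfl
  have h2 : Nat.card K = Set.ncard (K : Set G) := by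
    rw [← Nat.card_coe_set_eq]
    rfl
  rw [h1, h2, Set.ncard_sdiff_singleton_of_mem (K.one_mem)]

/-- **[B2]** -/
theorem card_conj_into [Finite G] (h : Hyp t s K) (b : Basic t s K) :
    Nat.card {x : G // x ≠ 1 ∧ ¬ IsOuter K x} * (2 * Nat.card K) = Nat.card G * (Nat.card K - 1) := by
  classical
  have hex : ∀ x : {x : G // x ≠ 1 ∧ ¬ IsOuter K x}, ∃ g : G, g * (x : G) * g⁻¹ ∈ K := by
    intro x
    have := x.2.2
    unfold IsOuter at this
    push Not at this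
    exact this
  choose g₀ hg₀ using hex
  rw [← b.card_H, ← card_nonone K, ← Nat.card_prod, ← Nat.card_prod]
  have hS : ∀ (g : G) (y : {y : G // y ∈ K ∧ y ≠ 1}),
      g⁻¹ * (y : G) * g ≠ 1 ∧ ¬ IsOuter K (g⁻¹ * (y : G) * g) := by
    intro g y
    constructor
    · intro hone
      apply y.2.2
      have : (y : G) = g * (g⁻¹ * (y : G) * g) * g⁻¹ := by group
      rw [this, hone]; group
    · intro hout
      apply hout g
      have : g * (g⁻¹ * (y : G) * g) * g⁻¹ = (y : G) := by group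
      rw [this]; exact y.2.1
  obtain ⟨F, hF⟩ : ∃ F : G × {y : G // y ∈ K ∧ y ≠ 1} → {x : G // x ≠ 1 ∧ ¬ IsOuter K x},
      ∀ gy, (F gy : G) = gy.1⁻¹ * (gy.2 : G) * gy.1 :=
    ⟨fun gy => ⟨gy.1⁻¹ * (gy.2 : G) * gy.1, hS gy.1 gy.2⟩, fun _ => rfl⟩
  have hne : ∀ x : {x : G // x ≠ 1 ∧ ¬ IsOuter K x}, g₀ x * (x : G) * (g₀ x)⁻¹ ≠ 1 := by
    intro x hone
    apply x.2.1
    have : (x : G) = (g₀ x)⁻¹ * (g₀ x * (x : G) * (g₀ x)⁻¹) * g₀ x := by group
    rw [this, hone]; group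
  have hc : ∀ gy : G × {y : G // y ∈ K ∧ y ≠ 1},
      gy.1 * (g₀ (F gy))⁻¹ ∈ Subgroup.centralizer ({t} : Set G) := by
    intro gy
    apply b.ti _ (g₀ (F gy) * (F gy : G) * (g₀ (F gy))⁻¹) (hg₀ (F gy)) (hne (F gy))
    have : gy.1 * (g₀ (F gy))⁻¹ * (g₀ (F gy) * (F gy : G) * (g₀ (F gy))⁻¹) * (gy.1 * (g₀ (F gy))⁻¹)⁻¹ =
        (gy.2 : G) := by
      rw [hF]; group
    rw [this]; exact gy.2.2.1
  have hY : ∀ (x : {x : G // x ≠ 1 ∧ ¬ IsOuter K x}) (c : ↥(Subgroup.centralizer ({t} : Set G))),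
      ((c : G) * g₀ x) * (x : G) * ((c : G) * g₀ x)⁻¹ ∈ K ∧
        ((c : G) * g₀ x) * (x : G) * ((c : G) * g₀ x)⁻¹ ≠ 1 := by
    intro x c
    have e : ((c : G) * g₀ x) * (x : G) * ((c : G) * g₀ x)⁻¹ =
        (c : G) * (g₀ x * (x : G) * (g₀ x)⁻¹) * (c : G)⁻¹ := by group
    constructor
    · rw [e]; exact conj_mem_of_mem_H b c.2 (hg₀ x)
    · intro hone
      apply x.2.1
      have : (x : G) = ((c : G) * g₀ x)⁻¹ *
          (((c : G) * g₀ x) * (x : G) * ((c : G) * g₀ x)⁻¹) * ((c : G) * g₀ x) := by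
        group
      rw [this, hone]; group
  refine Nat.card_congr
    { toFun := fun xc => (((xc.2 : G) * g₀ xc.1), ⟨_, hY xc.1 xc.2⟩)
      invFun := fun gy => (F gy, ⟨gy.1 * (g₀ (F gy))⁻¹, hc gy⟩)
      left_inv := ?_
      right_inv := ?_ }
  · rintro ⟨x, c⟩
    have hx' : F ((c : G) * g₀ x, ⟨_, hY x c⟩) = x := by
      apply Subtype.ext
      rw [hF]
      show ((c : G) * g₀ x)⁻¹ * (((c : G) * g₀ x) * (x : G) * ((c : G) * g₀ x)⁻¹) * ((c : G) * g₀ x) = (x : G)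
      group
    apply Prod.ext
    · exact hx'
    · apply Subtype.ext
      show (c : G) * g₀ x * (g₀ (F ((c : G) * g₀ x, ⟨_, hY x c⟩)))⁻¹ = (c : G)
      rw [hx']
      group
  · rintro ⟨g, y⟩
    apply Prod.ext
    · show g * (g₀ (F (g, y)))⁻¹ * g₀ (F (g, y)) = g
      group
    · apply Subtype.ext
      show g * (g₀ (F (g, y)))⁻¹ * g₀ (F (g, y)) * (F (g, y) : G) * (g * (g₀ (F (g, y)))⁻¹ * g₀ (F (g, y)))⁻¹ =
        (y : G)
      rw [hF]
      group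

end Cfsg.Agent.Lib.Helper50.BSW
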