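/-
helper50: project S2221 (helper71), module S2221-[SUPP]: subgroups of `Perm α` supported on disjoint finsets.
-/
import Mathlib
import Cfsg.Agent.Lib.Helper71.SylAltDefs

set_option autoImplicit false
set_option linter.unusedSectionVars false

namespace Cfsg.Agent.Lib.Helper50.SylAlt

open Equiv Cfsg.Agent.Lib.Helper71.SylAlt

variable {α : Type*} [DecidableEq α] [Fintype α]

/-- the permutations fixing every point outside `Y` -/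
def fixSub (Y : Finset α) : Subgroup (Perm α) where
  carrier := {g | ∀ x, x ∉ Y → g x = x}
  mul_mem' := by
    intro g h hg hh x hx
    rw [Perm.mul_apply, hh x hx, hg x hx]
  one_mem' := fun x _ => rfl
  inv_mem' := by
    intro g hg x hx
    rw [Perm.inv_eq_iff_eq, hg x hx]

theorem suppOn_iff_le (W : Subgroup (Perm α)) (Y : Finset α) : SuppOn W Y ↔ W ≤ fixSub Y := Iff.rfl

theorem fixSub_mono {Y Y' : Finset α} (hY : Y ⊆ Y') : fixSub Y ≤ fixSub Y' :=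
  fun _ hg x hx => hg x (fun h => hx (hY h))

theorem suppOn_mono {W W' : Subgroup (Perm α)} {Y Y' : Finset α} (hW : W' ≤ W) (hY : Y ⊆ Y')
    (h : SuppOn W Y) : SuppOn W' Y' :=
  fun g hg x hx => h g (hW hg) x (fun hx' => hx (hY hx'))

theorem suppOn_sup {W₁ W₂ : Subgroup (Perm α)} {Y₁ Y₂ : Finset α} (h₁ : SuppOn W₁ Y₁)
    (h₂ : SuppOn W₂ Y₂) : SuppOn (W₁ ⊔ W₂) (Y₁ ∪ Y₂) := by
  rw [suppOn_iff_le] at *
  exact sup_le (h₁.trans (fixSub_mono Finset.subset_union_left))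
    (h₂.trans (fixSub_mono Finset.subset_union_right))

theorem suppOn_biSup (E : Finset ℕ) (W : ℕ → Subgroup (Perm α)) (Z : ℕ → Finset α)
    (h : ∀ a ∈ E, SuppOn (W a) (Z a)) : SuppOn (⨆ a ∈ E, W a) (E.biUnion Z) := by
  rw [suppOn_iff_le]
  refine iSup₂_le fun a ha => ?_
  exact ((suppOn_iff_le _ _).mp (h a ha)).trans (fixSub_mono (Finset.subset_biUnion_of_mem Z ha))

theorem suppOn_map_conj {W : Subgroup (Perm α)} {Y : Finset α} (σ : Perm α) (h : SuppOn W Y) :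
    SuppOn (W.map (MulAut.conj σ).toMonoidHom) (Y.image σ) := by
  rintro g ⟨w, hw, rfl⟩ x hx
  have hx' : σ⁻¹ x ∉ Y := by
    intro hy
    apply hx
    rw [Finset.mem_image]
    exact ⟨σ⁻¹ x, hy, by simp⟩
  have := h w hw _ hx'
  simp only [MulEquiv.coe_toMonoidHom, MulAut.conj_apply, Perm.mul_apply]
  rw [this]
  simp

theorem disjoint_of_disjoint {W₁ W₂ : Subgroup (Perm α)} {Y₁ Y₂ : Finset α} (h₁ : SuppOn W₁ Y₁)
    (h₂ : SuppOn W₂ Y₂) (hd : Disjoint Y₁ Y₂) {a b : Perm α} (ha : a ∈ W₁) (hb : b ∈ W₂) :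
    Perm.Disjoint a b := by
  intro x
  by_cases hx : x ∈ Y₁
  · right
    exact h₂ b hb x (Finset.disjoint_left.mp hd hx)
  · left
    exact h₁ a ha x hx

theorem commute_of_disjoint {W₁ W₂ : Subgroup (Perm α)} {Y₁ Y₂ : Finset α} (h₁ : SuppOn W₁ Y₁)
    (h₂ : SuppOn W₂ Y₂) (hd : Disjoint Y₁ Y₂) : ∀ a ∈ W₁, ∀ b ∈ W₂, a * b = b * a :=
  fun _ ha _ hb => (disjoint_of_disjoint h₁ h₂ hd ha hb).commute.eq

theorem inf_eq_bot_of_disjoint {W₁ W₂ : Subgroup (Perm α)} {Y₁ Y₂ : Finset α} (h₁ : SuppOn W₁ Y₁)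
    (h₂ : SuppOn W₂ Y₂) (hd : Disjoint Y₁ Y₂) : W₁ ⊓ W₂ = ⊥ := by
  rw [eq_bot_iff]
  intro g hg
  rw [Subgroup.mem_bot]
  ext x
  rw [Perm.one_apply]
  by_cases hx : x ∈ Y₁
  · exact h₂ g hg.2 x (Finset.disjoint_left.mp hd hx)
  · exact h₁ g hg.1 x hx

/-- the set of products as a subgroup (the two subgroups commute elementwise) -/
def prodSub (W₁ W₂ : Subgroup (Perm α)) (hc : ∀ a ∈ W₁, ∀ b ∈ W₂, a * b = b * a) : Subgroup (Perm α) where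
  carrier := {g | ∃ a ∈ W₁, ∃ b ∈ W₂, g = a * b}
  mul_mem' := by
    rintro _ _ ⟨a, ha, b, hb, rfl⟩ ⟨a', ha', b', hb', rfl⟩
    refine ⟨a * a', W₁.mul_mem ha ha', b * b', W₂.mul_mem hb hb', ?_⟩
    rw [mul_assoc, ← mul_assoc b, ← hc a' ha' b hb]
    simp only [mul_assoc]
  one_mem' := ⟨1, W₁.one_mem, 1, W₂.one_mem, (mul_one 1).symm⟩
  inv_mem' := by
    rintro _ ⟨a, ha, b, hb, rfl⟩
    refine ⟨a⁻¹, W₁.inv_mem ha, b⁻¹, W₂.inv_mem hb, ?_⟩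
    rw [mul_inv_rev, hc a⁻¹ (W₁.inv_mem ha) b⁻¹ (W₂.inv_mem hb)]

theorem mem_sup_iff_of_disjoint {W₁ W₂ : Subgroup (Perm α)} {Y₁ Y₂ : Finset α} (h₁ : SuppOn W₁ Y₁)
    (h₂ : SuppOn W₂ Y₂) (hd : Disjoint Y₁ Y₂) (g : Perm α) :
    g ∈ W₁ ⊔ W₂ ↔ ∃ a ∈ W₁, ∃ b ∈ W₂, g = a * b := by
  constructor
  · intro hg
    have hle : W₁ ⊔ W₂ ≤ prodSub W₁ W₂ (commute_of_disjoint h₁ h₂ hd) := by
      apply sup_le
      · intro a ha
        exact ⟨a, ha, 1, W₂.one_mem, (mul_one a).symm⟩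
      · intro b hb
        exact ⟨1, W₁.one_mem, b, hb, (one_mul b).symm⟩
    exact hle hg
  · rintro ⟨a, ha, b, hb, rfl⟩
    exact (W₁ ⊔ W₂).mul_mem (Subgroup.mem_sup_left ha) (Subgroup.mem_sup_right hb)

theorem eq_of_mul_eq_of_disjoint {W₁ W₂ : Subgroup (Perm α)} {Y₁ Y₂ : Finset α} (h₁ : SuppOn W₁ Y₁)
    (h₂ : SuppOn W₂ Y₂) (hd : Disjoint Y₁ Y₂) {a a' b b' : Perm α} (ha : a ∈ W₁) (ha' : a' ∈ W₁)
    (hb : b ∈ W₂) (hb' : b' ∈ W₂) (h : a * b = a' * b') : a = a' ∧ b = b' := by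
  have hbot := inf_eq_bot_of_disjoint h₁ h₂ hd
  have e : a'⁻¹ * a = b' * b⁻¹ := by
    rw [inv_mul_eq_iff_eq_mul, ← mul_assoc, ← h, mul_assoc, mul_inv_cancel, mul_one]
  have hm : a'⁻¹ * a ∈ W₁ ⊓ W₂ :=
    ⟨W₁.mul_mem (W₁.inv_mem ha') ha, by rw [e]; exact W₂.mul_mem hb' (W₂.inv_mem hb)⟩
  rw [hbot, Subgroup.mem_bot] at hm
  have haa : a = a' := by
    rw [inv_mul_eq_one] at hm
    exact hm.symm
  refine ⟨haa, ?_⟩
  rw [haa] at h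
  exact mul_left_cancel h

theorem card_sup_of_disjoint {W₁ W₂ : Subgroup (Perm α)} {Y₁ Y₂ : Finset α} (h₁ : SuppOn W₁ Y₁)
    (h₂ : SuppOn W₂ Y₂) (hd : Disjoint Y₁ Y₂) :
    Nat.card ↥(W₁ ⊔ W₂) = Nat.card W₁ * Nat.card W₂ := by
  rw [← Nat.card_prod]
  symm
  let f : W₁ × W₂ → ↥(W₁ ⊔ W₂) := fun p =>
    ⟨(p.1 : Perm α) * (p.2 : Perm α),
      (W₁ ⊔ W₂).mul_mem (Subgroup.mem_sup_left p.1.2) (Subgroup.mem_sup_right p.2.2)⟩
  apply Nat.card_congr (Equiv.ofBijective f ⟨?_, ?_⟩)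
  · rintro ⟨a, b⟩ ⟨a', b'⟩ h
    have h' : (a : Perm α) * b = a' * b' := congrArg Subtype.val h
    obtain ⟨e1, e2⟩ := eq_of_mul_eq_of_disjoint h₁ h₂ hd a.2 a'.2 b.2 b'.2 h'
    exact Prod.ext (Subtype.ext e1) (Subtype.ext e2)
  · rintro ⟨g, hg⟩
    obtain ⟨a, ha, b, hb, rfl⟩ := (mem_sup_iff_of_disjoint h₁ h₂ hd g).mp hg
    exact ⟨(⟨a, ha⟩, ⟨b, hb⟩), rfl⟩

end Cfsg.Agent.Lib.Helper50.SylAlt
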