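import Mathlib
import Cfsg.Agent.Lib.Helper30.BSW.CharDefs

/-!
# Abstract Brauer–Suzuki–Wall (S3282), module [L2]: the lattice shape II is impossible
-/

set_option autoImplicit false
set_option linter.unusedSectionVars false

namespace Cfsg.Agent.Lib.Helper50.BSW

open Cfsg.Agent.Lib.Helper30.BSW

variable {I Ψ : Type*} [Fintype I] [Fintype Ψ] [DecidableEq I] [DecidableEq Ψ] {i₀ : I} {deg : I → ℤ}
  {o : Ψ} {ι : Ψ → Ψ} {ν : Ψ} {g : Ψ → I → ℤ}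

theorem sum_mul_ev_rat (f : I → ℚ) (a : I) : ∑ i, f i * ((ev a i : ℤ) : ℚ) = f a := by
  unfold ev
  simp [Finset.sum_ite_eq']

theorem sum_ev_mul_int (f : I → ℤ) (a : I) : ∑ i, ev a i * f i = f a := by
  unfold ev
  simp [Finset.sum_ite_eq']

theorem ev_self (a : I) : ev a a = 1 := by simp [ev]

theorem ev_ne {a i : I} (h : i ≠ a) : ev a i = 0 := by simp [ev, h]

/-- weighted sums against a vector of shape `e₀ + δ e_X - δ e_T` -/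
theorem sum_shape_rat (w : I → ℚ) (f : I → ℤ) (δ : ℤ) (X T : I)
    (hf : ∀ i, f i = ev i₀ i + δ * ev X i - δ * ev T i) :
    ∑ i, w i * (f i : ℚ) = w i₀ + δ * w X - δ * w T := by
  have h1 : ∀ i, w i * (f i : ℚ) = w i * ((ev i₀ i : ℤ) : ℚ) + (δ : ℚ) * (w i * ((ev X i : ℤ) : ℚ)) -
      (δ : ℚ) * (w i * ((ev T i : ℤ) : ℚ)) := by
    intro i
    rw [hf i]
    push_cast
    ring
  simp_rw [h1]
  rw [Finset.sum_sub_distrib, Finset.sum_add_distrib, ← Finset.mul_sum, ← Finset.mul_sum,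
    sum_mul_ev_rat, sum_mul_ev_rat, sum_mul_ev_rat]

theorem sum_shape_int (d : I → ℤ) (f : I → ℤ) (δ : ℤ) (X T : I)
    (hf : ∀ i, f i = ev i₀ i + δ * ev X i - δ * ev T i) :
    ∑ i, f i * d i = d i₀ + δ * d X - δ * d T := by
  have h1 : ∀ i, f i * d i = ev i₀ i * d i + δ * (ev X i * d i) - δ * (ev T i * d i) := by
    intro i
    rw [hf i]
    ring
  simp_rw [h1]
  rw [Finset.sum_sub_distrib, Finset.sum_add_distrib, ← Finset.mul_sum, ← Finset.mul_sum,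
    sum_ev_mul_int, sum_ev_mul_int, sum_ev_mul_int]

/-- **[L2]** -/
theorem latII_false (hL : LatHyp i₀ deg o ι ν g) {δ : ℤ} {X : I} {Θ : Ψ → I} {e : ℤ} {Y : I} {ψ₁ ψ₂ : Ψ}
    (h2 : LatII i₀ o ι ν g δ X Θ e Y ψ₁ ψ₂) (ε : Ψ → ℤ) (hε : ∀ ψ, ε ψ = 1 ∨ ε ψ = -1)
    (hει : ∀ ψ, ε (ι ψ) = ε ψ) (hεo : ε o = 1) (hεs : ∑ ψ, ε ψ = 0) (c : ℚ)
    (hB : ∀ ψ, ψ ≠ o → ∑ i, ((tau g ε i : ℤ) : ℚ) ^ 2 * (g ψ i : ℚ) / (deg i : ℚ) = c) : False := by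
  obtain ⟨h1o, h1ν⟩ := h2.hψ₁
  obtain ⟨h2o, h2ν⟩ := h2.hψ₂
  obtain ⟨h21, h2ι1⟩ := h2.h12
  have hιo : ι o = o := (hL.ι_fix o).2 (Or.inl rfl)
  have hιν : ι ν = ν := (hL.ι_fix ν).2 (Or.inr rfl)
  have hιinj : ∀ a b, ι a = ι b → a = b := by
    intro a b hab
    rw [← hL.ι_ι a, ← hL.ι_ι b, hab]
  have hι1_1 : ι ψ₁ ≠ ψ₁ := fun h => by
    rcases (hL.ι_fix ψ₁).1 h with h | h
    · exact h1o h
    · exact h1ν h
  have hι1o : ι ψ₁ ≠ o := fun h => h1o (hιinj _ _ (h.trans hιo.symm))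
  have hι1ν : ι ψ₁ ≠ ν := fun h => h1ν (hιinj _ _ (h.trans hιν.symm))
  have hι2_2 : ι ψ₂ ≠ ψ₂ := fun h => by
    rcases (hL.ι_fix ψ₂).1 h with h | h
    · exact h2o h
    · exact h2ν h
  have hι2o : ι ψ₂ ≠ o := fun h => h2o (hιinj _ _ (h.trans hιo.symm))
  have hι2ν : ι ψ₂ ≠ ν := fun h => h2ν (hιinj _ _ (h.trans hιν.symm))
  have hι2_1 : ι ψ₂ ≠ ψ₁ := fun h => h2ι1 (by rw [← h, hL.ι_ι])
  have hι2_ι1 : ι ψ₂ ≠ ι ψ₁ := fun h => h21 (hιinj _ _ h)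
  -- the universe
  have huniv : (Finset.univ : Finset Ψ) = {o, ν, ψ₁, ι ψ₁, ψ₂, ι ψ₂} := by
    ext ψ
    simp only [Finset.mem_univ, Finset.mem_insert, Finset.mem_singleton, true_iff]
    exact h2.all ψ
  have hsum : ∀ F : Ψ → ℤ, ∑ ψ, F ψ = F o + (F ν + (F ψ₁ + (F (ι ψ₁) + (F ψ₂ + F (ι ψ₂))))) := by
    intro F
    rw [huniv, Finset.sum_insert, Finset.sum_insert, Finset.sum_insert, Finset.sum_insert,
      Finset.sum_insert, Finset.sum_singleton]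
    · simp only [Finset.mem_singleton]; exact fun h => hι2_2 h.symm
    · simp only [Finset.mem_insert, Finset.mem_singleton, not_or]
      exact ⟨fun h => h2ι1 h.symm, fun h => hι2_ι1 h.symm⟩
    · simp only [Finset.mem_insert, Finset.mem_singleton, not_or]
      exact ⟨fun h => hι1_1 h.symm, fun h => h21 h.symm, fun h => hι2_1 h.symm⟩
    · simp only [Finset.mem_insert, Finset.mem_singleton, not_or]
      exact ⟨fun h => h1ν h.symm, fun h => hι1ν h.symm, fun h => h2ν h.symm, fun h => hι2ν h.symm⟩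
    · simp only [Finset.mem_insert, Finset.mem_singleton, not_or]
      exact ⟨fun h => hL.ν_ne h.symm, fun h => h1o h.symm, fun h => hι1o h.symm, fun h => h2o h.symm,
        fun h => hι2o h.symm⟩
  -- `Θ`
  have hΘ12 : Θ ψ₁ ≠ Θ ψ₂ := by
    intro h
    rcases (h2.Θ_eq ψ₁ ψ₂ h1o h1ν h2o h2ν).1 h with h | h
    · exact h21 h
    · exact h2ι1 h
  obtain ⟨hΘ1i, hΘ1X, hΘ1Y⟩ := h2.Θ_ne ψ₁ h1o h1ν
  obtain ⟨hΘ2i, hΘ2X, hΘ2Y⟩ := h2.Θ_ne ψ₂ h2o h2ν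
  -- the sum of the `ε`
  have hs := hsum ε
  rw [hεs, hεo, hει ψ₁, hει ψ₂] at hs
  -- the values of `tau`
  have htau : ∀ i, tau g ε i = g ν i * ε ν + 2 * (g ψ₁ i * ε ψ₁) + 2 * (g ψ₂ i * ε ψ₂) := by
    intro i
    unfold tau
    rw [hsum (fun ψ => g ψ i * ε ψ)]
    simp only [hL.g_o i, hL.g_ι, hει]
    ring
  have ht1 : tau g ε (Θ ψ₁) = -δ * (ε ν + 2 * ε ψ₁) := by
    rw [htau, h2.g_ν, h2.g_gen ψ₁ h1o h1ν, h2.g_gen ψ₂ h2o h2ν, ev_ne hΘ1i, ev_ne hΘ1X, ev_ne hΘ1Y,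
      ev_self, ev_ne hΘ12]
    ring
  have ht2 : tau g ε (Θ ψ₂) = -δ * (ε ν + 2 * ε ψ₂) := by
    rw [htau, h2.g_ν, h2.g_gen ψ₁ h1o h1ν, h2.g_gen ψ₂ h2o h2ν, ev_ne hΘ2i, ev_ne hΘ2X, ev_ne hΘ2Y,
      ev_self, ev_ne (Ne.symm hΘ12)]
    ring
  -- degrees
  have hd1 := hL.gdeg ψ₁
  rw [sum_shape_int deg (g ψ₁) δ X (Θ ψ₁) (h2.g_gen ψ₁ h1o h1ν)] at hd1
  have hd2 := hL.gdeg ψ₂
  rw [sum_shape_int deg (g ψ₂) δ X (Θ ψ₂) (h2.g_gen ψ₂ h2o h2ν)] at hd2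
  have hδ2 : δ * δ = 1 := by rcases h2.hδ with h | h <;> rw [h] <;> norm_num
  have hdeg : deg (Θ ψ₁) = deg (Θ ψ₂) := by
    have : δ * deg (Θ ψ₁) = δ * deg (Θ ψ₂) := by linarith
    calc deg (Θ ψ₁) = (δ * δ) * deg (Θ ψ₁) := by rw [hδ2, one_mul]
      _ = δ * (δ * deg (Θ ψ₁)) := by ring
      _ = δ * (δ * deg (Θ ψ₂)) := by rw [this]
      _ = deg (Θ ψ₂) := by rw [← mul_assoc, hδ2, one_mul]
  -- the `B`-equations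
  have hw : ∀ ψ, ∑ i, ((tau g ε i : ℤ) : ℚ) ^ 2 * (g ψ i : ℚ) / (deg i : ℚ) =
      ∑ i, (((tau g ε i : ℤ) : ℚ) ^ 2 / (deg i : ℚ)) * (g ψ i : ℚ) := by
    intro ψ
    apply Finset.sum_congr rfl
    intro i _
    ring
  have hB1 := hB ψ₁ h1o
  rw [hw, sum_shape_rat _ (g ψ₁) δ X (Θ ψ₁) (h2.g_gen ψ₁ h1o h1ν)] at hB1
  have hB2 := hB ψ₂ h2o
  rw [hw, sum_shape_rat _ (g ψ₂) δ X (Θ ψ₂) (h2.g_gen ψ₂ h2o h2ν)] at hB2
  have hδq : (δ : ℚ) * δ = 1 := by exact_mod_cast hδ2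
  have hwe : ((tau g ε (Θ ψ₁) : ℤ) : ℚ) ^ 2 / (deg (Θ ψ₁) : ℚ) =
      ((tau g ε (Θ ψ₂) : ℤ) : ℚ) ^ 2 / (deg (Θ ψ₂) : ℚ) := by
    have h3 : (δ : ℚ) * (((tau g ε (Θ ψ₁) : ℤ) : ℚ) ^ 2 / (deg (Θ ψ₁) : ℚ)) =
        (δ : ℚ) * (((tau g ε (Θ ψ₂) : ℤ) : ℚ) ^ 2 / (deg (Θ ψ₂) : ℚ)) := by linarith
    have h4 := congrArg (fun z => (δ : ℚ) * z) h3
    simp only [← mul_assoc, hδq, one_mul] at h4
    exact h4
  have hdpos : (0 : ℚ) < (deg (Θ ψ₂) : ℚ) := by exact_mod_cast hL.deg_pos (Θ ψ₂)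
  rw [hdeg] at hwe
  have hsq : ((tau g ε (Θ ψ₁) : ℤ) : ℚ) ^ 2 = ((tau g ε (Θ ψ₂) : ℤ) : ℚ) ^ 2 := by
    have := congrArg (fun z => z * (deg (Θ ψ₂) : ℚ)) hwe
    simp only [div_mul_cancel₀ _ (ne_of_gt hdpos)] at this
    exact this
  have hsqZ : (tau g ε (Θ ψ₁)) ^ 2 = (tau g ε (Θ ψ₂)) ^ 2 := by exact_mod_cast hsq
  rw [ht1, ht2] at hsqZ
  rcases h2.hδ with hd | hd <;> rcases hε ν with hn | hn <;> rcases hε ψ₁ with ha | ha <;>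
    rcases hε ψ₂ with hb | hb <;> rw [hd, hn, ha, hb] at hsqZ <;> rw [hn, ha, hb] at hs <;>
    first
    | omega
    | (exfalso; norm_num at hsqZ)

end Cfsg.Agent.Lib.Helper50.BSW
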