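import Mathlib
import Cfsg.Agent.Lib.Helper30.BSW.Defs

/-!
# Brauer–Suzuki–Wall (S3282), module [B1]: the elementary consequences `Basic` of `Hyp`
-/

set_option autoImplicit false

namespace Cfsg.Agent.Lib.Helper50.BSW

open Cfsg.Agent.Lib.Helper30.BSW

variable {G : Type*} [Group G] {t s : G} {K : Subgroup G}

theorem sq_one_of_order_two {u : G} (hu : orderOf u = 2) : u * u = 1 := by
  have := pow_orderOf_eq_one u
  rw [hu, pow_two] at this
  exact this

theorem inv_self_of_order_two {u : G} (hu : orderOf u = 2) : u⁻¹ = u :=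
  inv_eq_of_mul_eq_one_left (sq_one_of_order_two hu)

theorem ne_one_of_order_two {u : G} (hu : orderOf u = 2) : u ≠ 1 := by
  rintro rfl
  simp at hu

theorem order_two_of_sq {u : G} (h1 : u * u = 1) (h2 : u ≠ 1) : orderOf u = 2 := by
  have : Fact (Nat.Prime 2) := ⟨Nat.prime_two⟩
  apply orderOf_eq_prime _ h2
  rw [pow_two]; exact h1

section
variable (h : Hyp t s K)
include h

theorem hyp_comm {a b : G} (ha : a ∈ K) (hb : b ∈ K) : a * b = b * a := by
  have := h.hKab.is_comm.comm ⟨a, ha⟩ ⟨b, hb⟩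
  exact congrArg Subtype.val this

theorem hyp_s_mul {x : G} (hx : x ∈ K) : s * x = x⁻¹ * s := by
  have := h.hinv x hx
  rw [← this]; group

theorem hyp_s_inv : s⁻¹ = s := inv_self_of_order_two h.hs

theorem hyp_sq_eq_one {x : G} (hx : x ∈ K) (hxx : x * x = 1) : x = 1 ∨ x = t := by
  have hxinv : x⁻¹ = x := inv_eq_of_mul_eq_one_left hxx
  have hsx : s * x = x * s := by rw [hyp_s_mul h hx, hxinv]
  have hmem : x ∈ K ⊓ Subgroup.centralizer ({s} : Set G) := by
    refine Subgroup.mem_inf.2 ⟨hx, ?_⟩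
    rw [Subgroup.mem_centralizer_iff]
    intro y hy
    rw [Set.mem_singleton_iff.1 hy]
    exact hsx
  rw [h.hCK, Subgroup.mem_zpowers_iff] at hmem
  obtain ⟨k, hk⟩ := hmem
  have h2 := zpow_mod_orderOf t k
  rw [h.ht] at h2
  have h3 : ((2 : ℕ) : ℤ) = 2 := rfl
  rw [h3] at h2
  rcases Int.emod_two_eq_zero_or_one k with h0 | h1
  · left
    rw [← hk, ← h2, h0]; simp
  · right
    rw [← hk, ← h2, h1]; simp

theorem hyp_mem_H_of {x : G} (hx : x ∈ K) : x * s ∈ Subgroup.centralizer ({t} : Set G) :=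
  Subgroup.mul_mem _ (h.hKH hx) h.hsH

theorem hyp_mem_H (g : G) : g ∈ Subgroup.centralizer ({t} : Set G) ↔ g ∈ K ∨ ∃ x ∈ K, g = x * s := by
  constructor
  · intro hg
    rw [← h.hH] at hg
    let S : Subgroup G :=
      { carrier := {g | g ∈ K ∨ ∃ x ∈ K, g = x * s}
        one_mem' := Or.inl K.one_mem
        mul_mem' := by
          rintro a b (ha | ⟨x, hx, rfl⟩) (hb | ⟨y, hy, rfl⟩)
          · exact Or.inl (K.mul_mem ha hb)
          · exact Or.inr ⟨a * y, K.mul_mem ha hy, by group⟩
          · refine Or.inr ⟨x * b⁻¹, K.mul_mem hx (K.inv_mem hb), ?_⟩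
            rw [mul_assoc, hyp_s_mul h hb, ← mul_assoc]
          · refine Or.inl ?_
            have : x * s * (y * s) = x * y⁻¹ := by
              calc x * s * (y * s) = x * (s * y) * s := by group
                _ = x * (y⁻¹ * s) * s := by rw [hyp_s_mul h hy]
                _ = x * y⁻¹ * (s * s) := by group
                _ = x * y⁻¹ := by rw [sq_one_of_order_two h.hs, mul_one]
            rw [this]
            exact K.mul_mem hx (K.inv_mem hy)
        inv_mem' := by
          rintro a (ha | ⟨x, hx, rfl⟩)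
          · exact Or.inl (K.inv_mem ha)
          · refine Or.inr ⟨x, hx, ?_⟩
            rw [mul_inv_rev, hyp_s_inv h, hyp_s_mul h (K.inv_mem hx), inv_inv] }
    have hle : K ⊔ Subgroup.zpowers s ≤ S := by
      apply sup_le
      · intro x hx; exact Or.inl hx
      · rw [Subgroup.zpowers_le]
        exact Or.inr ⟨1, K.one_mem, by simp⟩
    exact hle hg
  · rintro (hg | ⟨x, hx, rfl⟩)
    · exact h.hKH hg
    · exact hyp_mem_H_of h hx

theorem hyp_invol_coset {x : G} (hx : x ∈ K) : orderOf (x * s) = 2 := by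
  apply order_two_of_sq
  · calc x * s * (x * s) = x * (s * x) * s := by group
      _ = x * (x⁻¹ * s) * s := by rw [hyp_s_mul h hx]
      _ = s * s := by group
      _ = 1 := sq_one_of_order_two h.hs
  · intro hone
    apply h.hsK
    have : s = x⁻¹ := by
      rw [eq_inv_iff_mul_eq_one, ← hone]
      have := hyp_s_mul h hx
      -- `s * x = 1`?  from `x * s = 1`
      have h2 : s * x = 1 := by
        have h3 : s = x⁻¹ := by
          have := eq_inv_of_mul_eq_one_right hone
          exact this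
        rw [h3]; group
      rw [h2, hone]
    rw [this]; exact K.inv_mem hx

theorem hyp_inv_coset {x y : G} (hx : x ∈ K) (hy : y ∈ K) : (x * s) * y * (x * s)⁻¹ = y⁻¹ := by
  have h1 : (x * s) * y * (x * s)⁻¹ = x * (s * y * s⁻¹) * x⁻¹ := by group
  rw [h1, h.hinv y hy, hyp_comm h hx (K.inv_mem hy)]
  group

theorem hyp_ti {g x : G} (hx : x ∈ K) (hx1 : x ≠ 1) (hg : g * x * g⁻¹ ∈ K) :
    g ∈ Subgroup.centralizer ({t} : Set G) := by
  by_contra hgH
  have hbot := h.hTI g hgH
  have hmem : g * x * g⁻¹ ∈ K ⊓ K.map (MulAut.conj g).toMonoidHom := by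
    refine Subgroup.mem_inf.2 ⟨hg, ⟨x, hx, ?_⟩⟩
    simp [MulAut.conj_apply]
  rw [hbot, Subgroup.mem_bot] at hmem
  apply hx1
  have : x = g⁻¹ * (g * x * g⁻¹) * g := by group
  rw [this, hmem]; group

theorem hyp_fuse {g x : G} (hx : x ∈ K) (hg : g * x * g⁻¹ ∈ K) : g * x * g⁻¹ = x ∨ g * x * g⁻¹ = x⁻¹ := by
  by_cases hx1 : x = 1
  · left; rw [hx1]; group
  · have hgH := hyp_ti h hx hx1 hg
    rcases (hyp_mem_H h g).1 hgH with hgK | ⟨y, hy, rfl⟩
    · left
      rw [hyp_comm h hgK hx]; group
    · right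
      exact hyp_inv_coset h hy hx

theorem hyp_mem_K_of_centralizes {x c : G} (hx : x ∈ K) (hx1 : x ≠ 1) (hxt : x ≠ t)
    (hc : c * x * c⁻¹ = x) : c ∈ K := by
  have hcH : c ∈ Subgroup.centralizer ({t} : Set G) := hyp_ti h hx hx1 (hc.symm ▸ hx)
  rcases (hyp_mem_H h c).1 hcH with hcK | ⟨y, hy, rfl⟩
  · exact hcK
  · exfalso
    have := hyp_inv_coset h hy hx
    rw [hc] at this
    have hxx : x * x = 1 := by
      calc x * x = x * x⁻¹ := by rw [← this]
        _ = 1 := mul_inv_cancel x
    rcases hyp_sq_eq_one h hx hxx with h1 | h1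
    · exact hx1 h1
    · exact hxt h1

end

/-- **[B1]** -/
theorem basic_of_hyp [Finite G] (h : Hyp t s K) : Basic t s K where
  comm := fun a ha b hb => hyp_comm h ha hb
  sq_eq_one := fun x hx hxx => hyp_sq_eq_one h hx hxx
  mem_H := hyp_mem_H h
  invol_coset := fun x hx => hyp_invol_coset h hx
  inv_coset := fun x hx y hy => hyp_inv_coset h hx hy
  ti := fun g x hx hx1 hg => hyp_ti h hx hx1 hg
  fuse := fun g x hx hg => hyp_fuse h hx hg
  cent := by
    intro x hx hx1 hxt
    apply le_antisymm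
    · intro c hc
      have := Subgroup.mem_centralizer_iff.1 hc x rfl
      apply hyp_mem_K_of_centralizes h hx hx1 hxt
      rw [← this]; group
    · intro c hc
      rw [Subgroup.mem_centralizer_iff]
      intro y hy
      rw [Set.mem_singleton_iff.1 hy]
      exact hyp_comm h hx hc
  cent_le := by
    intro x hx hx1 c hc
    have := Subgroup.mem_centralizer_iff.1 hc x rfl
    apply hyp_ti h hx hx1
    rw [← this]
    have : x * c * c⁻¹ = x := by group
    rw [this]; exact hx
  card_H := by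
    have hbij : Function.Bijective (fun xb : ↥K × Bool =>
        (if xb.2 then ⟨(xb.1 : G) * s, hyp_mem_H_of h xb.1.2⟩ else ⟨(xb.1 : G), h.hKH xb.1.2⟩ :
          ↥(Subgroup.centralizer ({t} : Set G)))) := by
      constructor
      · rintro ⟨x, bx⟩ ⟨y, by'⟩ hxy
        cases bx <;> cases by' <;> simp only [Bool.false_eq_true, if_false, if_true, Subtype.mk.injEq] at hxy
        · exact Prod.ext (Subtype.ext hxy) rfl
        · exfalso
          apply h.hsK
          have : s = (y : G)⁻¹ * x := by rw [hxy]; group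
          rw [this]; exact K.mul_mem (K.inv_mem y.2) x.2
        · exfalso
          apply h.hsK
          have : s = (x : G)⁻¹ * y := by rw [← hxy]; group
          rw [this]; exact K.mul_mem (K.inv_mem x.2) y.2
        · exact Prod.ext (Subtype.ext (mul_right_cancel hxy)) rfl
      · rintro ⟨g, hg⟩
        rcases (hyp_mem_H h g).1 hg with hgK | ⟨x, hx, rfl⟩
        · exact ⟨(⟨g, hgK⟩, false), by simp⟩
        · exact ⟨(⟨x, hx⟩, true), by simp⟩
    rw [← Nat.card_congr (Equiv.ofBijective _ hbij), Nat.card_prod, Nat.card_eq_fintype_card (α := Bool),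
      Fintype.card_bool, mul_comm]
  even_K := by
    rw [even_iff_two_dvd, ← h.ht]
    have : orderOf (⟨t, h.htK⟩ : ↥K) = orderOf t := Subgroup.orderOf_mk t h.htK
    rw [← this]
    exact orderOf_dvd_natCard _
  invol_H := by
    intro g hg hg2 hgt
    rcases (hyp_mem_H h g).1 hg with hgK | hgs
    · exfalso
      rcases hyp_sq_eq_one h hgK (sq_one_of_order_two hg2) with h1 | h1
      · exact ne_one_of_order_two hg2 h1
      · exact hgt h1
    · exact hgs

end Cfsg.Agent.Lib.Helper50.BSW
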