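import Mathlib

/-!
# S3777 (Vaughan-Lee), module [VL-MT]: `|G'| ≤ |L'| * |G : C_G(h)|` for `L` normal of prime index, `h ∉ L`
-/

set_option autoImplicit false
set_option linter.unusedSectionVars false

open Subgroup
open scoped commutatorElement

namespace Cfsg.Agent.Lib.Helper50.VL

/-- a normal subgroup containing the commutators of a generating set contains the commutator
subgroup -/
theorem commutator_le_of_closure {A : Type*} [Group A] (R : Subgroup A) [R.Normal] (X : Set A)
    (hX : closure X = ⊤) (hc : ∀ x ∈ X, ∀ y ∈ X, ⁅x, y⁆ ∈ R) : _root_.commutator A ≤ R := by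
  rw [← Subgroup.Normal.quotient_commutative_iff_commutator_le]
  let π := QuotientGroup.mk' R
  have hsurj : Function.Surjective π := QuotientGroup.mk'_surjective R
  have h1 : closure (π '' X) = ⊤ := by
    rw [← MonoidHom.map_closure, hX, Subgroup.map_top_of_surjective π hsurj]
  have h2 : IsMulCommutative (closure (π '' X)) := by
    apply Subgroup.isMulCommutative_closure
    rintro _ ⟨x, hx, rfl⟩ _ ⟨y, hy, rfl⟩
    have h3 : π ⁅x, y⁆ = 1 := (QuotientGroup.eq_one_iff _).2 (hc x hx y hy)
    rw [map_commutatorElement, commutatorElement_eq_one_iff_mul_comm] at h3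
    exact h3
  refine ⟨⟨fun a b => ?_⟩⟩
  have ha : a ∈ closure (π '' X) := by rw [h1]; exact mem_top a
  have hb : b ∈ closure (π '' X) := by rw [h1]; exact mem_top b
  have := h2.is_comm.comm ⟨a, ha⟩ ⟨b, hb⟩
  exact congrArg Subtype.val this

/-- the abstract core: `A = N ⟨t⟩` with `N` abelian normal -/
theorem card_commutator_le_index_centralizer {A : Type*} [Group A] [Finite A] (N : Subgroup A)
    [hN : N.Normal] (hNab : ∀ a ∈ N, ∀ b ∈ N, a * b = b * a) (t : A)
    (htop : N ⊔ zpowers t = ⊤) :
    Nat.card (_root_.commutator A) ≤ (centralizer ({t} : Set A)).index := by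
  classical
  have hconj : ∀ l ∈ N, t * l⁻¹ * t⁻¹ ∈ N := fun l hl => hN.conj_mem _ (N.inv_mem hl) t
  have hcomm_mem : ∀ l ∈ N, ⁅l, t⁆ ∈ N := by
    intro l hl
    have : ⁅l, t⁆ = l * (t * l⁻¹ * t⁻¹) := by rw [commutatorElement_def]; group
    rw [this]
    exact N.mul_mem hl (hconj l hl)
  -- the homomorphism `l ↦ [l, t]`
  let f : N →* A :=
    { toFun := fun l => ⁅(l : A), t⁆
      map_one' := by simp
      map_mul' := by
        intro l l'
        have hu : t * (l : A)⁻¹ * t⁻¹ ∈ N := hconj l l.2
        have hw : ⁅(l' : A), t⁆ ∈ N := hcomm_mem l' l'.2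
        have e1 : ⁅((l * l' : N) : A), t⁆ = (l : A) * (⁅(l' : A), t⁆ * (t * (l : A)⁻¹ * t⁻¹)) := by
          rw [commutatorElement_def, commutatorElement_def, Subgroup.coe_mul]; group
        have e2 : ⁅(l : A), t⁆ * ⁅(l' : A), t⁆ =
            (l : A) * ((t * (l : A)⁻¹ * t⁻¹) * ⁅(l' : A), t⁆) := by
          rw [commutatorElement_def (l : A)]; group
        show ⁅((l * l' : N) : A), t⁆ = ⁅(l : A), t⁆ * ⁅(l' : A), t⁆
        rw [e1, e2, hNab _ hw _ hu] }
  have hf : ∀ l : N, f l = ⁅(l : A), t⁆ := fun _ => rfl
  have hRN : f.range ≤ N := by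
    rintro _ ⟨l, rfl⟩
    exact hcomm_mem l l.2
  -- `R = f(N)` is normal
  have hRnorm : f.range.Normal := by
    rw [← normalizer_eq_top_iff]
    rw [eq_top_iff, ← htop]
    apply sup_le
    · intro n hn
      rw [mem_normalizer_iff]
      intro r
      constructor
      · intro hr
        have : n * r * n⁻¹ = r := by
          rw [hNab n hn r (hRN hr)]; group
        rw [this]; exact hr
      · intro hr
        have h1 : n * r * n⁻¹ ∈ N := hRN hr
        have h2 : r ∈ N := by
          have := hN.conj_mem _ h1 n⁻¹
          have e : n⁻¹ * (n * r * n⁻¹) * n⁻¹⁻¹ = r := by group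
          rwa [e] at this
        have : n * r * n⁻¹ = r := by
          rw [hNab n hn r h2]; group
        rw [← this]; exact hr
    · rw [zpowers_le, mem_normalizer_iff]
      intro r
      constructor
      · rintro ⟨l, rfl⟩
        refine ⟨⟨t * l * t⁻¹, hN.conj_mem _ l.2 t⟩, ?_⟩
        rw [hf, hf, commutatorElement_def, commutatorElement_def]
        group
      · rintro ⟨l, hl⟩
        have h1 : t⁻¹ * (l : A) * t ∈ N := by
          have := hN.conj_mem _ l.2 t⁻¹
          rwa [inv_inv] at this
        refine ⟨⟨t⁻¹ * l * t, h1⟩, ?_⟩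
        rw [hf] at hl ⊢
        have e : r = t⁻¹ * (t * r * t⁻¹) * t := by group
        rw [e, ← hl, commutatorElement_def, commutatorElement_def]
        group
  -- `A' ≤ R`
  have hle : _root_.commutator A ≤ f.range := by
    have := hRnorm
    apply commutator_le_of_closure f.range ((N : Set A) ∪ {t})
    · rw [Subgroup.closure_union, Subgroup.closure_eq, ← Subgroup.zpowers_eq_closure, htop]
    · intro x hx y hy
      rcases hx with hx | hx <;> rcases hy with hy | hy
      · have : ⁅x, y⁆ = 1 := by
          rw [commutatorElement_eq_one_iff_mul_comm]; exact hNab x hx y hy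
        rw [this]; exact one_mem _
      · rw [Set.mem_singleton_iff.1 hy]
        exact ⟨⟨x, hx⟩, rfl⟩
      · rw [Set.mem_singleton_iff.1 hx]
        have : ⁅t, y⁆ = (⁅y, t⁆)⁻¹ := (commutatorElement_inv y t).symm
        rw [this]
        exact inv_mem ⟨⟨y, hy⟩, rfl⟩
      · rw [Set.mem_singleton_iff.1 hx, Set.mem_singleton_iff.1 hy]
        have : ⁅t, t⁆ = 1 := commutatorElement_self t
        rw [this]; exact one_mem _
  -- `|R| ≤ |A : C(t)|`
  have hcard : Nat.card f.range ≤ (centralizer ({t} : Set A)).index := by
    have hchoose : ∀ r : f.range, ∃ l : N, f l = r := fun r => r.2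
    let g : f.range → A ⧸ centralizer ({t} : Set A) := fun r =>
      QuotientGroup.mk ((Classical.choose (hchoose r) : N) : A)
    have hg : Function.Injective g := by
      intro r r' h
      have hr := Classical.choose_spec (hchoose r)
      have hr' := Classical.choose_spec (hchoose r')
      set l := Classical.choose (hchoose r) with hl
      set l' := Classical.choose (hchoose r') with hl'
      have h1 : (l : A)⁻¹ * (l' : A) ∈ centralizer ({t} : Set A) := QuotientGroup.eq.1 h
      rw [mem_centralizer_singleton_iff] at h1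
      apply Subtype.ext
      rw [← hr, ← hr', hf, hf, commutatorElement_def, commutatorElement_def]
      have h2 : (l' : A) = (l : A) * ((l : A)⁻¹ * (l' : A)) := by group
      rw [h2]
      set c := (l : A)⁻¹ * (l' : A) with hc
      have h3 : (l : A) * c * t * ((l : A) * c)⁻¹ * t⁻¹ =
          (l : A) * (c * t) * c⁻¹ * (l : A)⁻¹ * t⁻¹ := by group
      rw [h3, h1]
      group
    exact Nat.card_le_card_of_injective g hg
  exact le_trans (Subgroup.card_le_of_le hle) hcard

/-- a subgroup of prime index together with an outside element generates everything -/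
theorem sup_zpowers_eq_top {G : Type*} [Group G] [Finite G] {p : ℕ} [Fact p.Prime]
    (L : Subgroup G) (hL : L.index = p) (h : G) (hh : h ∉ L) : L ⊔ zpowers h = ⊤ := by
  have hp : p.Prime := Fact.out
  have h1 : (L ⊔ zpowers h).index ∣ p := by
    rw [← hL]; exact index_dvd_of_le le_sup_left
  rcases (Nat.dvd_prime hp).1 h1 with h2 | h2
  · exact index_eq_one.1 h2
  · exfalso
    apply hh
    have h3 : L = L ⊔ zpowers h := by
      apply Subgroup.eq_of_le_of_card_ge le_sup_left
      have e1 := Subgroup.card_mul_index L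
      have e2 := Subgroup.card_mul_index (L ⊔ zpowers h)
      rw [hL] at e1
      rw [h2] at e2
      have hp0 : 0 < p := hp.pos
      have : Nat.card (L ⊔ zpowers h : Subgroup G) * p = Nat.card L * p := by rw [e1, e2]
      exact le_of_eq (Nat.eq_of_mul_eq_mul_right hp0 this)
    rw [h3]
    exact (le_sup_right : zpowers h ≤ L ⊔ zpowers h) (mem_zpowers h)

/-- cardinality of a subgroup containing the kernel -/
theorem card_eq_card_ker_mul_card_map {G A : Type*} [Group G] [Finite G] [Group A] (π : G →* A)
    (hπ : Function.Surjective π) (K : Subgroup G) (hK : π.ker ≤ K) :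
    Nat.card K = Nat.card π.ker * Nat.card (K.map π) := by
  have : Finite A := Finite.of_surjective π hπ
  have e1 := Subgroup.card_mul_index K
  have e2 := Subgroup.card_mul_index (K.map π)
  have e3 : (K.map π).index = K.index := Subgroup.index_map_eq K hπ hK
  have e4 : Nat.card G = Nat.card π.ker * Nat.card A := by
    have h1 := Subgroup.card_eq_card_quotient_mul_card_subgroup π.ker
    have h2 : Nat.card (G ⧸ π.ker) = Nat.card A :=
      Nat.card_congr (QuotientGroup.quotientKerEquivOfSurjective π hπ).toEquiv
    rw [h1, h2, mul_comm]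
  have hidx : 0 < K.index := Nat.pos_of_ne_zero (Subgroup.index_ne_zero_of_finite)
  rw [e3] at e2
  have : Nat.card K * K.index = (Nat.card π.ker * Nat.card (K.map π)) * K.index := by
    rw [e1, mul_assoc, e2, e4]
  exact Nat.eq_of_mul_eq_mul_right hidx this

theorem card_commutator_le_mul {G : Type*} [Group G] [Finite G] {p : ℕ} [Fact p.Prime]
    (L : Subgroup G) (hL : L.index = p) (hLn : L.Normal) (h : G) (hh : h ∉ L) :
    Nat.card (_root_.commutator G) ≤
      Nat.card (⁅L, L⁆ : Subgroup G) * (centralizer ({h} : Set G)).index := by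
  have := hLn
  have hDn : (⁅L, L⁆ : Subgroup G).Normal := Subgroup.commutator_normal L L
  let π := QuotientGroup.mk' (⁅L, L⁆ : Subgroup G)
  have hsurj : Function.Surjective π := QuotientGroup.mk'_surjective _
  have hker : π.ker = ⁅L, L⁆ := QuotientGroup.ker_mk' _
  -- the abstract lemma in the quotient
  have hNn : (L.map π).Normal := Subgroup.Normal.map hLn π hsurj
  have hNab : ∀ a ∈ L.map π, ∀ b ∈ L.map π, a * b = b * a := by
    rintro _ ⟨l, hl, rfl⟩ _ ⟨l', hl', rfl⟩
    rw [← map_mul, ← map_mul]
    have h1 : π ⁅l, l'⁆ = 1 := by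
      show (QuotientGroup.mk' _) ⁅l, l'⁆ = 1
      rw [QuotientGroup.mk'_apply, QuotientGroup.eq_one_iff]
      exact Subgroup.commutator_mem_commutator hl hl'
    rw [map_commutatorElement, commutatorElement_eq_one_iff_mul_comm] at h1
    rw [map_mul, map_mul]
    exact h1
  have htop : L.map π ⊔ zpowers (π h) = ⊤ := by
    rw [← MonoidHom.map_zpowers, ← Subgroup.map_sup, sup_zpowers_eq_top L hL h hh,
      Subgroup.map_top_of_surjective π hsurj]
  have hA := card_commutator_le_index_centralizer (L.map π) hNab (π h) htop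
  -- transfer
  have hcomm : (_root_.commutator G).map π = _root_.commutator (G ⧸ (⁅L, L⁆ : Subgroup G)) := by
    rw [commutator_def, commutator_def, Subgroup.map_commutator,
      Subgroup.map_top_of_surjective π hsurj]
  have hDle : π.ker ≤ _root_.commutator G := by
    rw [hker, commutator_def]
    exact Subgroup.commutator_mono le_top le_top
  have hcard := card_eq_card_ker_mul_card_map π hsurj (_root_.commutator G) hDle
  rw [hcomm, hker] at hcard
  have hidx : (centralizer ({π h} : Set (G ⧸ (⁅L, L⁆ : Subgroup G)))).index ≤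
      (centralizer ({h} : Set G)).index := by
    have h1 : (centralizer ({h} : Set G)).map π ≤
        centralizer ({π h} : Set (G ⧸ (⁅L, L⁆ : Subgroup G))) := by
      rintro _ ⟨c, hc, rfl⟩
      have hc' : c ∈ centralizer ({h} : Set G) := hc
      rw [mem_centralizer_singleton_iff] at hc' ⊢
      rw [← map_mul, ← map_mul, hc']
    have h2 := index_dvd_of_le h1
    have h3 := Subgroup.index_map_dvd (centralizer ({h} : Set G)) hsurj
    have h4 : 0 < (centralizer ({h} : Set G)).index :=
      Nat.pos_of_ne_zero (Subgroup.index_ne_zero_of_finite)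
    exact Nat.le_of_dvd h4 (dvd_trans h2 h3)
  rw [hcard]
  exact Nat.mul_le_mul_left _ (le_trans hA hidx)

end Cfsg.Agent.Lib.Helper50.VL
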