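import Mathlib
import Cfsg.Agent.Lib.Helper1.PGroupMax
import Cfsg.Agent.Lib.Helper50.VLMT

/-!
# S3777 (Vaughan-Lee), module [VL-CASEA]: if `M' ≠ G'` there is a second maximal subgroup `L`
with `C_G(y) ≤ L` for all `y ∈ L ∖ M`
-/

set_option autoImplicit false
set_option linter.unusedSectionVars false

open Subgroup
open scoped commutatorElement

namespace Cfsg.Agent.Lib.Helper50.VL

theorem exists_good_of_commutator_ne {G : Type*} [Group G] [Finite G] {p : ℕ} [Fact p.Prime]
    (hG : IsPGroup p G) (M : Subgroup G) (hM : M.index = p)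
    (hne : ⁅M, M⁆ ≠ _root_.commutator G) :
    ∃ L : Subgroup G, L.index = p ∧ L ≠ M ∧
      ∀ y ∈ L, y ∉ M → centralizer ({y} : Set G) ≤ L := by
  classical
  have hp : p.Prime := Fact.out
  -- `M` is normal
  have hMn : M.Normal := by
    apply Subgroup.normal_of_index_eq_minFac_card
    obtain ⟨n, hn⟩ := IsPGroup.iff_card.mp hG
    have hn0 : n ≠ 0 := by
      rintro rfl
      have h1 : M.index ∣ Nat.card G := Subgroup.index_dvd_card M
      rw [hn, pow_zero, hM] at h1
      exact hp.one_lt.ne' (Nat.dvd_one.1 h1)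
    rw [hn, hp.pow_minFac hn0, hM]
  have hMtop : M ≠ ⊤ := by
    intro h
    rw [h, Subgroup.index_top] at hM
    exact hp.one_lt.ne hM
  have hDn : (⁅M, M⁆ : Subgroup G).Normal := Subgroup.commutator_normal M M
  have hDle : (⁅M, M⁆ : Subgroup G) ≤ _root_.commutator G := by
    rw [commutator_def]; exact Subgroup.commutator_mono le_top le_top
  -- a generating set with commutators in `M'` is impossible
  have key : ∀ X : Set G, closure X = ⊤ → (∀ x ∈ X, ∀ y ∈ X, ⁅x, y⁆ ∈ (⁅M, M⁆ : Subgroup G)) →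
      False := by
    intro X hX hc
    exact hne (le_antisymm hDle (commutator_le_of_closure _ X hX hc))
  -- the preimage of the centre of `G / M'`
  let Z : Subgroup G := (center (G ⧸ (⁅M, M⁆ : Subgroup G))).comap (QuotientGroup.mk' _)
  have hZ : ∀ z : G, z ∈ Z ↔ ∀ x : G, ⁅z, x⁆ ∈ (⁅M, M⁆ : Subgroup G) := by
    intro z
    constructor
    · intro hz x
      have h1 : (QuotientGroup.mk' (⁅M, M⁆ : Subgroup G)) z ∈ center _ := hz
      rw [mem_center_iff] at h1
      rw [← QuotientGroup.eq_one_iff, ← QuotientGroup.mk'_apply, map_commutatorElement,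
        commutatorElement_eq_one_iff_mul_comm]
      exact (h1 _).symm
    · intro hz
      show (QuotientGroup.mk' (⁅M, M⁆ : Subgroup G)) z ∈ center _
      rw [mem_center_iff]
      intro g
      obtain ⟨x, rfl⟩ := QuotientGroup.mk'_surjective _ g
      have h1 := hz x
      rw [← QuotientGroup.eq_one_iff, ← QuotientGroup.mk'_apply, map_commutatorElement,
        commutatorElement_eq_one_iff_mul_comm] at h1
      exact h1.symm
  have hZ' : ∀ z ∈ Z, ∀ x : G, ⁅x, z⁆ ∈ (⁅M, M⁆ : Subgroup G) := by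
    intro z hz x
    have : ⁅x, z⁆ = (⁅z, x⁆)⁻¹ := (commutatorElement_inv z x).symm
    rw [this]
    exact inv_mem ((hZ z).1 hz x)
  -- (1) `Z ≤ M`
  have hZM : Z ≤ M := by
    intro z hz
    by_contra hzM
    apply key ((M : Set G) ∪ {z})
    · rw [Subgroup.closure_union, Subgroup.closure_eq, ← Subgroup.zpowers_eq_closure,
        sup_zpowers_eq_top M hM z hzM]
    · intro x hx y hy
      rcases hx with hx | hx <;> rcases hy with hy | hy
      · exact Subgroup.commutator_mem_commutator hx hy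
      · rw [Set.mem_singleton_iff.1 hy]; exact hZ' z hz x
      · rw [Set.mem_singleton_iff.1 hx]; exact (hZ z).1 hz y
      · rw [Set.mem_singleton_iff.1 hx, Set.mem_singleton_iff.1 hy]
        have : ⁅z, z⁆ = 1 := commutatorElement_self z
        rw [this]; exact one_mem _
  -- (2) a maximal subgroup `L ≠ M` containing `Z`
  obtain ⟨x, hxM⟩ : ∃ x : G, x ∉ M := by
    by_contra hcon
    push Not at hcon
    exact hMtop (eq_top_iff.2 fun g _ => hcon g)
  have hKtop : Z ⊔ zpowers x ≠ ⊤ := by
    intro htop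
    apply key ((Z : Set G) ∪ {x})
    · rw [Subgroup.closure_union, Subgroup.closure_eq, ← Subgroup.zpowers_eq_closure, htop]
    · intro a ha b hb
      rcases ha with ha | ha <;> rcases hb with hb | hb
      · exact (hZ a).1 ha b
      · exact (hZ a).1 ha b
      · exact hZ' b hb a
      · rw [Set.mem_singleton_iff.1 ha, Set.mem_singleton_iff.1 hb]
        have : ⁅x, x⁆ = 1 := commutatorElement_self x
        rw [this]; exact one_mem _
  obtain ⟨L, hLco, hKL⟩ := (eq_top_or_exists_le_coatom (Z ⊔ zpowers x)).resolve_left hKtop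
  have hZL : Z ≤ L := le_trans le_sup_left hKL
  have hxL : x ∈ L := hKL ((le_sup_right : zpowers x ≤ Z ⊔ zpowers x) (mem_zpowers x))
  refine ⟨L, Cfsg.Agent.Lib.Helper1.coatom_index_of_isPGroup hG hLco, ?_, ?_⟩
  · intro h
    rw [h] at hxL
    exact hxM hxL
  -- (3), (4)
  intro y hyL hyM c hc
  rw [mem_centralizer_singleton_iff] at hc
  have htop : M ⊔ zpowers y = ⊤ := sup_zpowers_eq_top M hM y hyM
  have hdecomp : ∀ w : G, ∃ m ∈ M, ∃ u ∈ zpowers y, m * u = w := by
    intro w
    have hw : w ∈ ((M ⊔ zpowers y : Subgroup G) : Set G) := by rw [htop]; exact mem_top w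
    rw [Subgroup.normal_mul] at hw
    obtain ⟨m, hm, u, hu, rfl⟩ := Set.mem_mul.1 hw
    exact ⟨m, hm, u, hu, rfl⟩
  obtain ⟨m, hm, u, hu, rfl⟩ := hdecomp c
  have hyu : Commute y u := by
    obtain ⟨k, rfl⟩ := mem_zpowers_iff.1 hu
    exact (Commute.refl y).zpow_right k
  have hym : Commute y m := by
    have h1 : Commute y (m * u) := hc.symm
    have h2 : m = (m * u) * u⁻¹ := by group
    rw [h2]
    exact h1.mul_right hyu.inv_right
  -- `m ∈ Z`
  have hmZ : m ∈ Z := by
    rw [hZ]
    intro w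
    obtain ⟨m', hm', u', hu', rfl⟩ := hdecomp w
    have hmu' : Commute m u' := by
      obtain ⟨k, rfl⟩ := mem_zpowers_iff.1 hu'
      exact (hym.symm).zpow_right k
    have : ⁅m, m' * u'⁆ = ⁅m, m'⁆ := by
      rw [commutatorElement_def, commutatorElement_def]
      have e1 : m * (m' * u') * m⁻¹ * (m' * u')⁻¹ = m * m' * (u' * m⁻¹) * u'⁻¹ * m'⁻¹ := by group
      rw [e1, (hmu'.inv_left).symm.eq]
      group
    rw [this]
    exact Subgroup.commutator_mem_commutator hm hm'
  exact L.mul_mem (hZL hmZ) ((zpowers_le.2 hyL) hu)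

end Cfsg.Agent.Lib.Helper50.VL
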