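/-
helper50: project D4ISO (helper95, S1082), module D4ISO-[G-SIEGEL]: Siegel matrices over a commutative ring.
-/
import Mathlib
import Cfsg.Agent.Lib.Helper95.D4Iso.Defs

set_option autoImplicit false

namespace Cfsg.Agent.Lib.Helper50.D4Iso

open Matrix Cfsg.Agent.Lib.Helper95.D4Iso

section siegel
variable {R : Type*} [CommRing R]

/-- `opp` as an equivalence -/
def oppEquiv : I8 ≃ I8 := ⟨opp, opp, opp_opp, opp_opp⟩

theorem sum_opp (f : I8 → R) : ∑ a : I8, f (opp a) = ∑ a : I8, f a :=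
  Equiv.sum_comp oppEquiv f

theorem Bf_comm (x y : I8 → R) : Bf x y = Bf y x := by
  unfold Bf
  rw [← sum_opp]
  refine Finset.sum_congr rfl fun a _ => ?_
  rw [opp_opp, mul_comm]

theorem Bf_add_left (x y z : I8 → R) : Bf (x + y) z = Bf x z + Bf y z := by
  unfold Bf
  rw [← Finset.sum_add_distrib]
  refine Finset.sum_congr rfl fun a _ => ?_
  rw [Pi.add_apply, add_mul]

theorem Bf_smul_left (c : R) (x z : I8 → R) : Bf (c • x) z = c * Bf x z := by
  unfold Bf
  rw [Finset.mul_sum]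
  refine Finset.sum_congr rfl fun a _ => ?_
  rw [Pi.smul_apply, smul_eq_mul, mul_assoc]

theorem Bf_add_right (x y z : I8 → R) : Bf x (y + z) = Bf x y + Bf x z := by
  rw [Bf_comm, Bf_add_left, Bf_comm y, Bf_comm z]

theorem Bf_smul_right (c : R) (x z : I8 → R) : Bf x (c • z) = c * Bf x z := by
  rw [Bf_comm, Bf_smul_left, Bf_comm]

theorem Bf_sub_left (x y z : I8 → R) : Bf (x - y) z = Bf x z - Bf y z := by
  have h := Bf_add_left (x - y) y z
  rw [sub_add_cancel] at h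
  rw [h, add_sub_cancel_right]

theorem Bf_sub_right (x y z : I8 → R) : Bf x (y - z) = Bf x y - Bf x z := by
  rw [Bf_comm, Bf_sub_left, Bf_comm y, Bf_comm z]

theorem Qr_add (x y : I8 → R) : Qr (x + y) = Qr x + Qr y + Bf x y := by
  unfold Qr Bf
  rw [Fintype.sum_sum_type]
  simp only [opp, Sum.swap_inl, Sum.swap_inr, Pi.add_apply]
  rw [← Finset.sum_add_distrib, ← Finset.sum_add_distrib, ← Finset.sum_add_distrib]
  refine Finset.sum_congr rfl fun i _ => ?_
  ring

theorem Bf_self (x : I8 → R) : Bf x x = 2 * Qr x := by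
  unfold Qr Bf
  rw [Fintype.sum_sum_type, Finset.mul_sum, ← Finset.sum_add_distrib]
  simp only [opp, Sum.swap_inl, Sum.swap_inr]
  refine Finset.sum_congr rfl fun i _ => ?_
  ring

theorem Qr_smul (c : R) (x : I8 → R) : Qr (c • x) = c ^ 2 * Qr x := by
  unfold Qr
  rw [Finset.mul_sum]
  refine Finset.sum_congr rfl fun i _ => ?_
  simp only [Pi.smul_apply, smul_eq_mul]
  ring

theorem comp_opp_dotProduct (u x : I8 → R) : (u ∘ opp) ⬝ᵥ x = Bf x u := by
  unfold Bf dotProduct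
  refine Finset.sum_congr rfl fun a _ => ?_
  rw [Function.comp_apply, mul_comm]

theorem vecMulVec_opp_mulVec (w u x : I8 → R) : vecMulVec w (u ∘ opp) *ᵥ x = Bf x u • w := by
  rw [vecMulVec_mulVec, comp_opp_dotProduct, op_smul_eq_smul]

theorem TM_mulVec (u w x : I8 → R) :
    TM u w *ᵥ x = x + Bf x u • w - Bf x w • u - (Qr w * Bf x u) • u := by
  unfold TM
  rw [sub_mulVec, sub_mulVec, add_mulVec, one_mulVec, smul_mulVec, vecMulVec_opp_mulVec,
    vecMulVec_opp_mulVec, vecMulVec_opp_mulVec, smul_smul]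

theorem Qr_TM (u w : I8 → R) (hu : Qr u = 0) (huw : Bf u w = 0) (x : I8 → R) :
    Qr (TM u w *ᵥ x) = Qr x := by
  have hwu : Bf w u = 0 := by rw [Bf_comm]; exact huw
  have e : TM u w *ᵥ x = x + (Bf x u • w + (-(Bf x w + Qr w * Bf x u)) • u) := by
    rw [TM_mulVec]
    ext a
    simp only [Pi.add_apply, Pi.sub_apply, Pi.smul_apply, smul_eq_mul]
    ring
  rw [e, Qr_add, Qr_add, Qr_smul, Qr_smul, Bf_add_right, Bf_smul_right, Bf_smul_right, Bf_smul_left,
    Bf_smul_right, hu, hwu]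
  ring

theorem TM_mul (u w w' : I8 → R) (hu : Qr u = 0) (hw : Bf u w = 0) (hw' : Bf u w' = 0) :
    TM u w * TM u w' = TM u (w + w') := by
  have huu : Bf u u = 0 := by rw [Bf_self, hu, mul_zero]
  have hwu : Bf w u = 0 := by rw [Bf_comm]; exact hw
  have hwu' : Bf w' u = 0 := by rw [Bf_comm]; exact hw'
  rw [ext_iff_mulVec]
  intro x
  rw [← mulVec_mulVec, TM_mulVec u w' x, TM_mulVec, TM_mulVec]
  simp only [Bf_add_left, Bf_sub_left, Bf_smul_left, Bf_add_right, Qr_add, huu, hwu', hw]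
  ext a
  simp only [Pi.add_apply, Pi.sub_apply, Pi.smul_apply, smul_eq_mul]
  rw [Bf_comm w w']
  ring

theorem Qr_zero : Qr (0 : I8 → R) = 0 := by
  unfold Qr
  simp

theorem TM_zero (u : I8 → R) : TM u 0 = 1 := by
  rw [ext_iff_mulVec]
  intro x
  rw [TM_mulVec, one_mulVec, Qr_zero]
  have : Bf x (0 : I8 → R) = 0 := by
    have := Bf_smul_right (0 : R) x (0 : I8 → R)
    rwa [zero_smul, zero_mul] at this
  rw [this]
  simp

theorem TM_smul_self (u : I8 → R) (hu : Qr u = 0) (c : R) : TM u (c • u) = 1 := by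
  rw [ext_iff_mulVec]
  intro x
  rw [TM_mulVec, one_mulVec, Qr_smul, hu, Bf_smul_right]
  ext a
  simp only [Pi.add_apply, Pi.sub_apply, Pi.smul_apply, smul_eq_mul]
  ring

theorem TM_fix (u w : I8 → R) (hu : Qr u = 0) (huw : Bf u w = 0) : TM u w *ᵥ u = u := by
  have huu : Bf u u = 0 := by rw [Bf_self, hu, mul_zero]
  rw [TM_mulVec, huu, huw]
  simp

theorem Bf_of_Qr (g : Matrix I8 I8 R) (hg : ∀ x, Qr (g *ᵥ x) = Qr x) (x y : I8 → R) :
    Bf (g *ᵥ x) (g *ᵥ y) = Bf x y := by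
  have h := hg (x + y)
  rw [mulVec_add, Qr_add, Qr_add, hg, hg] at h
  exact add_left_cancel h

theorem TM_conj (g ginv : Matrix I8 I8 R) (hg : ∀ x, Qr (g *ᵥ x) = Qr x) (h1 : g * ginv = 1)
    (u w : I8 → R) : g * TM u w * ginv = TM (g *ᵥ u) (g *ᵥ w) := by
  rw [ext_iff_mulVec]
  intro x
  have hx : g *ᵥ (ginv *ᵥ x) = x := by rw [mulVec_mulVec, h1, one_mulVec]
  rw [← mulVec_mulVec, ← mulVec_mulVec, TM_mulVec, TM_mulVec, hg w]
  have e1 : Bf (ginv *ᵥ x) u = Bf x (g *ᵥ u) := by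
    rw [← Bf_of_Qr g hg, hx]
  have e2 : Bf (ginv *ᵥ x) w = Bf x (g *ᵥ w) := by
    rw [← Bf_of_Qr g hg, hx]
  rw [mulVec_sub, mulVec_sub, mulVec_add, mulVec_smul, mulVec_smul, mulVec_smul, hx, e1, e2]

theorem Qr_eV (a : I8) : Qr (eV a : I8 → R) = 0 := by
  unfold Qr eV
  refine Finset.sum_eq_zero fun i _ => ?_
  rcases a with a | a
  · have h0 : (Pi.single (Sum.inl a) 1 : I8 → R) (Sum.inr i) = 0 := Pi.single_eq_of_ne (by simp) _
    rw [h0, mul_zero]
  · have h0 : (Pi.single (Sum.inr a) 1 : I8 → R) (Sum.inl i) = 0 := Pi.single_eq_of_ne (by simp) _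
    rw [h0, zero_mul]

theorem Bf_eV_right (x : I8 → R) (a : I8) : Bf x (eV a) = x (opp a) := by
  unfold Bf eV
  rw [Finset.sum_eq_single (opp a)]
  · rw [opp_opp, Pi.single_eq_same, mul_one]
  · intro b _ hb
    rw [Pi.single_eq_of_ne, mul_zero]
    intro h
    apply hb
    rw [← h, opp_opp]
  · intro h
    exact absurd (Finset.mem_univ _) h

set_option linter.unusedVariables false in
theorem xM_eq_TM (a b : I8) (h : Valid a b) (t : R) :
    xM a b t = TM (eV a) ((-t) • eV (opp b)) := by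
  rw [ext_iff_mulVec]
  intro x
  rw [TM_mulVec, Qr_smul, Qr_eV, mul_zero, zero_mul, zero_smul, sub_zero, Bf_smul_right, Bf_eV_right,
    Bf_eV_right, opp_opp]
  unfold xM eM
  rw [add_mulVec, one_mulVec, smul_mulVec, sub_mulVec]
  ext i
  simp only [Pi.add_apply, Pi.sub_apply, Pi.smul_apply, smul_eq_mul, eV]
  have e1 : (Matrix.single a b (1 : R) *ᵥ x) i = (Pi.single a 1 : I8 → R) i * x b := by
    rw [Matrix.single_mulVec]
    simp [Function.update_apply, Pi.single_apply]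
  have e2 : (Matrix.single (opp b) (opp a) (1 : R) *ᵥ x) i = (Pi.single (opp b) 1 : I8 → R) i * x (opp a) := by
    rw [Matrix.single_mulVec]
    simp [Function.update_apply, Pi.single_apply]
  rw [e1, e2]
  ring

end siegel

end Cfsg.Agent.Lib.Helper50.D4Iso
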