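import Mathlib
import Cfsg.Agent.Lib.Helper39.SPW.Defs

/-!
# SPW-[L-IRR] (helper39's project SPW, S2347): helper50

If the commutant of `ω` is spanned by `1` and `P`, a subrepresentation on which `P = -1` is
irreducible (provided `P` fixes some non-zero vector).  Maschke by hand.
-/

set_option autoImplicit false
set_option linter.unusedSectionVars false
set_option linter.unusedVariables false

namespace Cfsg.Agent.Lib.Helper50.SpwLIrr

open Module

variable {G : Type*} [Group G] {S : Type*} [AddCommGroup S] [Module ℂ S]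

/-- Maschke by hand: an invariant subspace is the image of an equivariant idempotent. -/
theorem exists_equivariant_proj [Finite G] (ω : Representation ℂ G S) (U : Submodule ℂ S)
    (hU : ∀ g, ∀ x ∈ U, ω g x ∈ U) :
    ∃ E : Module.End ℂ S, (∀ g, ω g * E = E * ω g) ∧ (∀ x, E x ∈ U) ∧ (∀ x ∈ U, E x = x) := by
  classical
  have : Fintype G := Fintype.ofFinite G
  obtain ⟨K, hK⟩ := Submodule.exists_isCompl U
  obtain ⟨E₀, hE₀mem, hE₀id⟩ : ∃ E₀ : Module.End ℂ S, (∀ x, E₀ x ∈ U) ∧ (∀ x ∈ U, E₀ x = x) := by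
    refine ⟨U.subtype.comp (Submodule.projectionOnto U K hK), fun x => ?_, fun x hx => ?_⟩
    · exact (Submodule.projectionOnto U K hK x).2
    · show ((Submodule.projectionOnto U K hK x : U) : S) = x
      have := Submodule.projectionOnto_apply_left hK ⟨x, hx⟩
      exact congrArg Subtype.val this
  have hterm : ∀ (g : G) (x : S), (ω g * E₀ * ω g⁻¹) x = ω g (E₀ (ω g⁻¹ x)) := fun g x => rfl
  have hcard : (Fintype.card G : ℂ) ≠ 0 := Nat.cast_ne_zero.mpr Fintype.card_ne_zero
  refine ⟨(Fintype.card G : ℂ)⁻¹ • ∑ g : G, ω g * E₀ * ω g⁻¹, ?_, ?_, ?_⟩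
  · intro h
    rw [mul_smul_comm, smul_mul_assoc, Finset.mul_sum, Finset.sum_mul]
    congr 1
    refine Fintype.sum_equiv (Equiv.mulLeft h) _ _ (fun g => ?_)
    simp only [Equiv.coe_mulLeft, mul_inv_rev, map_mul]
    have : ω g⁻¹ * ω h⁻¹ * ω h = ω g⁻¹ := by
      rw [mul_assoc, ← map_mul, inv_mul_cancel, map_one, mul_one]
    calc ω h * (ω g * E₀ * ω g⁻¹) = ω h * ω g * E₀ * ω g⁻¹ := by simp only [mul_assoc]
      _ = ω h * ω g * E₀ * (ω g⁻¹ * ω h⁻¹ * ω h) := by rw [this]
      _ = ω h * ω g * E₀ * (ω g⁻¹ * ω h⁻¹) * ω h := by simp only [mul_assoc]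
  · intro x
    rw [LinearMap.smul_apply, LinearMap.sum_apply]
    refine U.smul_mem _ (U.sum_mem fun g _ => ?_)
    rw [hterm]
    exact hU g _ (hE₀mem _)
  · intro x hx
    rw [LinearMap.smul_apply, LinearMap.sum_apply]
    have : ∀ g ∈ (Finset.univ : Finset G), (ω g * E₀ * ω g⁻¹) x = x := by
      intro g _
      rw [hterm, hE₀id _ (hU g⁻¹ x hx)]
      have : ω g (ω g⁻¹ x) = (ω g * ω g⁻¹) x := rfl
      rw [this, ← map_mul, mul_inv_cancel, map_one]
      rfl
    rw [Finset.sum_congr rfl this, Finset.sum_const, Finset.card_univ, ← Nat.cast_smul_eq_nsmul ℂ,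
      smul_smul, inv_mul_cancel₀ hcard, one_smul]

end Cfsg.Agent.Lib.Helper50.SpwLIrr

namespace Cfsg.Agent.Lib.Helper39.SPW

open Matrix Module Cfsg.Agent.Lib.Helper50.SpwLIrr

section L
variable {G : Type*} [Group G] {S : Type*} [AddCommGroup S] [Module ℂ S] [FiniteDimensional ℂ S]

/-- **[L-IRR]** if the commutant of `ω` is spanned by `1` and `P`, a subrepresentation on which `P = -1` is
irreducible (provided `P` fixes some non-zero vector) -/
theorem isIrreducible_of_commutant [Finite G] (ω : Representation ℂ G S) (P : Module.End ℂ S)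
    (hcent : ∀ X : Module.End ℂ S, (∀ g, ω g * X = X * ω g) → ∃ a b : ℂ, X = a • (1 : Module.End ℂ S) + b • P)
    (σ : Subrepresentation ω) (hσ0 : σ.toSubmodule ≠ ⊥)
    (hσ : ∀ x ∈ σ.toSubmodule, P x = -x) (hP : ∃ y, y ≠ 0 ∧ P y = y) :
    σ.toRepresentation.IsIrreducible := by
  obtain ⟨y, hy0, hPy⟩ := hP
  have hnt : Nontrivial (Subrepresentation σ.toRepresentation) := by
    obtain ⟨x, hx, hx0⟩ := (Submodule.ne_bot_iff _).mp hσ0
    refine ⟨⟨⊥, ⊤, fun h => ?_⟩⟩
    have h1 : (⟨x, hx⟩ : σ.toSubmodule) ∈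
        (⊤ : Subrepresentation σ.toRepresentation).toSubmodule := Submodule.mem_top
    rw [← h] at h1
    have h2 : (⟨x, hx⟩ : σ.toSubmodule) = 0 := (Submodule.mem_bot ℂ).mp h1
    exact hx0 (congrArg Subtype.val h2)
  refine { toNontrivial := hnt, eq_bot_or_eq_top := fun τ => ?_ }
  obtain ⟨U, hUdef⟩ : ∃ U : Submodule ℂ S, U = τ.toSubmodule.map σ.toSubmodule.subtype :=
    ⟨_, rfl⟩
  have hUσ : U ≤ σ.toSubmodule := by
    rw [hUdef]
    rintro _ ⟨x, _, rfl⟩
    exact x.2
  have hUmem : ∀ x : σ.toSubmodule, x ∈ τ.toSubmodule ↔ (x : S) ∈ U := by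
    intro x
    rw [hUdef]
    constructor
    · intro hx; exact ⟨x, hx, rfl⟩
    · rintro ⟨x', hx', hxx'⟩
      have : x' = x := Subtype.ext hxx'
      rw [← this]; exact hx'
  have hUinv : ∀ g, ∀ x ∈ U, ω g x ∈ U := by
    intro g x hx
    rw [hUdef] at hx ⊢
    obtain ⟨x', hx', rfl⟩ := hx
    exact ⟨σ.toRepresentation g x', τ.apply_mem_toSubmodule g hx', rfl⟩
  obtain ⟨E, hEc, hEmem, hEid⟩ := exists_equivariant_proj ω U hUinv
  obtain ⟨a, b, hab⟩ := hcent E hEc
  have hEx : ∀ x, E x = a • x + b • P x := by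
    intro x
    rw [hab]
    simp
  have hab0 : a + b = 0 := by
    have h1 : E y = (a + b) • y := by rw [hEx, hPy, add_smul]
    have h2 : E y ∈ σ.toSubmodule := hUσ (hEmem y)
    have h3 := hσ _ h2
    rw [h1, map_smul, hPy] at h3
    by_contra hne
    have h4 : (a + b) • y + (a + b) • y = 0 := by
      nth_rewrite 1 [h3]
      exact neg_add_cancel _
    have h5 : ((2 : ℂ) * (a + b)) • y = 0 := by
      rw [mul_smul, two_smul]; exact h4
    have h6 : (2 : ℂ) * (a + b) ≠ 0 := mul_ne_zero two_ne_zero hne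
    exact hy0 ((smul_eq_zero.mp h5).resolve_left h6)
  have hEσ : ∀ x ∈ σ.toSubmodule, E x = (a - b) • x := by
    intro x hx
    rw [hEx, hσ x hx, smul_neg, sub_smul, sub_eq_add_neg]
  by_cases hab' : a = b
  · left
    apply Subrepresentation.toSubmodule_injective
    show τ.toSubmodule = ⊥
    rw [eq_bot_iff]
    intro x hx
    have hxU := (hUmem x).mp hx
    have : (x : S) = 0 := by rw [← hEid _ hxU, hEσ _ x.2, hab', sub_self, zero_smul]
    exact (Submodule.mem_bot ℂ).mpr (Subtype.ext this)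
  · right
    apply Subrepresentation.toSubmodule_injective
    show τ.toSubmodule = ⊤
    rw [eq_top_iff]
    intro x _
    rw [hUmem]
    have h1 : (x : S) = (a - b)⁻¹ • E x := by
      rw [hEσ _ x.2, smul_smul, inv_mul_cancel₀ (sub_ne_zero.mpr hab'), one_smul]
    rw [h1]
    exact U.smul_mem _ (hEmem _)

end L

end Cfsg.Agent.Lib.Helper39.SPW
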