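/-
helper50: project S2363 (helper40), module S2363-[EXC-A]: the order bounds for G2, F4, E8, 3D4 (pure arithmetic).
-/
import Mathlib
import Cfsg.Agent.Lib.Helper40.LieBound

set_option autoImplicit false

open Cfsg.Agent.Lib.Helper40.LieBound

namespace Cfsg.Agent.Lib.Helper50.LieBound

theorem ndvd_mul {p a b : ℕ} (hp : p.Prime) (h1 : ¬ p ∣ a) (h2 : ¬ p ∣ b) : ¬ p ∣ a * b := by
  intro h
  rcases (Nat.Prime.dvd_mul hp).mp h with h | h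
  · exact h1 h
  · exact h2 h

theorem ndvd_one {p : ℕ} (hp : p.Prime) : ¬ p ∣ 1 := fun h => hp.one_lt.ne' (Nat.dvd_one.mp h)

theorem one_le_q {p f : ℕ} (hp : p.Prime) : 1 ≤ p ^ f := Nat.one_le_pow _ _ hp.pos

theorem two_le_q {p f : ℕ} (hp : p.Prime) (hf : 1 ≤ f) : 2 ≤ p ^ f :=
  calc 2 ≤ p := hp.two_le
    _ = p ^ 1 := (pow_one p).symm
    _ ≤ p ^ f := Nat.pow_le_pow_right hp.pos hf

theorem g2_bound {p f q g : ℕ} (hp : p.Prime) (hf : 1 ≤ f) (hq : q = p ^ f)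
    (hg : g = q ^ 6 * (q ^ 2 - 1) * (q ^ 6 - 1)) :
    g < p ^ (3 * g.factorization p) ∧ g ^ 3 < p ^ (8 * g.factorization p) := by
  subst hq
  have h1 := one_le_q (f := f) hp
  refine card_bounds (p := p) (f := f) (N := 6) (e := 8) (d := 1) (M := ((p ^ f) ^ 2 - 1) * ((p ^ f) ^ 6 - 1)) hp (ndvd_one hp)
    (ndvd_mul hp (not_dvd_pow_sub_one hp hf (by norm_num)) (not_dvd_pow_sub_one hp hf (by norm_num)))
    (by rw [hg]; ring) ?_ (by norm_num) (by norm_num)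
  rw [one_mul, show (p ^ f) ^ 8 = (p ^ f) ^ 2 * (p ^ f) ^ 6 by ring]
  exact Nat.mul_lt_mul'' (pow_sub_one_lt h1 2) (pow_sub_one_lt h1 6)

theorem f4_bound {p f q g : ℕ} (hp : p.Prime) (hf : 1 ≤ f) (hq : q = p ^ f)
    (hg : g = q ^ 24 * (q ^ 2 - 1) * (q ^ 6 - 1) * (q ^ 8 - 1) * (q ^ 12 - 1)) :
    g < p ^ (3 * g.factorization p) ∧ g ^ 3 < p ^ (8 * g.factorization p) := by
  subst hq
  have h1 := one_le_q (f := f) hp
  refine card_bounds (p := p) (f := f) (N := 24) (e := 28) (d := 1)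
    (M := ((p ^ f) ^ 2 - 1) * ((p ^ f) ^ 6 - 1) * ((p ^ f) ^ 8 - 1) * ((p ^ f) ^ 12 - 1)) hp (ndvd_one hp)
    (ndvd_mul hp (ndvd_mul hp (ndvd_mul hp (not_dvd_pow_sub_one hp hf (by norm_num))
      (not_dvd_pow_sub_one hp hf (by norm_num))) (not_dvd_pow_sub_one hp hf (by norm_num)))
      (not_dvd_pow_sub_one hp hf (by norm_num)))
    (by rw [hg]; ring) ?_ (by norm_num) (by norm_num)
  rw [one_mul, show (p ^ f) ^ 28 = (p ^ f) ^ 2 * (p ^ f) ^ 6 * (p ^ f) ^ 8 * (p ^ f) ^ 12 by ring]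
  exact Nat.mul_lt_mul'' (Nat.mul_lt_mul'' (Nat.mul_lt_mul'' (pow_sub_one_lt h1 2) (pow_sub_one_lt h1 6))
    (pow_sub_one_lt h1 8)) (pow_sub_one_lt h1 12)

theorem e8_bound {p f q g : ℕ} (hp : p.Prime) (hf : 1 ≤ f) (hq : q = p ^ f)
    (hg : g = q ^ 120 * (q ^ 2 - 1) * (q ^ 8 - 1) * (q ^ 12 - 1) * (q ^ 14 - 1) * (q ^ 18 - 1) *
      (q ^ 20 - 1) * (q ^ 24 - 1) * (q ^ 30 - 1)) :
    g < p ^ (3 * g.factorization p) ∧ g ^ 3 < p ^ (8 * g.factorization p) := by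
  subst hq
  have h1 := one_le_q (f := f) hp
  refine card_bounds (p := p) (f := f) (N := 120) (e := 128) (d := 1)
    (M := ((p ^ f) ^ 2 - 1) * ((p ^ f) ^ 8 - 1) * ((p ^ f) ^ 12 - 1) * ((p ^ f) ^ 14 - 1) *
      ((p ^ f) ^ 18 - 1) * ((p ^ f) ^ 20 - 1) * ((p ^ f) ^ 24 - 1) * ((p ^ f) ^ 30 - 1)) hp (ndvd_one hp)
    (ndvd_mul hp (ndvd_mul hp (ndvd_mul hp (ndvd_mul hp (ndvd_mul hp (ndvd_mul hp (ndvd_mul hp
      (not_dvd_pow_sub_one hp hf (by norm_num)) (not_dvd_pow_sub_one hp hf (by norm_num)))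
      (not_dvd_pow_sub_one hp hf (by norm_num))) (not_dvd_pow_sub_one hp hf (by norm_num)))
      (not_dvd_pow_sub_one hp hf (by norm_num))) (not_dvd_pow_sub_one hp hf (by norm_num)))
      (not_dvd_pow_sub_one hp hf (by norm_num))) (not_dvd_pow_sub_one hp hf (by norm_num)))
    (by rw [hg]; ring) ?_ (by norm_num) (by norm_num)
  rw [one_mul, show (p ^ f) ^ 128 = (p ^ f) ^ 2 * (p ^ f) ^ 8 * (p ^ f) ^ 12 * (p ^ f) ^ 14 * (p ^ f) ^ 18 *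
    (p ^ f) ^ 20 * (p ^ f) ^ 24 * (p ^ f) ^ 30 by ring]
  exact Nat.mul_lt_mul'' (Nat.mul_lt_mul'' (Nat.mul_lt_mul'' (Nat.mul_lt_mul'' (Nat.mul_lt_mul''
    (Nat.mul_lt_mul'' (Nat.mul_lt_mul'' (pow_sub_one_lt h1 2) (pow_sub_one_lt h1 8)) (pow_sub_one_lt h1 12))
    (pow_sub_one_lt h1 14)) (pow_sub_one_lt h1 18)) (pow_sub_one_lt h1 20)) (pow_sub_one_lt h1 24))
    (pow_sub_one_lt h1 30)

theorem threeD4_bound {p f q g : ℕ} (hp : p.Prime) (hf : 1 ≤ f) (hq : q = p ^ f)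
    (hg : g = q ^ 12 * (q ^ 2 - 1) * (q ^ 6 - 1) * (q ^ 8 + q ^ 4 + 1)) :
    g < p ^ (3 * g.factorization p) ∧ g ^ 3 < p ^ (8 * g.factorization p) := by
  subst hq
  have h1 := one_le_q (f := f) hp
  have h2 := two_le_q hp hf
  have hlast : ¬ p ∣ (p ^ f) ^ 8 + (p ^ f) ^ 4 + 1 := by
    rw [add_assoc]
    exact not_dvd_pow_add hf (by norm_num) (not_dvd_pow_add_one hp hf (by norm_num))
  refine card_bounds (p := p) (f := f) (N := 12) (e := 17) (d := 1)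
    (M := ((p ^ f) ^ 2 - 1) * ((p ^ f) ^ 6 - 1) * ((p ^ f) ^ 8 + (p ^ f) ^ 4 + 1)) hp (ndvd_one hp)
    (ndvd_mul hp (ndvd_mul hp (not_dvd_pow_sub_one hp hf (by norm_num))
      (not_dvd_pow_sub_one hp hf (by norm_num))) hlast)
    (by rw [hg]; ring) ?_ (by norm_num) (by norm_num)
  rw [one_mul, show (p ^ f) ^ 17 = (p ^ f) ^ 2 * (p ^ f) ^ 6 * (p ^ f) ^ 9 by ring]
  refine Nat.mul_lt_mul'' (Nat.mul_lt_mul'' (pow_sub_one_lt h1 2) (pow_sub_one_lt h1 6)) ?_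
  -- q^8 + q^4 + 1 < q^9
  have h4 : (p ^ f) ^ 4 + 1 < (p ^ f) ^ 5 := pow_add_one_lt h2 (by norm_num)
  have h5 : (p ^ f) ^ 5 ≤ (p ^ f) ^ 8 := Nat.pow_le_pow_right h1 (by norm_num)
  have h9 : (p ^ f) ^ 9 = (p ^ f) ^ 8 * (p ^ f) := pow_succ _ 8
  have h10 : (p ^ f) ^ 8 * 2 ≤ (p ^ f) ^ 8 * (p ^ f) := Nat.mul_le_mul_left _ h2
  omega
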