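/-
helper50: project S2363 (helper40), module S2363-[PSL]: the order bound for the linear groups (pure arithmetic).
-/
import Mathlib
import Cfsg.Agent.Lib.Helper40.LieBound

set_option autoImplicit false

open Cfsg.Agent.Lib.Helper40.LieBound

namespace Cfsg.Agent.Lib.Helper50.LieBoundPSL

/-- `∏_{i<n} (q^n - q^i) = q^(0+1+...+(n-1)) ∏_{j<n} (q^(j+1) - 1)` -/
theorem prod_formula (q n : ℕ) :
    ∏ i : Fin n, (q ^ n - q ^ (i : ℕ)) =
      q ^ (∑ i ∈ Finset.range n, i) * ∏ j ∈ Finset.range n, (q ^ (j + 1) - 1) := by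
  rw [Fin.prod_univ_eq_prod_range (fun i => q ^ n - q ^ i) n]
  have h1 : ∀ i ∈ Finset.range n, q ^ n - q ^ i = q ^ i * (q ^ (n - 1 - i + 1) - 1) := by
    intro i hi
    have hi' := Finset.mem_range.mp hi
    rw [Nat.mul_sub, mul_one, ← pow_add]
    congr 2
    omega
  rw [Finset.prod_congr rfl h1, Finset.prod_mul_distrib, Finset.prod_pow_eq_pow_sum,
    Finset.prod_range_reflect (fun j => q ^ (j + 1) - 1) n]

/-- `∏_{j=2..m+2} (q^j - 1) < q^(T(m+2) + m + 1)` -/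
theorem tail_lt {q : ℕ} (hq : 1 ≤ q) (m : ℕ) :
    ∏ j ∈ Finset.range (m + 1), (q ^ (j + 2) - 1) < q ^ ((∑ i ∈ Finset.range (m + 2), i) + (m + 1)) := by
  induction m with
  | zero =>
    have := pow_sub_one_lt hq 2
    simpa [Finset.sum_range_succ] using this
  | succ m ih =>
    rw [Finset.prod_range_succ]
    calc (∏ j ∈ Finset.range (m + 1), (q ^ (j + 2) - 1)) * (q ^ (m + 1 + 2) - 1)
        < q ^ ((∑ i ∈ Finset.range (m + 2), i) + (m + 1)) * q ^ (m + 1 + 2) :=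
          Nat.mul_lt_mul'' ih (pow_sub_one_lt hq _)
      _ = q ^ ((∑ i ∈ Finset.range (m + 1 + 2), i) + (m + 1 + 1)) := by
          rw [← pow_add, Finset.sum_range_succ _ (m + 2)]
          congr 1
          ring

theorem psl_bound {p f q n g : ℕ} (hp : p.Prime) (hf : 1 ≤ f) (hq : q = p ^ f) (hn : 2 ≤ n)
    (hg : Nat.gcd n (q - 1) * ((q - 1) * g) = ∏ i : Fin n, (q ^ n - q ^ (i : ℕ))) :
    g.factorization p = f * (n * (n - 1) / 2) ∧ g < p ^ (3 * g.factorization p) ∧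
      (3 ≤ n → g ^ 3 < p ^ (8 * g.factorization p)) := by
  subst hq
  have h1 : 1 ≤ p ^ f := Nat.one_le_pow _ _ hp.pos
  have h2 : 2 ≤ p ^ f :=
    calc 2 ≤ p := hp.two_le
      _ = p ^ 1 := (pow_one p).symm
      _ ≤ p ^ f := Nat.pow_le_pow_right hp.pos hf
  obtain ⟨m, rfl⟩ : ∃ m, n = m + 2 := ⟨n - 2, by omega⟩
  have hq1 : ¬ p ∣ p ^ f - 1 := by
    have := not_dvd_pow_sub_one hp hf (le_refl 1)
    rwa [pow_one] at this
  have hpd : ¬ p ∣ Nat.gcd (m + 2) (p ^ f - 1) * (p ^ f - 1) := by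
    intro h
    rcases (Nat.Prime.dvd_mul hp).mp h with h | h
    · exact not_dvd_gcd_sub_one hp hf (m + 2) h
    · exact hq1 h
  have hM : ¬ p ∣ ∏ j ∈ Finset.range (m + 2), ((p ^ f) ^ (j + 1) - 1) :=
    not_dvd_prod hp _ _ (fun i _ => not_dvd_pow_sub_one hp hf (by omega))
  have hg' : (Nat.gcd (m + 2) (p ^ f - 1) * (p ^ f - 1)) * g =
      (p ^ f) ^ ((m + 2) * (m + 2 - 1) / 2) * ∏ j ∈ Finset.range (m + 2), ((p ^ f) ^ (j + 1) - 1) := by
    rw [mul_assoc, hg, prod_formula, Finset.sum_range_id]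
  have hgcd : 1 ≤ Nat.gcd (m + 2) (p ^ f - 1) := Nat.gcd_pos_of_pos_right _ (by omega)
  have hT : (∑ i ∈ Finset.range (m + 2), i) = (m + 2) * (m + 2 - 1) / 2 := Finset.sum_range_id _
  have hT2 : (∑ i ∈ Finset.range (m + 2), i) * 2 = (m + 2) * (m + 2 - 1) := Finset.sum_range_id_mul_two _
  have hT3 : m + 1 ≤ ∑ i ∈ Finset.range (m + 2), i := by
    rw [Finset.sum_range_succ]; omega
  have hMe : ∏ j ∈ Finset.range (m + 2), ((p ^ f) ^ (j + 1) - 1) <
      (Nat.gcd (m + 2) (p ^ f - 1) * (p ^ f - 1)) * (p ^ f) ^ ((m + 2) * (m + 2 - 1) / 2 + (m + 1)) := by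
    rw [← hT, Finset.prod_range_succ', zero_add, pow_one]
    calc (∏ k ∈ Finset.range (m + 1), ((p ^ f) ^ (k + 1 + 1) - 1)) * (p ^ f - 1)
        < (p ^ f) ^ ((∑ i ∈ Finset.range (m + 2), i) + (m + 1)) * (p ^ f - 1) :=
          Nat.mul_lt_mul_of_pos_right (tail_lt h1 m) (by omega)
      _ = (1 * (p ^ f - 1)) * (p ^ f) ^ ((∑ i ∈ Finset.range (m + 2), i) + (m + 1)) := by
          rw [one_mul, mul_comm]
      _ ≤ _ := Nat.mul_le_mul_right _ (Nat.mul_le_mul_right _ hgcd)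
  refine ⟨factorization_of_order hp hpd hM hg', card_lt hp hpd hM hg' hMe ?_,
    fun h3 => card_cube_lt hp hpd hM hg' hMe ?_⟩
  · rw [← hT]; omega
  · rw [← hT]
    have h5 : (m + 2) * (m + 2 - 1) = (m + 2) * (m + 1) := by simp
    have h6 : 3 * (m + 1) ≤ (m + 2) * (m + 1) := Nat.mul_le_mul_right _ (by omega)
    omega

end Cfsg.Agent.Lib.Helper50.LieBoundPSL
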