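/-
helper50: project S2363 (helper40), module S2363-[PSU]: the order bound for the unitary groups (pure arithmetic).
-/
import Mathlib
import Cfsg.Agent.Lib.Helper40.LieBound

set_option autoImplicit false

open Cfsg.Agent.Lib.Helper40.LieBound

namespace Cfsg.Agent.Lib.Helper50.LieBoundPSU

/-- the `i`-th factor of the unitary order formula (`j = i + 1`: `q^j - (-1)^j`) -/
def ua (q i : ℕ) : ℕ := if Even i then q ^ (i + 1) + 1 else q ^ (i + 1) - 1

theorem ua_odd (q i : ℕ) : ua q (2 * i + 1) = q ^ (2 * i + 2) - 1 := by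
  have h : ¬ Even (2 * i + 1) := by rw [Nat.even_iff]; omega
  unfold ua
  rw [if_neg h]

theorem ua_even (q i : ℕ) : ua q (2 * i + 2) = q ^ (2 * i + 3) + 1 := by
  have h : Even (2 * i + 2) := by rw [Nat.even_iff]; omega
  unfold ua
  rw [if_pos h]

theorem ua_zero (q : ℕ) : ua q 0 = q + 1 := by
  unfold ua
  rw [if_pos (by decide : Even 0), zero_add, pow_one]

/-- the paired product estimate -/
theorem pairs_lt {q : ℕ} (hq : 2 ≤ q) (k : ℕ) :
    ∏ i ∈ Finset.range (k + 1), (ua q (2 * i + 1) * ua q (2 * i + 2)) <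
      q ^ (2 * (k + 1) ^ 2 + 3 * (k + 1)) := by
  induction k with
  | zero =>
    rw [Finset.prod_range_one, ua_odd, ua_even]
    have := pair_lt hq (a := 2) (b := 3) (by norm_num)
    simpa using this
  | succ k ih =>
    rw [Finset.prod_range_succ, ua_odd, ua_even]
    calc (∏ i ∈ Finset.range (k + 1), (ua q (2 * i + 1) * ua q (2 * i + 2))) *
          ((q ^ (2 * (k + 1) + 2) - 1) * (q ^ (2 * (k + 1) + 3) + 1))
        < q ^ (2 * (k + 1) ^ 2 + 3 * (k + 1)) * q ^ ((2 * (k + 1) + 2) + (2 * (k + 1) + 3)) :=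
          Nat.mul_lt_mul'' ih (pair_lt hq (by omega))
      _ = q ^ (2 * (k + 1 + 1) ^ 2 + 3 * (k + 1 + 1)) := by
          rw [← pow_add]; congr 1; ring

/-- reindexing the odd-length product by pairs -/
theorem prod_odd (q k : ℕ) :
    ∏ i ∈ Finset.range (2 * k + 1), ua q i =
      (q + 1) * ∏ i ∈ Finset.range k, (ua q (2 * i + 1) * ua q (2 * i + 2)) := by
  induction k with
  | zero => simp [ua_zero]
  | succ k ih =>
    rw [show 2 * (k + 1) + 1 = 2 * k + 1 + 1 + 1 by ring, Finset.prod_range_succ, Finset.prod_range_succ,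
      ih, Finset.prod_range_succ]
    ring

theorem psu_bound {p f q n g : ℕ} (hp : p.Prime) (hf : 1 ≤ f) (hq : q = p ^ f) (hn : 3 ≤ n)
    (hg : Nat.gcd n (q + 1) * ((q + 1) * g) = q ^ (n * (n - 1) / 2) *
      ∏ i ∈ Finset.range n, (if Even i then q ^ (i + 1) + 1 else q ^ (i + 1) - 1)) :
    g < p ^ (3 * g.factorization p) ∧ g ^ 3 < p ^ (8 * g.factorization p) := by
  subst hq
  have h1 : 1 ≤ p ^ f := Nat.one_le_pow _ _ hp.pos
  have h2 : 2 ≤ p ^ f :=
    calc 2 ≤ p := hp.two_le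
      _ = p ^ 1 := (pow_one p).symm
      _ ≤ p ^ f := Nat.pow_le_pow_right hp.pos hf
  have hq1 : ¬ p ∣ p ^ f + 1 := by
    have := not_dvd_pow_add_one hp hf (le_refl 1)
    rwa [pow_one] at this
  have hpd : ¬ p ∣ Nat.gcd n (p ^ f + 1) * (p ^ f + 1) := by
    intro h
    rcases (Nat.Prime.dvd_mul hp).mp h with h | h
    · exact not_dvd_gcd_add_one hp hf n h
    · exact hq1 h
  have hM : ¬ p ∣ ∏ i ∈ Finset.range n, ua (p ^ f) i := by
    refine not_dvd_prod hp _ _ (fun i _ => ?_)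
    unfold ua
    split_ifs
    · exact not_dvd_pow_add_one hp hf (by omega)
    · exact not_dvd_pow_sub_one hp hf (by omega)
  have hg' : (Nat.gcd n (p ^ f + 1) * (p ^ f + 1)) * g =
      (p ^ f) ^ (n * (n - 1) / 2) * ∏ i ∈ Finset.range n, ua (p ^ f) i := by
    rw [mul_assoc]; exact hg
  have hgcd : 1 ≤ Nat.gcd n (p ^ f + 1) := Nat.gcd_pos_of_pos_right _ (by omega)
  obtain ⟨j, hj⟩ : ∃ j, n = 2 * (j + 1) + 1 ∨ n = 2 * (j + 1) + 1 + 1 := ⟨(n - 3) / 2, by omega⟩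
  rcases hj with rfl | rfl
  · -- odd `n`
    have hN : (2 * (j + 1) + 1) * (2 * (j + 1) + 1 - 1) / 2 = (2 * j + 3) * (j + 1) := by
      apply Nat.div_eq_of_eq_mul_left two_pos
      simp only [Nat.add_sub_cancel]
      ring
    have hMe : ∏ i ∈ Finset.range (2 * (j + 1) + 1), ua (p ^ f) i <
        (Nat.gcd (2 * (j + 1) + 1) (p ^ f + 1) * (p ^ f + 1)) * (p ^ f) ^ (2 * (j + 1) ^ 2 + 3 * (j + 1)) := by
      rw [prod_odd]
      calc (p ^ f + 1) * ∏ i ∈ Finset.range (j + 1), (ua (p ^ f) (2 * i + 1) * ua (p ^ f) (2 * i + 2))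
          < (p ^ f + 1) * (p ^ f) ^ (2 * (j + 1) ^ 2 + 3 * (j + 1)) :=
            Nat.mul_lt_mul_of_pos_left (pairs_lt h2 j) (by omega)
        _ = (1 * (p ^ f + 1)) * (p ^ f) ^ (2 * (j + 1) ^ 2 + 3 * (j + 1)) := by rw [one_mul]
        _ ≤ _ := Nat.mul_le_mul_right _ (Nat.mul_le_mul_right _ hgcd)
    refine card_bounds (p := p) (f := f) hp hpd hM hg' hMe ?_ ?_
    · rw [hN]; nlinarith [Nat.zero_le j, Nat.zero_le (j * j)]
    · rw [hN]; nlinarith [Nat.zero_le j, Nat.zero_le (j * j)]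
  · -- even `n`
    have hN : (2 * (j + 1) + 1 + 1) * (2 * (j + 1) + 1 + 1 - 1) / 2 = (j + 2) * (2 * j + 3) := by
      apply Nat.div_eq_of_eq_mul_left two_pos
      simp only [Nat.add_sub_cancel]
      ring
    have hMe : ∏ i ∈ Finset.range (2 * (j + 1) + 1 + 1), ua (p ^ f) i <
        (Nat.gcd (2 * (j + 1) + 1 + 1) (p ^ f + 1) * (p ^ f + 1)) *
          (p ^ f) ^ ((2 * (j + 1) ^ 2 + 3 * (j + 1)) + (2 * (j + 1) + 2)) := by
      rw [Finset.prod_range_succ, prod_odd, ua_odd]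
      calc (p ^ f + 1) * (∏ i ∈ Finset.range (j + 1), (ua (p ^ f) (2 * i + 1) * ua (p ^ f) (2 * i + 2))) *
            ((p ^ f) ^ (2 * (j + 1) + 2) - 1)
          = (p ^ f + 1) * ((∏ i ∈ Finset.range (j + 1), (ua (p ^ f) (2 * i + 1) * ua (p ^ f) (2 * i + 2))) *
            ((p ^ f) ^ (2 * (j + 1) + 2) - 1)) := by rw [mul_assoc]
        _ < (p ^ f + 1) * ((p ^ f) ^ (2 * (j + 1) ^ 2 + 3 * (j + 1)) * (p ^ f) ^ (2 * (j + 1) + 2)) :=
            Nat.mul_lt_mul_of_pos_left (Nat.mul_lt_mul'' (pairs_lt h2 j) (pow_sub_one_lt h1 _)) (by omega)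
        _ = (1 * (p ^ f + 1)) * (p ^ f) ^ ((2 * (j + 1) ^ 2 + 3 * (j + 1)) + (2 * (j + 1) + 2)) := by
            rw [one_mul, ← pow_add]
        _ ≤ _ := Nat.mul_le_mul_right _ (Nat.mul_le_mul_right _ hgcd)
    refine card_bounds (p := p) (f := f) hp hpd hM hg' hMe ?_ ?_
    · rw [hN]; nlinarith [Nat.zero_le j, Nat.zero_le (j * j)]
    · rw [hN]; nlinarith [Nat.zero_le j, Nat.zero_le (j * j)]

end Cfsg.Agent.Lib.Helper50.LieBoundPSU
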