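import Cfsg.Agent.Lib.Helper44.O7.Defs

/-!
# S2647 project (helper44), module [ABEL]: `E0` is the unique abelian subgroup of order `64` of `S0 = 2^6 : D₈`
-/

set_option autoImplicit false
set_option linter.unusedSectionVars false

namespace Cfsg.Agent.Lib.Helper50.O7

open Matrix Cfsg.Agent.Lib.Helper44 Cfsg.Agent.Lib.Helper44.O7

/-! ### sign vectors -/

theorem card_signs : Nat.card (Fin 7 → ℤˣ) = 128 := by
  rw [Nat.card_eq_fintype_card, Fintype.card_fun, Fintype.card_units_int, Fintype.card_fin]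
  norm_num

theorem card_evenSign : Nat.card evenSign = 64 := by
  have h1 : Nat.card prodHom.ker * Nat.card prodHom.range = Nat.card (Fin 7 → ℤˣ) := by
    rw [← Subgroup.index_ker]
    exact Subgroup.card_mul_index prodHom.ker
  have h2 : prodHom.range = ⊤ := by
    rw [MonoidHom.range_eq_top]
    intro u
    refine ⟨fun k => if k = 0 then u else 1, ?_⟩
    rw [prodHom_apply, Fin.prod_univ_seven]
    simp
  have h3 : Nat.card (⊤ : Subgroup ℤˣ) = 2 := by
    rw [Subgroup.card_top, Nat.card_eq_fintype_card, Fintype.card_units_int]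
  rw [h2, h3, card_signs] at h1
  show Nat.card prodHom.ker = 64
  omega

/-- a sign vector is determined by its first six entries and the product of all entries -/
theorem ext7 {ε ε' : Fin 7 → ℤˣ} (hp : ∏ k, ε k = 1) (hp' : ∏ k, ε' k = 1)
    (h0 : ε 0 = ε' 0) (h1 : ε 1 = ε' 1) (h2 : ε 2 = ε' 2) (h3 : ε 3 = ε' 3) (h4 : ε 4 = ε' 4)
    (h5 : ε 5 = ε' 5) : ε = ε' := by
  rw [Fin.prod_univ_seven] at hp hp'
  have h6 : ε 6 = ε' 6 := by
    rw [eq_inv_of_mul_eq_one_right hp, eq_inv_of_mul_eq_one_right hp', h0, h1, h2, h3, h4, h5]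
  funext k
  fin_cases k <;> assumption

/-- one step of propagation along an invariance -/
theorem step {ε ε' : Fin 7 → ℤˣ} {σ : Equiv.Perm (Fin 7)} (hi : ∀ k, ε (σ⁻¹ k) = ε k)
    (hi' : ∀ k, ε' (σ⁻¹ k) = ε' k) (k j : Fin 7) (hj : σ⁻¹ k = j) (h : ε j = ε' j) : ε k = ε' k := by
  rw [← hi k, ← hi' k, hj]; exact h

theorem det_aP {ε ε' : Fin 7 → ℤˣ} (hp : ∏ k, ε k = 1) (hp' : ∏ k, ε' k = 1)
    (hi : ∀ k, ε (aP⁻¹ k) = ε k) (hi' : ∀ k, ε' (aP⁻¹ k) = ε' k)
    (h0 : ε 0 = ε' 0) (h4 : ε 4 = ε' 4) : ε = ε' := by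
  have h1 := step hi hi' 1 0 rfl h0
  have h2 := step hi hi' 2 1 rfl h1
  have h3 := step hi hi' 3 2 rfl h2
  have h5 := step hi hi' 5 4 rfl h4
  exact ext7 hp hp' h0 h1 h2 h3 h4 h5

theorem det_a2P {ε ε' : Fin 7 → ℤˣ} (hp : ∏ k, ε k = 1) (hp' : ∏ k, ε' k = 1)
    (hi : ∀ k, ε (a2P⁻¹ k) = ε k) (hi' : ∀ k, ε' (a2P⁻¹ k) = ε' k)
    (h0 : ε 0 = ε' 0) (h1 : ε 1 = ε' 1) (h4 : ε 4 = ε' 4) (h5 : ε 5 = ε' 5) : ε = ε' :=
  ext7 hp hp' h0 h1 (step hi hi' 2 0 rfl h0) (step hi hi' 3 1 rfl h1) h4 h5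

theorem det_bP {ε ε' : Fin 7 → ℤˣ} (hp : ∏ k, ε k = 1) (hp' : ∏ k, ε' k = 1)
    (hi : ∀ k, ε (bP⁻¹ k) = ε k) (hi' : ∀ k, ε' (bP⁻¹ k) = ε' k)
    (h0 : ε 0 = ε' 0) (h1 : ε 1 = ε' 1) (h3 : ε 3 = ε' 3) (h4 : ε 4 = ε' 4) : ε = ε' :=
  ext7 hp hp' h0 h1 (step hi hi' 2 0 rfl h0) h3 h4 (step hi hi' 5 4 rfl h4)

theorem det_b2P {ε ε' : Fin 7 → ℤˣ} (hp : ∏ k, ε k = 1) (hp' : ∏ k, ε' k = 1)
    (hi : ∀ k, ε (b2P⁻¹ k) = ε k) (hi' : ∀ k, ε' (b2P⁻¹ k) = ε' k)
    (h0 : ε 0 = ε' 0) (h1 : ε 1 = ε' 1) (h2 : ε 2 = ε' 2) (h4 : ε 4 = ε' 4) : ε = ε' :=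
  ext7 hp hp' h0 h1 h2 (step hi hi' 3 1 rfl h1) h4 (step hi hi' 5 4 rfl h4)

theorem det_tP {ε ε' : Fin 7 → ℤˣ} (hp : ∏ k, ε k = 1) (hp' : ∏ k, ε' k = 1)
    (hi : ∀ k, ε (tP⁻¹ k) = ε k) (hi' : ∀ k, ε' (tP⁻¹ k) = ε' k)
    (h0 : ε 0 = ε' 0) (h2 : ε 2 = ε' 2) (h4 : ε 4 = ε' 4) (h5 : ε 5 = ε' 5) : ε = ε' :=
  ext7 hp hp' h0 (step hi hi' 1 0 rfl h0) h2 (step hi hi' 3 2 rfl h2) h4 h5

theorem det_t2P {ε ε' : Fin 7 → ℤˣ} (hp : ∏ k, ε k = 1) (hp' : ∏ k, ε' k = 1)
    (hi : ∀ k, ε (t2P⁻¹ k) = ε k) (hi' : ∀ k, ε' (t2P⁻¹ k) = ε' k)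
    (h0 : ε 0 = ε' 0) (h1 : ε 1 = ε' 1) (h4 : ε 4 = ε' 4) (h5 : ε 5 = ε' 5) : ε = ε' :=
  ext7 hp hp' h0 h1 (step hi hi' 2 1 rfl h1) (step hi hi' 3 0 rfl h0) h4 h5

theorem det_a2P_bP {ε ε' : Fin 7 → ℤˣ} (hp : ∏ k, ε k = 1) (hp' : ∏ k, ε' k = 1)
    (hi : ∀ k, ε (a2P⁻¹ k) = ε k) (hi' : ∀ k, ε' (a2P⁻¹ k) = ε' k)
    (hj : ∀ k, ε (bP⁻¹ k) = ε k) (hj' : ∀ k, ε' (bP⁻¹ k) = ε' k)
    (h0 : ε 0 = ε' 0) (h1 : ε 1 = ε' 1) (h4 : ε 4 = ε' 4) : ε = ε' :=
  ext7 hp hp' h0 h1 (step hi hi' 2 0 rfl h0) (step hi hi' 3 1 rfl h1) h4 (step hj hj' 5 4 rfl h4)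

theorem det_a2P_tP {ε ε' : Fin 7 → ℤˣ} (hp : ∏ k, ε k = 1) (hp' : ∏ k, ε' k = 1)
    (hi : ∀ k, ε (a2P⁻¹ k) = ε k) (hi' : ∀ k, ε' (a2P⁻¹ k) = ε' k)
    (hj : ∀ k, ε (tP⁻¹ k) = ε k) (hj' : ∀ k, ε' (tP⁻¹ k) = ε' k)
    (h0 : ε 0 = ε' 0) (h4 : ε 4 = ε' 4) (h5 : ε 5 = ε' 5) : ε = ε' := by
  have h1 := step hj hj' 1 0 rfl h0
  exact ext7 hp hp' h0 h1 (step hi hi' 2 0 rfl h0) (step hi hi' 3 1 rfl h1) h4 h5

/-! ### facts on `d8` -/

/-- the four reflections -/
def IsRefl (r : Equiv.Perm (Fin 7)) : Prop := r = bP ∨ r = b2P ∨ r = tP ∨ r = t2P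

set_option maxRecDepth 100000 in
theorem refl_mul {r r' : Equiv.Perm (Fin 7)} (hr : IsRefl r) (hr' : IsRefl r') (hne : r ≠ r') :
    r * r' = aP ∨ r * r' = a3P ∨ r * r' = a2P := by
  rcases hr with rfl | rfl | rfl | rfl <;> rcases hr' with rfl | rfl | rfl | rfl <;>
    first
    | exact absurd rfl hne
    | decide

set_option maxRecDepth 100000 in
theorem a2P_mul_b2P : a2P * b2P = bP := by decide

set_option maxRecDepth 100000 in
theorem a2P_mul_t2P : a2P * t2P = tP := by decide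

set_option maxRecDepth 100000 in
theorem a3P_inv : a3P⁻¹ = aP := by decide

theorem card_d8_le : Nat.card d8 ≤ 8 := by
  classical
  have h1 : Nat.card d8 = Nat.card {σ // σ ∈ d8list.toFinset} :=
    Nat.card_congr (Equiv.subtypeEquivRight (fun σ => by rw [List.mem_toFinset]; exact Iff.rfl))
  rw [h1, Nat.card_eq_fintype_card, Fintype.card_coe]
  exact (List.toFinset_card_le _).trans (by simp [d8list])

theorem card_le_of_injective' {X : Type*} {Y : Type*} [Fintype Y] (f : X → Y)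
    (hf : Function.Injective f) : Nat.card X ≤ Fintype.card Y := by
  rw [← Nat.card_eq_fintype_card]
  exact Nat.card_le_card_of_injective f hf

/-! ### the group part -/

variable {F : Type*} [Field F]

theorem card_E0 (h2 : (2 : F) ≠ 0) (c : F) : Nat.card (E0 c) = 64 := by
  rw [← card_evenSign]
  symm
  refine Nat.card_congr (Equiv.ofBijective
    (fun ε : evenSign => (⟨mon c ε 1, ⟨ε, ε.2, rfl⟩⟩ : E0 c)) ⟨?_, ?_⟩)
  · intro ε ε' h
    have := congrArg Subtype.val h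
    exact Subtype.ext (mon_injective h2 c this).1
  · rintro ⟨g, ε, hε, rfl⟩
    exact ⟨⟨ε, hε⟩, rfl⟩

/-- `E0` is the unique abelian subgroup of order `64` of `S0`. -/
theorem E0_unique_abelian (h2 : (2 : F) ≠ 0) (c : F) (A : Subgroup ↥(OG c)) (hA : A ≤ S0 c)
    (hcomm : ∀ x ∈ A, ∀ y ∈ A, x * y = y * x) (hcard : Nat.card A = 64) : A = E0 c := by
  classical
  have : Finite ↥A := Nat.finite_of_card_ne_zero (by rw [hcard]; norm_num)
  have : Finite ↥(E0 c) := Nat.finite_of_card_ne_zero (by rw [card_E0 h2 c]; norm_num)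
  choose eps heps sg hsg hmon using (fun a : ↥A => hA a.2)
  have hsg_one : sg 1 = 1 := by
    have h1 := hmon 1
    rw [Subgroup.coe_one, ← mon_one c] at h1
    exact (mon_injective h2 c h1).2.symm
  have hsg_mul : ∀ a b, sg (a * b) = sg a * sg b := by
    intro a b
    have h1 := hmon (a * b)
    rw [Subgroup.coe_mul, hmon a, hmon b, mon_mul] at h1
    exact ((mon_injective h2 c h1).2).symm
  obtain ⟨π, hπ⟩ : ∃ π : ↥A →* Equiv.Perm (Fin 7), ∀ a, π a = sg a :=
    ⟨{ toFun := sg, map_one' := hsg_one, map_mul' := hsg_mul }, fun _ => rfl⟩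
  have hKR : Nat.card π.ker * Nat.card π.range = 64 := by
    rw [← Subgroup.index_ker, Subgroup.card_mul_index, hcard]
  have hRd8 : π.range ≤ d8 := by
    rintro _ ⟨a, rfl⟩
    rw [hπ]; exact hsg a
  have hRcard : Nat.card π.range ≤ 8 := (Subgroup.card_le_of_le hRd8).trans card_d8_le
  have hmem_range : ∀ σ, σ ∈ π.range ↔ ∃ b : ↥A, sg b = σ := by
    intro σ
    rw [MonoidHom.mem_range]
    constructor
    · rintro ⟨b, hb⟩; exact ⟨b, by rw [← hπ]; exact hb⟩
    · rintro ⟨b, hb⟩; exact ⟨b, by rw [hπ]; exact hb⟩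
  have hkerE : ∀ a : ↥A, sg a = 1 → (a : ↥(OG c)) = mon c (eps a) 1 := by
    intro a ha
    rw [← ha]; exact hmon a
  -- elements of the kernel are fixed by the permutation parts of the elements of `A`
  have hfix : ∀ a : ↥A, sg a = 1 → ∀ b : ↥A, ∀ k, eps a ((sg b)⁻¹ k) = eps a k := by
    intro a ha b k
    have h1 := hcomm a a.2 b b.2
    rw [hkerE a ha, hmon b, mon_mul, mon_mul] at h1
    have h3 := congrFun (mon_injective h2 c h1).1 k
    simp only [inv_one, Equiv.Perm.coe_one, id_eq] at h3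
    -- `eps a k * eps b k = eps b k * eps a ((sg b)⁻¹ k)`
    rw [mul_comm (eps a k)] at h3
    exact (mul_left_cancel h3).symm
  -- bounding the kernel
  have hbound : ∀ {Y : Type} [Fintype Y] (g : (Fin 7 → ℤˣ) → Y),
      (∀ a a' : ↥A, sg a = 1 → sg a' = 1 → g (eps a) = g (eps a') → eps a = eps a') →
        Nat.card π.ker ≤ Fintype.card Y := by
    intro Y _ g hg
    apply card_le_of_injective' (fun a : π.ker => g (eps (a : ↥A)))
    intro a a' haa
    have ha : sg (a : ↥A) = 1 := by rw [← hπ]; exact a.2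
    have ha' : sg (a' : ↥A) = 1 := by rw [← hπ]; exact a'.2
    have h1 := hg _ _ ha ha' haa
    apply Subtype.ext
    apply Subtype.ext
    rw [hkerE _ ha, hkerE _ ha', h1]
  have hprod : ∀ a : ↥A, ∏ k, eps a k = 1 := fun a => mem_evenSign.1 (heps a)
  -- the cyclic element of order four is not in the range
  have L1 : (∃ b : ↥A, sg b = aP) → False := by
    rintro ⟨b, hb⟩
    have h1 : Nat.card π.ker ≤ Fintype.card (ℤˣ × ℤˣ) := by
      apply hbound (fun ε => (ε 0, ε 4))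
      intro a a' ha ha' hg
      have hi := hfix a ha b
      have hi' := hfix a' ha' b
      rw [hb] at hi hi'
      simp only [Prod.mk.injEq] at hg
      exact det_aP (hprod a) (hprod a') hi hi' hg.1 hg.2
    have h3 : Fintype.card (ℤˣ × ℤˣ) = 4 := by
      rw [Fintype.card_prod, Fintype.card_units_int]
    rw [h3] at h1
    have := Nat.mul_le_mul h1 hRcard
    omega
  have L2 : (∃ b : ↥A, sg b = a3P) → False := by
    rintro ⟨b, hb⟩
    apply L1
    refine ⟨b⁻¹, ?_⟩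
    rw [← hπ, map_inv, hπ, hb, a3P_inv]
  have hcard16 : Fintype.card (ℤˣ × ℤˣ × ℤˣ × ℤˣ) = 16 := by
    simp only [Fintype.card_prod, Fintype.card_units_int]
  have hcard8 : Fintype.card (ℤˣ × ℤˣ × ℤˣ) = 8 := by
    simp only [Fintype.card_prod, Fintype.card_units_int]
  -- a kernel of order at most 8 is impossible
  have Lfull : Nat.card π.ker ≤ 8 → False := by
    intro hk
    have h1 : 8 ≤ Nat.card π.range := by
      by_contra hcon
      push Not at hcon
      have : Nat.card π.ker * Nat.card π.range ≤ 8 * 7 := Nat.mul_le_mul hk (by omega)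
      omega
    have h3 : π.range = d8 := Subgroup.eq_of_le_of_card_ge hRd8 (card_d8_le.trans h1)
    apply L1
    rw [← hmem_range, h3, mem_d8]
    right; left; rfl
  have Lpair1 : (∃ b : ↥A, sg b = a2P) → (∃ b : ↥A, sg b = bP) → False := by
    rintro ⟨b, hb⟩ ⟨b', hb'⟩
    apply Lfull
    rw [← hcard8]
    apply hbound (fun ε => (ε 0, ε 1, ε 4))
    intro a a' ha ha' hg
    have hi := hfix a ha b
    have hi' := hfix a' ha' b
    have hj := hfix a ha b'
    have hj' := hfix a' ha' b'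
    rw [hb] at hi hi'
    rw [hb'] at hj hj'
    simp only [Prod.mk.injEq] at hg
    exact det_a2P_bP (hprod a) (hprod a') hi hi' hj hj' hg.1 hg.2.1 hg.2.2
  have Lpair2 : (∃ b : ↥A, sg b = a2P) → (∃ b : ↥A, sg b = tP) → False := by
    rintro ⟨b, hb⟩ ⟨b', hb'⟩
    apply Lfull
    rw [← hcard8]
    apply hbound (fun ε => (ε 0, ε 4, ε 5))
    intro a a' ha ha' hg
    have hi := hfix a ha b
    have hi' := hfix a' ha' b
    have hj := hfix a ha b'
    have hj' := hfix a' ha' b'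
    rw [hb] at hi hi'
    rw [hb'] at hj hj'
    simp only [Prod.mk.injEq] at hg
    exact det_a2P_tP (hprod a) (hprod a') hi hi' hj hj' hg.1 hg.2.1 hg.2.2
  have hInR_mul : ∀ σ τ, (∃ b : ↥A, sg b = σ) → (∃ b : ↥A, sg b = τ) → ∃ b : ↥A, sg b = σ * τ := by
    rintro σ τ ⟨b, hb⟩ ⟨b', hb'⟩
    exact ⟨b * b', by rw [hsg_mul, hb, hb']⟩
  have key : (∃ b : ↥A, sg b = a2P) → ∀ r, (∃ b : ↥A, sg b = r) → IsRefl r → False := by
    intro hz r hr hrefl
    rcases hrefl with rfl | rfl | rfl | rfl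
    · exact Lpair1 hz hr
    · exact Lpair1 hz (a2P_mul_b2P ▸ hInR_mul _ _ hz hr)
    · exact Lpair2 hz hr
    · exact Lpair2 hz (a2P_mul_t2P ▸ hInR_mul _ _ hz hr)
  -- a range inside `{1, x}` has at most two elements
  have hsmall : ∀ x : Equiv.Perm (Fin 7), (∀ σ, (∃ b : ↥A, sg b = σ) → σ = 1 ∨ σ = x) →
      Nat.card π.range ≤ 2 := by
    intro x hx
    have h1 : (π.range : Set (Equiv.Perm (Fin 7))) ⊆ {1, x} := by
      intro σ hσ
      rcases hx σ ((hmem_range σ).1 hσ) with h | h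
      · left; exact h
      · right; exact h
    have h3 : Nat.card π.range = Set.ncard (π.range : Set (Equiv.Perm (Fin 7))) := by
      rw [← Nat.card_coe_set_eq]; rfl
    rw [h3]
    refine (Set.ncard_le_ncard h1 (Set.toFinite _)).trans ?_
    refine (Set.ncard_insert_le 1 {x}).trans ?_
    rw [Set.ncard_singleton]
  -- the main case distinction
  by_cases htriv : ∀ b : ↥A, sg b = 1
  · apply Subgroup.eq_of_le_of_card_ge
    · intro a ha
      refine ⟨eps ⟨a, ha⟩, heps ⟨a, ha⟩, ?_⟩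
      exact hkerE ⟨a, ha⟩ (htriv ⟨a, ha⟩)
    · rw [hcard, card_E0 h2 c]
  · exfalso
    push Not at htriv
    obtain ⟨b₀, hb₀⟩ := htriv
    -- the kernel has order at most 16
    have hk16 : Nat.card π.ker ≤ 16 := by
      have hd := hsg b₀
      rw [mem_d8] at hd
      rcases hd with h | h | h | h | h | h | h | h
      · exact absurd h hb₀
      · exact absurd ⟨b₀, h⟩ L1
      · rw [← hcard16]
        apply hbound (fun ε => (ε 0, ε 1, ε 4, ε 5))
        intro a a' ha ha' hg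
        have hi := hfix a ha b₀
        have hi' := hfix a' ha' b₀
        rw [h] at hi hi'
        simp only [Prod.mk.injEq] at hg
        exact det_a2P (hprod a) (hprod a') hi hi' hg.1 hg.2.1 hg.2.2.1 hg.2.2.2
      · exact absurd ⟨b₀, h⟩ L2
      · rw [← hcard16]
        apply hbound (fun ε => (ε 0, ε 1, ε 3, ε 4))
        intro a a' ha ha' hg
        have hi := hfix a ha b₀
        have hi' := hfix a' ha' b₀
        rw [h] at hi hi'
        simp only [Prod.mk.injEq] at hg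
        exact det_bP (hprod a) (hprod a') hi hi' hg.1 hg.2.1 hg.2.2.1 hg.2.2.2
      · rw [← hcard16]
        apply hbound (fun ε => (ε 0, ε 1, ε 2, ε 4))
        intro a a' ha ha' hg
        have hi := hfix a ha b₀
        have hi' := hfix a' ha' b₀
        rw [h] at hi hi'
        simp only [Prod.mk.injEq] at hg
        exact det_b2P (hprod a) (hprod a') hi hi' hg.1 hg.2.1 hg.2.2.1 hg.2.2.2
      · rw [← hcard16]
        apply hbound (fun ε => (ε 0, ε 2, ε 4, ε 5))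
        intro a a' ha ha' hg
        have hi := hfix a ha b₀
        have hi' := hfix a' ha' b₀
        rw [h] at hi hi'
        simp only [Prod.mk.injEq] at hg
        exact det_tP (hprod a) (hprod a') hi hi' hg.1 hg.2.1 hg.2.2.1 hg.2.2.2
      · rw [← hcard16]
        apply hbound (fun ε => (ε 0, ε 1, ε 4, ε 5))
        intro a a' ha ha' hg
        have hi := hfix a ha b₀
        have hi' := hfix a' ha' b₀
        rw [h] at hi hi'
        simp only [Prod.mk.injEq] at hg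
        exact det_t2P (hprod a) (hprod a') hi hi' hg.1 hg.2.1 hg.2.2.1 hg.2.2.2
    have hR4 : 4 ≤ Nat.card π.range := by
      by_contra hcon
      push Not at hcon
      have : Nat.card π.ker * Nat.card π.range ≤ 16 * 3 := Nat.mul_le_mul hk16 (by omega)
      omega
    -- a reflection in the range
    obtain ⟨r, hrR, hr1, hrz⟩ : ∃ r, (∃ b : ↥A, sg b = r) ∧ r ≠ 1 ∧ r ≠ a2P := by
      by_contra hcon
      push Not at hcon
      have := hsmall a2P (fun σ hσ => by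
        by_cases h1 : σ = 1
        · left; exact h1
        · right; exact hcon σ hσ h1)
      omega
    have hrd8 : r ∈ d8 := by
      obtain ⟨b, hb⟩ := hrR
      rw [← hb]; exact hsg b
    have hrrefl : IsRefl r := by
      rw [mem_d8] at hrd8
      rcases hrd8 with h | h | h | h | h | h | h | h
      · exact absurd h hr1
      · exact absurd (h ▸ hrR) L1
      · exact absurd h hrz
      · exact absurd (h ▸ hrR) L2
      · exact Or.inl h
      · exact Or.inr (Or.inl h)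
      · exact Or.inr (Or.inr (Or.inl h))
      · exact Or.inr (Or.inr (Or.inr h))
    -- a further element
    obtain ⟨r', hr'R, hr'1, hr'r⟩ : ∃ r', (∃ b : ↥A, sg b = r') ∧ r' ≠ 1 ∧ r' ≠ r := by
      by_contra hcon
      push Not at hcon
      have := hsmall r (fun σ hσ => by
        by_cases h1 : σ = 1
        · left; exact h1
        · right; exact hcon σ hσ h1)
      omega
    have hr'd8 : r' ∈ d8 := by
      obtain ⟨b, hb⟩ := hr'R
      rw [← hb]; exact hsg b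
    have hcases : r' = a2P ∨ IsRefl r' := by
      rw [mem_d8] at hr'd8
      rcases hr'd8 with h | h | h | h | h | h | h | h
      · exact absurd h hr'1
      · exact absurd (h ▸ hr'R) L1
      · exact Or.inl h
      · exact absurd (h ▸ hr'R) L2
      · exact Or.inr (Or.inl h)
      · exact Or.inr (Or.inr (Or.inl h))
      · exact Or.inr (Or.inr (Or.inr (Or.inl h)))
      · exact Or.inr (Or.inr (Or.inr (Or.inr h)))
    rcases hcases with h | h
    · exact key (h ▸ hr'R) r hrR hrrefl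
    · have hm := hInR_mul r r' hrR hr'R
      rcases refl_mul hrrefl h (Ne.symm hr'r) with h3 | h3 | h3
      · exact L1 (h3 ▸ hm)
      · exact L2 (h3 ▸ hm)
      · exact key (h3 ▸ hm) r hrR hrrefl

end Cfsg.Agent.Lib.Helper50.O7
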