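import Mathlib

/-!
# BG Appendix C, Step 4 (S1472): the `K`-lemma

`K = Q ⋊ ⟨s⟩`, `Q` abelian of order prime to `p`, `s ^ p = 1`, `s` normalizes `Q`, `y ∈ Q`,
`t := y * s * y⁻¹`.  A "pure `K`-relation"
`t⁻² * s ^ k1 * t = s ^ k2 * t⁻¹ * s ^ k3` forces `t ^ k1 * s ^ (1 - k1) * t ^ k2 = s ^ (k2 + 1)`
(`k_lemma`), and `t ^ k * s ^ (-k)` commuting with `s` forces `t ^ k = s ^ k` (`q_comm`).

Abstract part: an automorphism `ζ` of order dividing `p` of a commutative group `A` of order prime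
to `p`; `Nm x = ∏ i < p, ζ ^ i x`; an element fixed by `ζ` and of norm `1` is trivial.
-/

set_option autoImplicit false

namespace Cfsg.Agent.Lib.Helper50.AppCKLemma

open scoped IsMulCommutative

section abstract

variable {A : Type*} [CommGroup A]

/-- The norm of `x` under the automorphism `ζ` ("of order `p`"). -/
noncomputable def Nm (ζ : MulAut A) (p : ℕ) (x : A) : A := ∏ i ∈ Finset.range p, (ζ ^ i) x

theorem Nm_mul (ζ : MulAut A) (p : ℕ) (x y : A) : Nm ζ p (x * y) = Nm ζ p x * Nm ζ p y := by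
  simp [Nm, Finset.prod_mul_distrib]

theorem Nm_inv (ζ : MulAut A) (p : ℕ) (x : A) : Nm ζ p x⁻¹ = (Nm ζ p x)⁻¹ := by
  simp [Nm, Finset.prod_inv_distrib]

theorem Nm_apply (ζ : MulAut A) (p : ℕ) (hζ : ζ ^ p = 1) (x : A) : Nm ζ p (ζ x) = Nm ζ p x := by
  unfold Nm
  have h1 : ∀ i : ℕ, (ζ ^ i) (ζ x) = (ζ ^ (i + 1)) x := fun i => by
    rw [pow_succ]; rfl
  simp_rw [h1]
  have h2 := Finset.prod_range_succ' (fun i => (ζ ^ i) x) p
  have h3 := Finset.prod_range_succ (fun i => (ζ ^ i) x) p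
  rw [h2] at h3
  simp only [hζ, pow_zero, MulAut.one_apply] at h3
  exact mul_right_cancel h3

theorem Nm_zpow (ζ : MulAut A) (p : ℕ) (hζ : ζ ^ p = 1) (i : ℤ) (x : A) :
    Nm ζ p ((ζ ^ i) x) = Nm ζ p x := by
  induction i using Int.induction_on generalizing x with
  | zero => simp
  | succ n ih =>
    rw [zpow_add_one, MulAut.mul_apply, ih, Nm_apply ζ p hζ]
  | pred n ih =>
    have h := Nm_apply ζ p hζ ((ζ ^ (-(n : ℤ) - 1)) x)
    rw [← MulAut.mul_apply, ← zpow_one_add] at h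
    rw [← h]
    have : (1 : ℤ) + (-(n : ℤ) - 1) = -(n : ℤ) := by ring
    rw [this, ih]

theorem Nm_of_fixed (ζ : MulAut A) (p : ℕ) (x : A) (hx : ζ x = x) : Nm ζ p x = x ^ p := by
  have h : ∀ i : ℕ, (ζ ^ i) x = x := by
    intro i
    induction i with
    | zero => simp
    | succ n ih => rw [pow_succ, MulAut.mul_apply, hx, ih]
  simp [Nm, h]

/-- An element fixed by `ζ` and of norm `1` is trivial. -/
theorem eq_one_of_fixed_of_Nm (ζ : MulAut A) (p : ℕ) (hcop : (Nat.card A).Coprime p)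
    (x : A) (hx : ζ x = x) (hN : Nm ζ p x = 1) : x = 1 := by
  rw [Nm_of_fixed ζ p x hx] at hN
  have h1 : orderOf x ∣ p := orderOf_dvd_of_pow_eq_one hN
  have h2 : orderOf x ∣ Nat.card A := orderOf_dvd_natCard x
  have h3 : orderOf x ∣ 1 := by
    have := Nat.dvd_gcd h2 h1
    rwa [hcop] at this
  exact orderOf_eq_one_iff.mp (Nat.dvd_one.mp h3)

/-- commutative-group bookkeeping -/
theorem comm_identity (a0 a1 a2 b b1 c1 c2 : A)
    (h : a2 * a0⁻¹ * b * b1⁻¹ = c2 * c1⁻¹) :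
    a1 * b1⁻¹ * a2 * c2⁻¹ = a0 * b⁻¹ * a1 * c1⁻¹ := by
  have e : c2 = a2 * a0⁻¹ * b * b1⁻¹ * c1 := by rw [h]; simp
  rw [e]
  simp only [mul_inv_rev, inv_inv]
  have key : ∀ {B : Type _} [AddCommGroup B] (a0 a1 a2 b b1 c1 : B),
      a1 + -b1 + a2 + (-c1 + (b1 + (-b + (a0 + -a2)))) = a0 + -b + a1 + -c1 := by
    intro B _ a0 a1 a2 b b1 c1
    abel
  exact key (B := Additive A) (Additive.ofMul a0) (Additive.ofMul a1) (Additive.ofMul a2)
    (Additive.ofMul b) (Additive.ofMul b1) (Additive.ofMul c1)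

/-- The abstract `K`-lemma. -/
theorem abs_k_lemma (ζ : MulAut A) (p : ℕ) (hζ : ζ ^ p = 1) (hcop : (Nat.card A).Coprime p)
    (Y : A) (k1 k2 : ℤ)
    (h : Y * ((ζ ^ (-2 : ℤ)) Y)⁻¹ * (ζ ^ (k1 - 2)) Y * ((ζ ^ (k1 - 1)) Y)⁻¹
      = (ζ ^ k2) Y * ((ζ ^ (k2 - 1)) Y)⁻¹) :
    Y * ((ζ ^ k1) Y)⁻¹ * (ζ ^ (1 : ℤ)) Y * ((ζ ^ (k2 + 1)) Y)⁻¹ = 1 := by
  apply eq_one_of_fixed_of_Nm ζ p hcop
  · -- fixed
    have h2 := congrArg (ζ ^ (2 : ℤ)) h
    simp only [map_mul, map_inv, ← MulAut.mul_apply, ← zpow_add] at h2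
    have e1 : (2 : ℤ) + -2 = 0 := by ring
    have e2 : (2 : ℤ) + (k1 - 2) = k1 := by ring
    have e3 : (2 : ℤ) + (k1 - 1) = k1 + 1 := by ring
    have e4 : (2 : ℤ) + (k2 - 1) = k2 + 1 := by ring
    have e5 : (2 : ℤ) + k2 = k2 + 2 := by ring
    rw [e1, e2, e3, e4, e5, zpow_zero, MulAut.one_apply] at h2
    have h3 := comm_identity Y ((ζ ^ (1 : ℤ)) Y) ((ζ ^ (2 : ℤ)) Y) ((ζ ^ k1) Y)
      ((ζ ^ (k1 + 1)) Y) ((ζ ^ (k2 + 1)) Y) ((ζ ^ (k2 + 2)) Y) h2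
    have hz : ∀ (i : ℤ) (x : A), ζ ((ζ ^ i) x) = (ζ ^ (i + 1)) x := by
      intro i x
      rw [add_comm i 1, zpow_add, zpow_one, MulAut.mul_apply]
    simp only [map_mul, map_inv, hz]
    have e6 : (1 : ℤ) + 1 = 2 := by ring
    have e7 : k2 + 1 + 1 = k2 + 2 := by ring
    have e8 : ζ Y = (ζ ^ (1 : ℤ)) Y := by simp
    rw [e6, e7, e8]
    exact h3
  · simp only [Nm_mul, Nm_inv, Nm_zpow ζ p hζ]
    simp

/-- `Y * (ζ ^ k Y)⁻¹` fixed by `ζ` is trivial. -/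
theorem abs_q_fixed (ζ : MulAut A) (p : ℕ) (hζ : ζ ^ p = 1) (hcop : (Nat.card A).Coprime p)
    (Y : A) (k : ℤ) (h : ζ (Y * ((ζ ^ k) Y)⁻¹) = Y * ((ζ ^ k) Y)⁻¹) :
    Y * ((ζ ^ k) Y)⁻¹ = 1 := by
  apply eq_one_of_fixed_of_Nm ζ p hcop _ h
  simp only [Nm_mul, Nm_inv, Nm_zpow ζ p hζ]
  simp

end abstract

section concrete

variable {G : Type*} [Group G]

/-- Conjugation by `s ∈ N(Q)` as an automorphism of `Q`. -/
def conjAut (Q : Subgroup G) (s : G) (hs : s ∈ Subgroup.normalizer (Q : Set G)) : MulAut Q where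
  toFun m := ⟨s * m * s⁻¹, (Subgroup.mem_normalizer_iff.mp hs m).mp m.2⟩
  invFun m := ⟨s⁻¹ * m * s, by
    have := (Subgroup.mem_normalizer_iff.mp (inv_mem hs) m).mp m.2
    simpa using this⟩
  left_inv m := by ext; simp [mul_assoc]
  right_inv m := by ext; simp [mul_assoc]
  map_mul' a b := by ext; simp [mul_assoc]

theorem coe_conjAut (Q : Subgroup G) (s : G) (hs : s ∈ Subgroup.normalizer (Q : Set G)) (m : Q) :
    ((conjAut Q s hs m : Q) : G) = s * m * s⁻¹ := rfl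

theorem coe_conjAut_inv (Q : Subgroup G) (s : G) (hs : s ∈ Subgroup.normalizer (Q : Set G))
    (m : Q) : (((conjAut Q s hs)⁻¹ m : Q) : G) = s⁻¹ * m * s := rfl

theorem coe_conjAut_zpow (Q : Subgroup G) (s : G) (hs : s ∈ Subgroup.normalizer (Q : Set G))
    (i : ℤ) (m : Q) : ((((conjAut Q s hs) ^ i) m : Q) : G) = s ^ i * m * s ^ (-i) := by
  induction i using Int.induction_on generalizing m with
  | zero => simp
  | succ n ih =>
    rw [zpow_add_one, MulAut.mul_apply, ih, coe_conjAut]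
    group
  | pred n ih =>
    rw [zpow_sub_one, MulAut.mul_apply, ih, coe_conjAut_inv]
    group

theorem conjAut_pow (Q : Subgroup G) (s : G) (hs : s ∈ Subgroup.normalizer (Q : Set G))
    (p : ℕ) (hsp : s ^ p = 1) : (conjAut Q s hs) ^ p = 1 := by
  ext m
  have h := coe_conjAut_zpow Q s hs (p : ℤ) m
  rw [zpow_natCast] at h
  rw [h, zpow_neg, zpow_natCast, hsp]
  simp

/-- An element of `Q` killed by `p` is trivial. -/
theorem eq_one_of_mem_of_pow (p : ℕ) (Q : Subgroup G) (hQp : (Nat.card Q).Coprime p)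
    (z : G) (hz : z ∈ Q) (hzp : z ^ p = 1) : z = 1 := by
  have h1 : orderOf z ∣ p := orderOf_dvd_of_pow_eq_one hzp
  have h2 : orderOf z ∣ Nat.card Q := by
    have := orderOf_dvd_natCard (⟨z, hz⟩ : Q)
    rwa [Subgroup.orderOf_mk] at this
  have h3 : orderOf z ∣ 1 := by
    have := Nat.dvd_gcd h2 h1
    rwa [hQp] at this
  exact orderOf_eq_one_iff.mp (Nat.dvd_one.mp h3)

/-- **The `K`-lemma** (BG Appendix C, Step 4): in `K = Q⟨s⟩`, `Q` abelian of order prime to `p`,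
`s ^ p = 1`, `t = y * s * y⁻¹` with `y ∈ Q`, a relation `t⁻² s^k1 t = s^k2 t⁻¹ s^k3` forces
`t^k1 s^(1-k1) t^k2 = s^(k2+1)` (i.e. `q_{k1} = s q_{k2}⁻¹ s⁻¹` where `q_i = t^i s^(-i)`). -/
theorem k_lemma (p : ℕ) (Q : Subgroup G) [IsMulCommutative Q] (hQp : (Nat.card Q).Coprime p)
    (s y t : G) (hs : s ∈ Subgroup.normalizer (Q : Set G)) (hsp : s ^ p = 1) (hy : y ∈ Q)
    (ht : t = y * s * y⁻¹) (k1 k2 k3 : ℤ)
    (hrel : t ^ (-2 : ℤ) * s ^ k1 * t = s ^ k2 * t ^ (-1 : ℤ) * s ^ k3) :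
    t ^ k1 * s ^ (1 - k1) * t ^ k2 = s ^ (k2 + 1) := by
  subst ht
  set ζ := conjAut Q s hs with hζdef
  have hζ : ζ ^ p = 1 := conjAut_pow Q s hs p hsp
  set Y : Q := ⟨y, hy⟩ with hY
  have hc : ∀ i : ℤ, (((ζ ^ i) Y : Q) : G) = s ^ i * y * s ^ (-i) :=
    fun i => coe_conjAut_zpow Q s hs i Y
  have hYc : (Y : G) = y := rfl
  set AQ : Q := Y * ((ζ ^ (-2 : ℤ)) Y)⁻¹ * (ζ ^ (k1 - 2)) Y * ((ζ ^ (k1 - 1)) Y)⁻¹ with hAQ
  set BQ : Q := (ζ ^ k2) Y * ((ζ ^ (k2 - 1)) Y)⁻¹ with hBQ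
  have hA : (AQ : G) * s ^ (k1 - 1) = (y * s * y⁻¹) ^ (-2 : ℤ) * s ^ k1 * (y * s * y⁻¹) := by
    rw [hAQ, conj_zpow]
    simp only [Subgroup.coe_mul, Subgroup.coe_inv, hc, hYc]
    group
  have hB : (BQ : G) * s ^ (k2 + k3 - 1) = s ^ k2 * (y * s * y⁻¹) ^ (-1 : ℤ) * s ^ k3 := by
    rw [hBQ, conj_zpow]
    simp only [Subgroup.coe_mul, Subgroup.coe_inv, hc]
    group
  have hAB : (AQ : G) * s ^ (k1 - 1) = (BQ : G) * s ^ (k2 + k3 - 1) := by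
    rw [hA, hB, hrel]
  -- the `s`-exponents agree
  have hz : s ^ (k2 + k3 - 1 - (k1 - 1)) = 1 := by
    apply eq_one_of_mem_of_pow p Q hQp
    · have : s ^ (k2 + k3 - 1 - (k1 - 1)) = ((BQ⁻¹ * AQ : Q) : G) := by
        rw [Subgroup.coe_mul, Subgroup.coe_inv, zpow_sub]
        rw [eq_comm, inv_mul_eq_iff_eq_mul, ← mul_assoc, eq_mul_inv_iff_mul_eq]
        exact hAB
      rw [this]
      exact (BQ⁻¹ * AQ).2
    · rw [← zpow_natCast, ← zpow_mul, mul_comm, zpow_mul, zpow_natCast, hsp, one_zpow]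
  have hABQ : AQ = BQ := by
    apply Subtype.ext
    have h1 : s ^ (k2 + k3 - 1) = s ^ (k1 - 1) := by
      rw [zpow_sub] at hz
      exact mul_inv_eq_one.mp hz
    rw [h1] at hAB
    exact mul_right_cancel hAB
  have hNN := abs_k_lemma ζ p hζ hQp Y k1 k2 hABQ
  have hNNG := congrArg (Subtype.val) hNN
  simp only [Subgroup.coe_mul, Subgroup.coe_inv, hc, hYc, Subgroup.coe_one] at hNNG
  rw [conj_zpow, conj_zpow]
  calc y * s ^ k1 * y⁻¹ * s ^ (1 - k1) * (y * s ^ k2 * y⁻¹)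
      = (y * (s ^ k1 * y * s ^ (-k1))⁻¹ * (s ^ (1 : ℤ) * y * s ^ (-1 : ℤ)) *
          (s ^ (k2 + 1) * y * s ^ (-(k2 + 1)))⁻¹) * s ^ (k2 + 1) := by group
    _ = s ^ (k2 + 1) := by rw [hNNG, one_mul]

/-- If `q_k = t^k s^(-k)` commutes with `s` then `t^k = s^k`. -/
theorem q_comm (p : ℕ) (Q : Subgroup G) [IsMulCommutative Q] (hQp : (Nat.card Q).Coprime p)
    (s y t : G) (hs : s ∈ Subgroup.normalizer (Q : Set G)) (hsp : s ^ p = 1) (hy : y ∈ Q)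
    (ht : t = y * s * y⁻¹) (k : ℤ) (hcomm : Commute (t ^ k * s ^ (-k)) s) :
    t ^ k = s ^ k := by
  subst ht
  set ζ := conjAut Q s hs with hζdef
  have hζ : ζ ^ p = 1 := conjAut_pow Q s hs p hsp
  set Y : Q := ⟨y, hy⟩ with hY
  have hc : ∀ i : ℤ, (((ζ ^ i) Y : Q) : G) = s ^ i * y * s ^ (-i) :=
    fun i => coe_conjAut_zpow Q s hs i Y
  have hYc : (Y : G) = y := rfl
  have hm : ((Y * ((ζ ^ k) Y)⁻¹ : Q) : G) = (y * s * y⁻¹) ^ k * s ^ (-k) := by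
    simp only [Subgroup.coe_mul, Subgroup.coe_inv, hc, hYc]
    rw [conj_zpow]
    group
  have hfix : ζ (Y * ((ζ ^ k) Y)⁻¹) = Y * ((ζ ^ k) Y)⁻¹ := by
    apply Subtype.ext
    rw [hζdef, coe_conjAut, hm]
    rw [hcomm.eq.symm, mul_inv_cancel_right]
  have h1 := abs_q_fixed ζ p hζ hQp Y k hfix
  have h2 := congrArg (Subtype.val) h1
  rw [hm, Subgroup.coe_one, zpow_neg, mul_inv_eq_one] at h2
  exact h2

/-- `k_lemma` with the relation written with inverses instead of negative powers. -/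
theorem k_lemma' (p : ℕ) (Q : Subgroup G) [IsMulCommutative Q] (hQp : (Nat.card Q).Coprime p)
    (s y t : G) (hs : s ∈ Subgroup.normalizer (Q : Set G)) (hsp : s ^ p = 1) (hy : y ∈ Q)
    (ht : t = y * s * y⁻¹) (k1 k2 k3 : ℤ)
    (hrel : t⁻¹ * t⁻¹ * s ^ k1 * t = s ^ k2 * t⁻¹ * s ^ k3) :
    t ^ k1 * s ^ (1 - k1) * t ^ k2 = s ^ (k2 + 1) := by
  apply k_lemma p Q hQp s y t hs hsp hy ht k1 k2 k3
  have e1 : t ^ (-2 : ℤ) = t⁻¹ * t⁻¹ := by group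
  have e2 : t ^ (-1 : ℤ) = t⁻¹ := by group
  rw [e1, e2, hrel]

end concrete

end Cfsg.Agent.Lib.Helper50.AppCKLemma
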