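import Mathlib
import Cfsg.Prelude.Def_GeometricClasses
import Cfsg.Agent.Lib.Helper99.AschDefs
import Cfsg.Agent.Lib.Helper5.AschODefs

/-!
# ASCHO-[C2] (helper5's project ASCHO, S5673), relative form: helper50

`geoO_of_orthogonal_decomposition_of`: the statement of [C2] with [FRAME5] as a hypothesis.
-/

set_option autoImplicit false
set_option linter.unusedSectionVars false
set_option linter.unusedVariables false

namespace Cfsg.Agent.Lib.Helper50.AschOC2

open Cfsg Cfsg.Geo Cfsg.Agent.Lib.Helper99.Asch Cfsg.Agent.Lib.Helper5.AschO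
open scoped MatrixGroups Matrix Kronecker

variable {n : ℕ} {F : Type*} [Field F] [Fintype F]

theorem geoO_of_orthogonal_decomposition_of {Q : (Fin n → F) → F} {H : Subgroup (GL (Fin n) F)}
    (hFR : ¬ (Fintype.card F).Prime → ∀ (t : ℕ) (D : Fin t → Submodule F (Fin n → F)),
      IsOrthogonalMDecomposition Q 1 D →
      (∀ h ∈ H, ∃ σ : Equiv.Perm (Fin t), ∀ i,
        (D i).map (Matrix.toLin' (h : Matrix (Fin n) (Fin n) F)) = D (σ i)) → GeoO Q H)
    (hS : OSetup Q H) (t k : ℕ) (D : Fin t → Submodule F (Fin n → F))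
    (hD : IsOrthogonalMDecomposition Q k D)
    (hperm : ∀ h ∈ H, ∃ σ : Equiv.Perm (Fin t), ∀ i,
        (D i).map (Matrix.toLin' (h : Matrix (Fin n) (Fin n) F)) = D (σ i)) : GeoO Q H := by
  have hle : H ≤ decompositionStabilizer D := fun h hh => hperm h hh
  have hk : 0 < k := hD.decomp.decomp.pos
  by_cases h1 : 1 < k
  · exact GeoO.of_2a hS.le D h1 hD hle
  · have hk1 : k = 1 := by omega
    subst hk1
    by_cases hp : (Fintype.card F).Prime
    · exact GeoO.of_2b hS.le D hp hD hle
    · exact hFR hp t D hD hperm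

end Cfsg.Agent.Lib.Helper50.AschOC2
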