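import Mathlib
import Cfsg.Prelude.Def_GeometricClasses
import Cfsg.Agent.Lib.Helper99.AschDefs
import Cfsg.Agent.Lib.Helper5.AschODefs
import Cfsg.Agent.Lib.Helper50.AschOC2Of
import Cfsg.Agent.Lib.Helper36.AschOFrame5

/-!
# ASCHO-[C2] (helper5's project ASCHO, S5673): helper50

Exact sheet statement, from `geoO_of_orthogonal_decomposition_of` and helper36's [FRAME5].
-/

set_option autoImplicit false

namespace Cfsg.Agent.Lib.Helper5.AschO

open Cfsg Cfsg.Geo Cfsg.Agent.Lib.Helper99.Asch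
open scoped MatrixGroups Matrix Kronecker

variable {n : ℕ} {F : Type*} [Field F] [Fintype F]

/-- ASCHO-[C2]  needs [FRAME5]; easy.  k > 1: GeoO.of_2a; k = 1 and |F| prime: GeoO.of_2b; else [FRAME5]. -/
theorem geoO_of_orthogonal_decomposition {Q : (Fin n → F) → F} {H : Subgroup (GL (Fin n) F)}
    (hS : OSetup Q H) (t k : ℕ) (D : Fin t → Submodule F (Fin n → F))
    (hD : IsOrthogonalMDecomposition Q k D)
    (hperm : ∀ h ∈ H, ∃ σ : Equiv.Perm (Fin t), ∀ i,
        (D i).map (Matrix.toLin' (h : Matrix (Fin n) (Fin n) F)) = D (σ i)) : GeoO Q H :=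
  Cfsg.Agent.Lib.Helper50.AschOC2.geoO_of_orthogonal_decomposition_of
    (fun hnp t D hD hperm => geoO_of_frame hS hnp t D hD hperm) hS t k D hD hperm

end Cfsg.Agent.Lib.Helper5.AschO
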