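import Mathlib
import Cfsg.Agent.Lib.Helper1.ThompsonFpf

/-!
# Module [CNIL] of board #3146 (S1376 / S1436): Thompson's theorem with central fixed points

If `y` (with `y ^ q = 1`, `q` prime) normalizes `C`, and all fixed points of `y` on `C` lie in a
central subgroup `K` of `C` of order prime to `q` centralized by `y`, then `C` is nilpotent.
-/

set_option autoImplicit false

namespace Cfsg.Agent.Lib.Helper50

open Cfsg Cfsg.Agent.Lib.Helper1

variable {G : Type*} [Group G] [Finite G]

set_option linter.unusedVariables false in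
theorem isNilpotent_of_centralizer_le_center (q : ℕ) (hq : q.Prime) (C K : Subgroup G) (y : G)
    (hyq : y ^ q = 1) (hyC : ∀ c ∈ C, y * c * y⁻¹ ∈ C) (hKC : K ≤ C)
    (hKZ : ∀ k ∈ K, ∀ c ∈ C, k * c = c * k) (hyK : ∀ k ∈ K, y * k = k * y)
    (hcop : (Nat.card K).Coprime q)
    (hfix : ∀ c ∈ C, y * c = c * y → c ∈ K) : Group.IsNilpotent C := by
  -- conjugation by powers of `y` preserves `C`
  have hpowC : ∀ n : ℕ, ∀ c ∈ C, y ^ n * c * (y ^ n)⁻¹ ∈ C := by
    intro n
    induction n with
    | zero => intro c hc; simpa using hc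
    | succ n ih =>
      intro c hc
      have h1 := hyC _ (ih c hc)
      have e : y ^ (n + 1) * c * (y ^ (n + 1))⁻¹ = y * (y ^ n * c * (y ^ n)⁻¹) * y⁻¹ := by
        rw [pow_succ']; group
      rw [e]; exact h1
  have hyinv : y⁻¹ = y ^ (q - 1) := by
    have h1 : y ^ (q - 1) * y = 1 := by
      rw [← pow_succ, Nat.sub_add_cancel hq.one_le, hyq]
    exact (eq_inv_of_mul_eq_one_left h1).symm
  have hyC' : ∀ c ∈ C, y⁻¹ * c * y ∈ C := by
    intro c hc
    have h1 := hpowC (q - 1) c hc
    rw [← hyinv, inv_inv] at h1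
    exact h1
  let φ : ↥C ≃* ↥C :=
    { toFun := fun c => ⟨y * c * y⁻¹, hyC c c.2⟩
      invFun := fun c => ⟨y⁻¹ * c * y, hyC' c c.2⟩
      left_inv := fun c => by apply Subtype.ext; simp [mul_assoc]
      right_inv := fun c => by apply Subtype.ext; simp [mul_assoc]
      map_mul' := fun a b => by apply Subtype.ext; simp [mul_assoc] }
  have hφ : ∀ c : ↥C, ((φ c : ↥C) : G) = y * c * y⁻¹ := fun c => rfl
  have hφpow : ∀ (n : ℕ) (c : ↥C), ((((φ : MulAut ↥C) ^ n) c : ↥C) : G) = y ^ n * c * (y ^ n)⁻¹ := by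
    intro n
    induction n with
    | zero => intro c; simp
    | succ n ih =>
      intro c
      rw [pow_succ', MulAut.mul_apply]
      change y * ((((φ : MulAut ↥C) ^ n) c : ↥C) : G) * y⁻¹ = _
      rw [ih c, pow_succ']; group
  -- the central subgroup
  set N : Subgroup ↥C := K.subgroupOf C with hN
  have hNmem : ∀ c : ↥C, c ∈ N ↔ (c : G) ∈ K := fun c => Subgroup.mem_subgroupOf
  have hNcent : N ≤ Subgroup.center ↥C := by
    intro n hn
    rw [Subgroup.mem_center_iff]
    intro g
    apply Subtype.ext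
    exact (hKZ n ((hNmem n).1 hn) g g.2).symm
  have hNnormal : N.Normal := by
    constructor
    intro n hn g
    have h1 : g * n * g⁻¹ = n := by
      have := Subgroup.mem_center_iff.1 (hNcent hn) g
      rw [this]; group
    rw [h1]; exact hn
  have hφN : ∀ n ∈ N, φ n = n := by
    intro n hn
    apply Subtype.ext
    rw [hφ, hyK _ ((hNmem n).1 hn)]; group
  have hinv : AutInv φ N := by
    unfold AutInv
    ext x
    constructor
    · rintro ⟨n, hn, rfl⟩
      change φ n ∈ N
      rw [hφN n hn]; exact hn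
    · intro hx
      exact ⟨x, hx, hφN x hx⟩
  -- the induced automorphism of the quotient
  have hpow : (quotAut φ N hinv : MulAut (↥C ⧸ N)) ^ q = 1 := by
    ext x
    induction x using QuotientGroup.induction_on with
    | H c =>
      rw [quotAut_pow_mk, MulAut.one_apply]
      congr 1
      apply Subtype.ext
      rw [hφpow, hyq]; group
  have hfpf : ∀ x : ↥C ⧸ N, quotAut φ N hinv x = x → x = 1 := by
    intro x hx
    induction x using QuotientGroup.induction_on with
    | H c =>
      rw [quotAut_mk, QuotientGroup.eq] at hx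
      -- `k := (φ c)⁻¹ * c ∈ N`
      set k : G := ((φ c : ↥C) : G)⁻¹ * (c : G) with hk
      have hkK : k ∈ K := (hNmem _).1 hx
      have hconj : y * (c : G) * y⁻¹ = (c : G) * k⁻¹ := by
        rw [hk, hφ]; group
      -- `y ^ n * c * y ^ (-n) = c * k ^ (-n)`
      have hiter : ∀ n : ℕ, y ^ n * (c : G) * (y ^ n)⁻¹ = (c : G) * (k⁻¹) ^ n := by
        intro n
        induction n with
        | zero => simp
        | succ n ih =>
          have e : y ^ (n + 1) * (c : G) * (y ^ (n + 1))⁻¹ =
              y * (y ^ n * (c : G) * (y ^ n)⁻¹) * y⁻¹ := by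
            rw [pow_succ']; group
          have hkn : (k⁻¹) ^ n ∈ K := K.pow_mem (K.inv_mem hkK) n
          have e2 : y * (k⁻¹) ^ n * y⁻¹ = (k⁻¹) ^ n := by
            rw [hyK _ hkn]; group
          rw [e, ih]
          calc y * ((c : G) * k⁻¹ ^ n) * y⁻¹ = (y * (c : G) * y⁻¹) * (y * k⁻¹ ^ n * y⁻¹) := by
                group
            _ = (c : G) * k⁻¹ * k⁻¹ ^ n := by rw [hconj, e2]
            _ = (c : G) * k⁻¹ ^ (n + 1) := by rw [pow_succ', mul_assoc]
      have hkq : (k⁻¹) ^ q = 1 := by
        have h1 := hiter q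
        rw [hyq] at h1
        have h2 : (c : G) = (c : G) * (k⁻¹) ^ q := by simpa using h1
        exact (mul_eq_left (a := (c : G))).1 h2.symm
      have hkcard : (k⁻¹) ^ Nat.card K = 1 := by
        have := pow_card_eq_one' (G := ↥K) (x := ⟨k⁻¹, K.inv_mem hkK⟩)
        exact congrArg Subtype.val this
      have hk1 : k⁻¹ = 1 := by
        have h1 : orderOf (k⁻¹) ∣ q := orderOf_dvd_of_pow_eq_one hkq
        have h2 : orderOf (k⁻¹) ∣ Nat.card K := orderOf_dvd_of_pow_eq_one hkcard
        have h3 : orderOf (k⁻¹) ∣ Nat.gcd (Nat.card K) q := Nat.dvd_gcd h2 h1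
        rw [hcop] at h3
        exact orderOf_eq_one_iff.1 (Nat.dvd_one.1 h3)
      have hcomm : y * (c : G) = (c : G) * y := by
        have : y * (c : G) * y⁻¹ = (c : G) := by rw [hconj, hk1, mul_one]
        calc y * (c : G) = y * (c : G) * y⁻¹ * y := by group
          _ = (c : G) * y := by rw [this]
      have hcK : (c : G) ∈ K := hfix c c.2 hcomm
      exact (QuotientGroup.eq_one_iff c).2 ((hNmem c).2 hcK)
  have hQ : Group.IsNilpotent (↥C ⧸ N) :=
    fpf_nilpotent_aux q hq _ (↥C ⧸ N) rfl (quotAut φ N hinv) hpow hfpf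
  have hker : (QuotientGroup.mk' N).ker ≤ Subgroup.center ↥C := by
    rw [QuotientGroup.ker_mk']
    exact hNcent
  exact Subgroup.isNilpotent_of_ker_le_center (QuotientGroup.mk' N) hker

end Cfsg.Agent.Lib.Helper50
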