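import Mathlib
import Cfsg.Prelude.Def_OddOrderLocal
import Cfsg.Agent.Lib.Helper26.BGTypesF
import Cfsg.Agent.Lib.Helper4.PFTypes

set_option autoImplicit false

/-!
# The fields `pair` and `w2prime` of `BookBGData` from the literal summary rows (helper50)

`BookBGData` (`Lib/Helper4/PFTypes.lean`) is the book-form input of the character-theoretic half of the
odd order theorem.  This file proves its fields

* `w2prime` (`w2prime_of`): for Types III, IV, V the subgroup `W₂` has prime order;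
* `pair` (`pair_of`): B&G Theorem I, second half (all maximal subgroups of Type I, or the pair `S`, `T`),

from the LITERAL bodies `StmtNNNN G` of the frozen rows S1351, S1352, S1354, S1355, S1357, S1359, S1360,
S1364, S1365, S1366, S1368, S1369, S1370, S1373, S1381, S1382, S1383 (and the field `types` for `pair`),
in the style of `Lib/Helper26/BGTypes*`.  Each hypothesis is discharged by `Cfsg.Agent.SNNNN.result hG`.
-/

namespace Cfsg.Agent.Lib.Helper50.BGPair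

open Cfsg Cfsg.Agent.Lib.Helper4.PF Cfsg.Agent.Lib.Helper26.BGTypes Cfsg.Agent.Lib.Helper26.PFBook
  Cfsg.Agent.Lib.Helper26

universe u

variable {G : Type u} [Group G] [Finite G]

/-- Every maximal subgroup has a standard factorisation (S1351 + S1352). -/
theorem exists_decomp (h51 : Stmt1351 G) (h52 : Stmt1352 G) {M : Subgroup G} (hM : IsCoatom M) :
    ∃ K U : Subgroup G, IsSigmaDecomposition M K U := by
  obtain ⟨⟨K, hK⟩, hcyc⟩ := h51 M hM
  obtain ⟨⟨U, hU⟩, -⟩ := h52 M hM K (hcyc K hK) hK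
  exact ⟨K, U, hU⟩

omit [Finite G] in
theorem isOfTypeP_of_IItoV {M : Subgroup G} (h : IsTypeIItoV M) : IsOfTypeP M := by
  rcases h with h | h | h | h
  · obtain ⟨W₁, U, W₂, hP, -⟩ := h
    exact ⟨W₁, U, W₂, hP⟩
  · obtain ⟨W₁, U, W₂, hP, -⟩ := h
    exact ⟨W₁, U, W₂, hP⟩
  · obtain ⟨W₁, U, W₂, hP, -⟩ := h
    exact ⟨W₁, U, W₂, hP⟩
  · obtain ⟨W₁, U, W₂, hP, -⟩ := h
    exact ⟨W₁, U, W₂, hP⟩

omit [Finite G] in
/-- conjugating `M' ∩ C(k)` by `c ∈ M` gives `M' ∩ C(c k c⁻¹)`. -/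
theorem commutator_inf_centralizer_conj {M : Subgroup G} {c k : G} (hc : c ∈ M) :
    ⁅M, M⁆ ⊓ Subgroup.centralizer ({c * k * c⁻¹} : Set G) =
      (⁅M, M⁆ ⊓ Subgroup.centralizer ({k} : Set G)).map (MulAut.conj c).toMonoidHom := by
  have hnorm := Subgroup.normalizer_commutator_ge_left M M
  have hcn : ∀ y, y ∈ ⁅M, M⁆ ↔ c * y * c⁻¹ ∈ ⁅M, M⁆ := fun y =>
    (Subgroup.mem_normalizer_iff.1 (hnorm hc) y)
  ext z
  rw [Subgroup.mem_inf, Subgroup.mem_map]
  constructor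
  · rintro ⟨hz1, hz2⟩
    refine ⟨c⁻¹ * z * c, Subgroup.mem_inf.2 ⟨?_, ?_⟩, ?_⟩
    · rw [hcn]
      have : c * (c⁻¹ * z * c) * c⁻¹ = z := by group
      rw [this]; exact hz1
    · rw [Subgroup.mem_centralizer_iff]
      intro h hh
      rw [Set.mem_singleton_iff] at hh
      subst hh
      have h1 := Subgroup.mem_centralizer_iff.1 hz2 (c * h * c⁻¹) (Set.mem_singleton _)
      calc h * (c⁻¹ * z * c) = c⁻¹ * ((c * h * c⁻¹) * z) * c := by group
        _ = c⁻¹ * (z * (c * h * c⁻¹)) * c := by rw [h1]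
        _ = c⁻¹ * z * c * h := by group
    · simp [MulAut.conj_apply, mul_assoc]
  · rintro ⟨y, hy, rfl⟩
    rw [Subgroup.mem_inf] at hy
    obtain ⟨hy1, hy2⟩ := hy
    simp only [MulEquiv.coe_toMonoidHom, MulAut.conj_apply]
    refine ⟨(hcn y).1 hy1, ?_⟩
    rw [Subgroup.mem_centralizer_iff]
    intro h hh
    rw [Set.mem_singleton_iff] at hh
    subst hh
    have h1 := Subgroup.mem_centralizer_iff.1 hy2 k (Set.mem_singleton _)
    calc c * k * c⁻¹ * (c * y * c⁻¹) = c * (k * y) * c⁻¹ := by group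
      _ = c * (y * k) * c⁻¹ := by rw [h1]
      _ = c * y * c⁻¹ * (c * k * c⁻¹) := by group

/-- For type-P data `(W₁, U', W₂)` of `M` and a standard factorisation `M = K U M_σ` with `K ≠ 1`:
`|W₂| = |K*|`, `K* = C_{M_σ}(K)`. -/
theorem card_W₂_eq (hG : IsMinSimpleOddOrder G) {M K U W₁ U' W₂ : Subgroup G} (hM : IsCoatom M)
    (hKU : IsSigmaDecomposition M K U) (hSM : sigmaCore M ≤ ⁅M, M⁆)
    (h65 : ⁅M, M⁆ = U ⊔ sigmaCore M)
    (h54 : ∀ k ∈ K, k ≠ 1 → M ⊓ Subgroup.centralizer ({k} : Set G) =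
      K ⊔ (sigmaCore M ⊓ Subgroup.centralizer (K : Set G)))
    (hP : IsTypePWith M W₁ U' W₂) :
    Nat.card W₂ = Nat.card ↥(sigmaCore M ⊓ Subgroup.centralizer (K : Set G)) := by
  have hc1 : IsComplIn ⁅M, M⁆ K M := isComplIn_commutator hKU h65
  have hc2 : IsComplIn ⁅M, M⁆ W₁ M := hP.W₁_compl
  have hsolv : Group.IsSolvable ↥M := isSolvable_of_isCoatom hG hM le_rfl
  have hcop : (Nat.card ↥⁅M, M⁆).Coprime (Nat.card K) := by
    have := coprime_card_relIndex_of_hall hKU.hall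
    rw [PFEight.relIndex_of_isComplIn hc1] at this
    exact this.symm
  obtain ⟨c, hcM, hcW⟩ := exists_conj_of_isComplIn hsolv hc1 hc2 hcop
  obtain ⟨x, hx1⟩ := (Subgroup.ne_bot_iff_exists_ne_one (H := W₁)).1 hP.W₁_ne
  have hx1' : (x : G) ≠ 1 := fun h0 => hx1 (Subtype.ext h0)
  have hxW : (x : G) ∈ K.map (MulAut.conj c).toMonoidHom := hcW ▸ x.2
  obtain ⟨k, hk, hkx⟩ := hxW
  have hkx' : c * k * c⁻¹ = (x : G) := by simpa [MulAut.conj_apply] using hkx
  have hk1 : k ≠ 1 := by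
    intro h
    apply hx1'
    rw [← hkx', h]; group
  have e1 := hP.W₂_centralizer x x.2 hx1'
  have e2 := commutator_inf_centralizer_eq hc1.2.2.1 hSM h54 k hk hk1
  rw [← e1, ← hkx', commutator_inf_centralizer_conj hcM, e2]
  exact Subgroup.card_map_of_injective (MulAut.conj c).injective

/-- **The field `w2prime` of `BookBGData`.** -/
theorem w2prime_of (hG : IsMinSimpleOddOrder G) (h51 : Stmt1351 G) (h52 : Stmt1352 G)
    (h54 : Stmt1354 G) (h55 : Stmt1355 G) (h57 : Stmt1357 G) (h59 : Stmt1359 G)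
    (h60 : Stmt1360 G) (h65 : Stmt1365 G) (h73 : Stmt1373 G) (h81 : Stmt1381 G) :
    ∀ M W₁ U W₂ : Subgroup G, IsCoatom M → IsTypePWith M W₁ U W₂ → ¬ IsOfTypeII M →
      (Nat.card W₂).Prime := by
  intro M W₁ U' W₂ hM hP hnII
  obtain ⟨K, U, hKU⟩ := exists_decomp h51 h52 hM
  have c55 := h55 M hM
  have c57 : fittingHallOf M ≠ sigmaCore M → U = ⊥ := fun hne => (h57 M hM K U hKU hne).1
  have hK1 : K ≠ ⊥ := ne_bot_of_typeP hG hM hKU ⟨c55.1, c55.2.1, c55.2.2.1, c55.2.2.2.1⟩ c57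
    (h59 M hM K U hKU) (h60 M hM K U hKU) hP
  have hU : U = ⊥ := by
    by_contra hU
    exact hnII ((h81 M hM K U hKU).2 ⟨hK1, hU⟩)
  rw [card_W₂_eq hG hM hKU c55.2.2.1 (h65 M hM K U hKU hK1).1
    ((h54 M hM K hKU.cyclic hKU.hall).2 hK1) hP]
  exact h73 M hM K U hKU hK1 hU

/-- **The field `pair` of `BookBGData`** (B&G Theorem I, second half, book form). -/
theorem pair_of (hG : IsMinSimpleOddOrder G)
    (types : ∀ M : Subgroup G, IsCoatom M → LitTypeI M ∨ IsTypeIItoV M)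
    (h51 : Stmt1351 G) (h52 : Stmt1352 G) (h55 : Stmt1355 G) (h57 : Stmt1357 G)
    (h59 : Stmt1359 G) (h60 : Stmt1360 G) (h64 : Stmt1364 G) (h65 : Stmt1365 G)
    (h66 : Stmt1366 G) (h68 : Stmt1368 G) (h69 : Stmt1369 G) (h70 : Stmt1370 G)
    (h81 : Stmt1381 G) (h82 : Stmt1382 G) (h83 : Stmt1383 G) :
    (∀ M : Subgroup G, IsCoatom M → LitTypeI M) ∨
      ∃ W₁ W₂ S T : Subgroup G, IsSelfNormalizingCyclic W₁ W₂ ∧ IsCoatom S ∧ IsCoatom T ∧
        IsComplIn ⁅S, S⁆ W₁ S ∧ IsComplIn ⁅T, T⁆ W₂ T ∧ S ⊓ T = W₁ ⊔ W₂ ∧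
        (IsOfTypeII S ∨ IsOfTypeII T) ∧ IsTypeIItoV S ∧ IsTypeIItoV T ∧
        ∀ M : Subgroup G, IsCoatom M → LitTypeI M ∨ ∃ g : G, M = conjSub g S ∨ M = conjSub g T := by
  -- `K ≠ 1` for every maximal subgroup of Type II-V
  have hKne : ∀ {M K U : Subgroup G}, IsCoatom M → IsSigmaDecomposition M K U → IsTypeIItoV M →
      K ≠ ⊥ := by
    intro M K U hM hKU hT
    obtain ⟨W₁, U', W₂, hP⟩ := isOfTypeP_of_IItoV hT
    have c55 := h55 M hM
    have c57 : fittingHallOf M ≠ sigmaCore M → U = ⊥ := fun hne => (h57 M hM K U hKU hne).1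
    exact ne_bot_of_typeP hG hM hKU ⟨c55.1, c55.2.1, c55.2.2.1, c55.2.2.2.1⟩ c57
      (h59 M hM K U hKU) (h60 M hM K U hKU) hP
  by_cases hall : ∀ M : Subgroup G, IsCoatom M → LitTypeI M
  · exact Or.inl hall
  right
  push Not at hall
  obtain ⟨S, hS, hSnI⟩ := hall
  have hSt : IsTypeIItoV S := (types S hS).resolve_left hSnI
  obtain ⟨K, U, hKU⟩ := exists_decomp h51 h52 hS
  have hK1 : K ≠ ⊥ := hKne hS hKU hSt
  obtain ⟨T, ⟨hT, hKst, hKstH⟩, -⟩ := h66 S hS K U hKU hK1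
  have c64 := h64 S hS K U hKU hK1
  have c68 := h68 S hS K U hKU hK1 T hT hKst hKstH
  have c69 := h69 S hS K U hKU hK1 T hT hKst hKstH
  have c70 := h70 S hS K U hKU hK1
  obtain ⟨⟨Us, hKUs⟩, -⟩ := h52 T hT _ c64.1 hKstH
  have hTt : IsTypeIItoV T := by
    by_cases hUs : Us = ⊥
    · by_cases hFS : fittingHallOf T = sigmaCore T
      · exact Or.inr (Or.inr (Or.inr ((h83 T hT _ Us hKUs).2 ⟨c64.2.1, hUs, hFS⟩)))
      · rcases (h82 T hT _ Us hKUs).2 ⟨c64.2.1, hUs, hFS⟩ with h | h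
        · exact Or.inr (Or.inl h)
        · exact Or.inr (Or.inr (Or.inl h))
    · exact Or.inl ((h81 T hT _ Us hKUs).2 ⟨c64.2.1, hUs⟩)
  refine ⟨K, sigmaCore S ⊓ Subgroup.centralizer (K : Set G), S, T,
    isSelfNormalizingCyclic_of hKU.hall hK1 c64.2.1 c68.2 c70, hS, hT,
    isComplIn_commutator hKU (h65 S hS K U hKU hK1).1,
    isComplIn_commutator hKUs (h65 T hT _ Us hKUs c64.2.1).1, c68.1, ?_, hSt, hTt, ?_⟩
  · rcases c69.1 with hU | hUs
    · exact Or.inl ((h81 S hS K U hKU).2 ⟨hK1, hU⟩)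
    · exact Or.inr ((h81 T hT _ Us hKUs).2 ⟨c64.2.1, hUs Us hKUs⟩)
  · intro M hM
    rcases types M hM with hI | hMt
    · exact Or.inl hI
    · right
      obtain ⟨K', U', hKU'⟩ := exists_decomp h51 h52 hM
      have hK'1 : K' ≠ ⊥ := hKne hM hKU' hMt
      exact c69.2 M hM (kappa_nonempty_of_ne_bot hKU'.hall hK'1)

end Cfsg.Agent.Lib.Helper50.BGPair
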