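import Mathlib

/-!
# Abstract Brauer–Suzuki–Wall (S3282), module [L3]: the arithmetic core of the numerical data in shape I
-/

set_option autoImplicit false
set_option linter.unusedSectionVars false

namespace Cfsg.Agent.Lib.Helper50.BSW

/-- the arithmetic core of [L3] -/
theorem latI_arith {k N δ e₂ e₃ x y₂ y₃ : ℤ} (hk4 : 4 ≤ k) (hNpos : 0 < N) (hN : 2 * k ∣ N)
    (hδ : δ = 1 ∨ δ = -1) (he₂ : e₂ = 1 ∨ e₂ = -1) (he₃ : e₃ = 1 ∨ e₃ = -1)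
    (hx : 0 < x) (hy₂ : 0 < y₂) (hy₃ : 0 < y₃) (hxδ : 0 < x + δ)
    (E1 : 1 + δ * x + e₂ * y₂ + e₃ * y₃ = 0)
    (E2 : (N : ℚ) * (1 + (δ : ℚ) * (1 / (x : ℚ)) - (δ : ℚ) * (4 / ((x : ℚ) + δ))) = 4 * (k : ℚ) ^ 3)
    (E3 : (N : ℚ) * (1 + (δ : ℚ) * (1 / (x : ℚ)) + (e₂ : ℚ) * (1 / (y₂ : ℚ)) + (e₃ : ℚ) * (1 / (y₃ : ℚ))) =
      4 * (k : ℚ) ^ 3)
    (E5 : k ∣ y₂ + e₂) :
    e₂ = -δ ∧ e₃ = -δ ∧ x = 2 * k + δ ∧ y₂ = k + δ ∧ y₃ = k + δ ∧ N = 2 * k * (2 * k + δ) * (k + δ) := by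
  have hδ2 : δ * δ = 1 := by rcases hδ with h | h <;> rw [h] <;> norm_num
  have he₂2 : e₂ * e₂ = 1 := by rcases he₂ with h | h <;> rw [h] <;> norm_num
  have he₃2 : e₃ * e₃ = 1 := by rcases he₃ with h | h <;> rw [h] <;> norm_num
  have hxq : (x : ℚ) ≠ 0 := by exact_mod_cast (ne_of_gt hx)
  have hy₂q : (y₂ : ℚ) ≠ 0 := by exact_mod_cast (ne_of_gt hy₂)
  have hy₃q : (y₃ : ℚ) ≠ 0 := by exact_mod_cast (ne_of_gt hy₃)
  have hxδq : (x : ℚ) + δ ≠ 0 := by exact_mod_cast (ne_of_gt hxδ)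
  have hNq : (N : ℚ) ≠ 0 := by exact_mod_cast (ne_of_gt hNpos)
  -- Step 1: `-4 δ y₂ y₃ = (e₂ y₃ + e₃ y₂) (x + δ)`
  have S1q : -(4 : ℚ) * δ * y₂ * y₃ = ((e₂ : ℚ) * y₃ + e₃ * y₂) * ((x : ℚ) + δ) := by
    have h1 : (N : ℚ) * (-(δ : ℚ) * (4 / ((x : ℚ) + δ))) =
        (N : ℚ) * ((e₂ : ℚ) * (1 / (y₂ : ℚ)) + (e₃ : ℚ) * (1 / (y₃ : ℚ))) := by linarith
    have h2 := mul_left_cancel₀ hNq h1
    field_simp at h2
    linarith
  have S1 : -4 * δ * y₂ * y₃ = (e₂ * y₃ + e₃ * y₂) * (x + δ) := by exact_mod_cast S1q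
  -- `e₂ y₃ + e₃ y₂ = - e₂ e₃ δ (x + δ)`
  have S2 : e₂ * y₃ + e₃ * y₂ = -(e₂ * e₃) * δ * (x + δ) := by
    have h1 : e₂ * y₃ + e₃ * y₂ = (e₂ * e₃) * ((e₃ * e₃) * (e₂ * y₂) + (e₂ * e₂) * (e₃ * y₃)) := by
      have : (e₂ * e₃) * ((e₃ * e₃) * (e₂ * y₂) + (e₂ * e₂) * (e₃ * y₃)) =
          (e₂ * e₂) * (e₃ * e₃) * (e₃ * y₂) + (e₂ * e₂) * (e₃ * e₃) * (e₂ * y₃) := by ring
      rw [this, he₂2, he₃2]; ring
    rw [h1, he₂2, he₃2]
    have h3 : e₂ * y₂ + e₃ * y₃ = -(1 + δ * x) := by linarith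
    have h4 : 1 + δ * x = δ * (x + δ) := by
      have : δ * (x + δ) = δ * x + δ * δ := by ring
      rw [this, hδ2]; ring
    calc e₂ * e₃ * (1 * (e₂ * y₂) + 1 * (e₃ * y₃)) = e₂ * e₃ * (e₂ * y₂ + e₃ * y₃) := by ring
      _ = e₂ * e₃ * (-(δ * (x + δ))) := by rw [h3, h4]
      _ = -(e₂ * e₃) * δ * (x + δ) := by ring
  -- `4 y₂ y₃ = e₂ e₃ (x + δ)²`
  have S3 : 4 * y₂ * y₃ = (e₂ * e₃) * ((x + δ) * (x + δ)) := by
    rw [S2] at S1
    have h1 : δ * (-4 * δ * y₂ * y₃) = δ * (-(e₂ * e₃) * δ * (x + δ) * (x + δ)) := by rw [S1]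
    have h2 : δ * (-4 * δ * y₂ * y₃) = -(δ * δ) * (4 * y₂ * y₃) := by ring
    have h3 : δ * (-(e₂ * e₃) * δ * (x + δ) * (x + δ)) = -(δ * δ) * ((e₂ * e₃) * ((x + δ) * (x + δ))) := by
      ring
    rw [h2, h3, hδ2] at h1
    linarith
  -- `e₂ = e₃`
  have hee : e₂ * e₃ = 1 := by
    have h1 : 0 < 4 * y₂ * y₃ := by positivity
    have h2 : 0 < (x + δ) * (x + δ) := by positivity
    rcases he₂ with h | h <;> rcases he₃ with h' | h'
    · rw [h, h']; norm_num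
    · exfalso
      rw [h, h'] at S3
      nlinarith
    · exfalso
      rw [h, h'] at S3
      nlinarith
    · rw [h, h']; norm_num
  have he23 : e₂ = e₃ := by
    rcases he₂ with h | h <;> rcases he₃ with h' | h'
    · rw [h, h']
    · exfalso; rw [h, h'] at hee; norm_num at hee
    · exfalso; rw [h, h'] at hee; norm_num at hee
    · rw [h, h']
  -- `y₂ = y₃`, `2 y₂ = x + δ`, `e₂ = -δ`
  rw [hee, one_mul] at S3
  have S4 : e₂ * (y₂ + y₃) = -δ * (x + δ) := by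
    have h4 : 1 + δ * x = δ * (x + δ) := by
      have : δ * (x + δ) = δ * x + δ * δ := by ring
      rw [this, hδ2]; ring
    rw [← he23] at E1
    linarith
  have S5 : (y₂ + y₃) * (y₂ + y₃) = (x + δ) * (x + δ) := by
    have h1 : (e₂ * (y₂ + y₃)) * (e₂ * (y₂ + y₃)) = (-δ * (x + δ)) * (-δ * (x + δ)) := by rw [S4]
    have h2 : (e₂ * (y₂ + y₃)) * (e₂ * (y₂ + y₃)) = (e₂ * e₂) * ((y₂ + y₃) * (y₂ + y₃)) := by ring
    have h3 : (-δ * (x + δ)) * (-δ * (x + δ)) = (δ * δ) * ((x + δ) * (x + δ)) := by ring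
    rw [h2, h3, he₂2, hδ2, one_mul, one_mul] at h1
    exact h1
  have hy23 : y₂ = y₃ := by
    have h1 : (y₂ - y₃) * (y₂ - y₃) = 0 := by nlinarith
    have h2 := mul_self_eq_zero.1 h1
    linarith
  have hsum : y₂ + y₃ = x + δ := by
    have h1 : 0 < y₂ + y₃ := by linarith
    nlinarith
  have he₂δ : e₂ = -δ := by
    rw [hsum] at S4
    have h1 : (e₂ + δ) * (x + δ) = 0 := by linarith
    rcases mul_eq_zero.1 h1 with h | h
    · linarith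
    · linarith
  have h2y : 2 * y₂ = x + δ := by rw [← hsum, ← hy23]; ring
  -- Step 2: `N (x - δ)² = 4 k³ x (x + δ)`
  have S6q : (N : ℚ) * (((x : ℚ) - δ) * ((x : ℚ) - δ)) = 4 * (k : ℚ) ^ 3 * (x * ((x : ℚ) + δ)) := by
    have hδ2q : (δ : ℚ) * δ = 1 := by exact_mod_cast hδ2
    have h1 : (1 + (δ : ℚ) * (1 / (x : ℚ)) - (δ : ℚ) * (4 / ((x : ℚ) + δ))) * (x * ((x : ℚ) + δ)) =
        ((x : ℚ) - δ) * ((x : ℚ) - δ) := by
      field_simp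
      ring
    rw [← h1, ← mul_assoc, E2]
  have S6 : N * ((x - δ) * (x - δ)) = 4 * k ^ 3 * (x * (x + δ)) := by exact_mod_cast S6q
  -- Step 3: `x - δ = 2 k s`
  obtain ⟨m, hm⟩ := E5
  have hxs : x - δ = 2 * k * m := by
    rw [he₂δ] at hm
    have : x - δ = 2 * (y₂ + -δ) := by linarith
    rw [this, hm]; ring
  have hk0 : k ≠ 0 := by omega
  obtain ⟨n, hn⟩ := hN
  -- `n m² = (δ + 2 k m)(δ + k m)`
  have S7 : n * (m * m) = (δ + 2 * k * m) * (δ + k * m) := by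
    have hx' : x = δ + 2 * k * m := by linarith
    rw [hxs, hn, hx'] at S6
    have h1 : (8 * k ^ 3) * (n * (m * m)) = (8 * k ^ 3) * ((δ + 2 * k * m) * (δ + k * m)) := by
      have e1 : 2 * k * n * (2 * k * m * (2 * k * m)) = (8 * k ^ 3) * (n * (m * m)) := by ring
      have e2 : 4 * k ^ 3 * ((δ + 2 * k * m) * (δ + 2 * k * m + δ)) =
          (8 * k ^ 3) * ((δ + 2 * k * m) * (δ + k * m)) := by ring
      rw [← e1, ← e2]; exact S6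
    have h8 : (8 * k ^ 3) ≠ 0 := by positivity
    exact mul_left_cancel₀ h8 h1
  -- `m ∣ 1`
  have hm1 : m ∣ 1 := by
    have h1 : (δ + 2 * k * m) * (δ + k * m) = 1 + m * (3 * k * δ + 2 * k * k * m) := by
      have : (δ + 2 * k * m) * (δ + k * m) = δ * δ + m * (3 * k * δ + 2 * k * k * m) := by ring
      rw [this, hδ2]
    have h2 : 1 = m * (n * m - (3 * k * δ + 2 * k * k * m)) := by
      have : m * (n * m - (3 * k * δ + 2 * k * k * m)) = n * (m * m) - m * (3 * k * δ + 2 * k * k * m) := by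
        ring
      rw [this, S7, h1]; ring
    exact ⟨_, h2⟩
  have hm' : m = 1 ∨ m = -1 := by
    have := Int.isUnit_iff.1 (isUnit_of_dvd_one hm1)
    exact this
  have hmone : m = 1 := by
    rcases hm' with h | h
    · exact h
    · exfalso
      rw [h] at hxs
      rcases hδ with h' | h' <;> rw [h'] at hxs <;> omega
  rw [hmone] at hxs S7
  have hxval : x = 2 * k + δ := by linarith
  have hy₂val : y₂ = k + δ := by linarith
  refine ⟨he₂δ, he23 ▸ he₂δ, hxval, hy₂val, hy23 ▸ hy₂val, ?_⟩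
  rw [hn]
  have : n = (δ + 2 * k) * (δ + k) := by linarith
  rw [this]; ring

end Cfsg.Agent.Lib.Helper50.BSW
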