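import Mathlib
import Cfsg.Agent.Lib.Helper30.BSW.CharDefs

/-!
# Abstract Brauer–Suzuki–Wall (S3282), module [L4]: the weights `tau² / deg` in shape I
-/

set_option autoImplicit false
set_option linter.unusedSectionVars false

namespace Cfsg.Agent.Lib.Helper50.BSW

open Cfsg.Agent.Lib.Helper30.BSW

variable {I Ψ : Type*} [Fintype I] [Fintype Ψ] [DecidableEq I] [DecidableEq Ψ] {i₀ : I} {deg : I → ℤ}
  {o : Ψ} {ι : Ψ → Ψ} {ν : Ψ} {g : Ψ → I → ℤ}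

theorem ev_self' (a : I) : ev a a = 1 := by simp [ev]

theorem ev_ne' {a i : I} (h : i ≠ a) : ev a i = 0 := by simp [ev, h]

/-- the characters other than `o`, `ν` -/
def rest (o ν : Ψ) : Finset Ψ := (Finset.univ.erase o).erase ν

theorem mem_rest {o ν ψ : Ψ} : ψ ∈ rest o ν ↔ ψ ≠ o ∧ ψ ≠ ν := by
  unfold rest
  simp only [Finset.mem_erase, Finset.mem_univ, and_true]
  tauto

theorem sum_split (hνo : ν ≠ o) (F : Ψ → ℤ) : ∑ ψ, F ψ = F o + F ν + ∑ ψ ∈ rest o ν, F ψ := by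
  unfold rest
  rw [← Finset.add_sum_erase Finset.univ F (Finset.mem_univ o),
    ← Finset.add_sum_erase (Finset.univ.erase o) F (Finset.mem_erase.2 ⟨hνo, Finset.mem_univ ν⟩)]
  ring

theorem card_rest (hνo : ν ≠ o) : ((rest o ν).card : ℤ) = (Fintype.card Ψ : ℤ) - 2 := by
  unfold rest
  rw [Finset.card_erase_of_mem (Finset.mem_erase.2 ⟨hνo, Finset.mem_univ ν⟩),
    Finset.card_erase_of_mem (Finset.mem_univ o), Finset.card_univ]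
  have : 2 ≤ Fintype.card Ψ := by
    have : ({o, ν} : Finset Ψ).card ≤ Fintype.card Ψ := Finset.card_le_univ _
    rw [Finset.card_pair (Ne.symm hνo)] at this
    exact this
  omega

section
variable (hL : LatHyp i₀ deg o ι ν g) {δ : ℤ} {X : I} {Θ : Ψ → I} {e₂ e₃ : ℤ} {Y₂ Y₃ : I}
  (h1 : LatI i₀ o ι ν g δ X Θ e₂ e₃ Y₂ Y₃) (ε : Ψ → ℤ) (hει : ∀ ψ, ε (ι ψ) = ε ψ) (hεo : ε o = 1)
  (hεs : ∑ ψ, ε ψ = 0)
include hL h1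

/-- `∑ ψ, g ψ i` and `tau g ε i` when all generic `g ψ i` are equal to a constant `a` -/
theorem sums_of_const (i : I) (a : ℤ) (ha : ∀ ψ, ψ ≠ o → ψ ≠ ν → g ψ i = a) (hεo : ε o = 1)
    (hεs : ∑ ψ, ε ψ = 0) :
    ∑ ψ, g ψ i = g ν i + a * ((Fintype.card Ψ : ℤ) - 2) ∧
      tau g ε i = g ν i * ε ν + a * (-1 - ε ν) := by
  have hs := sum_split hL.ν_ne ε
  rw [hεs, hεo] at hs
  constructor
  · rw [sum_split hL.ν_ne (fun ψ => g ψ i), hL.g_o i, zero_add]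
    have : ∑ ψ ∈ rest o ν, g ψ i = ∑ ψ ∈ rest o ν, a :=
      Finset.sum_congr rfl (fun ψ hψ => ha ψ (mem_rest.1 hψ).1 (mem_rest.1 hψ).2)
    rw [this, Finset.sum_const, nsmul_eq_mul, card_rest hL.ν_ne]
    ring
  · unfold tau
    rw [sum_split hL.ν_ne (fun ψ => g ψ i * ε ψ), hL.g_o i, zero_mul, zero_add]
    have : ∑ ψ ∈ rest o ν, g ψ i * ε ψ = a * ∑ ψ ∈ rest o ν, ε ψ := by
      rw [Finset.mul_sum]
      exact Finset.sum_congr rfl (fun ψ hψ => by rw [ha ψ (mem_rest.1 hψ).1 (mem_rest.1 hψ).2])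
    rw [this]
    have : ∑ ψ ∈ rest o ν, ε ψ = -1 - ε ν := by linarith
    rw [this]

/-- `∑ ψ, g ψ i` and `tau g ε i` at `i = Θ ψ₀` -/
theorem sums_at_Theta (ψ₀ : Ψ) (h0o : ψ₀ ≠ o) (h0ν : ψ₀ ≠ ν) (hει : ∀ ψ, ε (ι ψ) = ε ψ) :
    ∑ ψ, g ψ (Θ ψ₀) = -2 * δ ∧ tau g ε (Θ ψ₀) = -2 * δ * ε ψ₀ := by
  obtain ⟨hΘi, hΘX, hΘY₂, hΘY₃⟩ := h1.Θ_ne ψ₀ h0o h0ν
  have hιo : ι o = o := (hL.ι_fix o).2 (Or.inl rfl)
  have hιν : ι ν = ν := (hL.ι_fix ν).2 (Or.inr rfl)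
  have hιinj : ∀ a b, ι a = ι b → a = b := by
    intro a b hab
    rw [← hL.ι_ι a, ← hL.ι_ι b, hab]
  have hι0_0 : ι ψ₀ ≠ ψ₀ := fun h => by
    rcases (hL.ι_fix ψ₀).1 h with h | h
    · exact h0o h
    · exact h0ν h
  have hι0o : ι ψ₀ ≠ o := fun h => h0o (hιinj _ _ (h.trans hιo.symm))
  have hι0ν : ι ψ₀ ≠ ν := fun h => h0ν (hιinj _ _ (h.trans hιν.symm))
  have hgν : g ν (Θ ψ₀) = 0 := by
    rw [h1.g_ν, ev_ne' hΘi, ev_ne' hΘX, ev_ne' hΘY₂, ev_ne' hΘY₃]; ring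
  have hgen : ∀ ψ ∈ rest o ν, g ψ (Θ ψ₀) = -δ * (if Θ ψ₀ = Θ ψ then 1 else 0) := by
    intro ψ hψ
    rw [h1.g_gen ψ (mem_rest.1 hψ).1 (mem_rest.1 hψ).2, ev_ne' hΘi, ev_ne' hΘX]
    unfold ev
    ring
  have hfilter : (rest o ν).filter (fun ψ => Θ ψ₀ = Θ ψ) = {ψ₀, ι ψ₀} := by
    ext ψ
    simp only [Finset.mem_filter, mem_rest, Finset.mem_insert, Finset.mem_singleton]
    constructor
    · rintro ⟨⟨hψo, hψν⟩, hΘ⟩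
      exact (h1.Θ_eq ψ₀ ψ h0o h0ν hψo hψν).1 hΘ
    · rintro (rfl | rfl)
      · exact ⟨⟨h0o, h0ν⟩, rfl⟩
      · exact ⟨⟨hι0o, hι0ν⟩, (h1.Θ_eq ψ₀ (ι ψ₀) h0o h0ν hι0o hι0ν).2 (Or.inr rfl)⟩
  have hsumc : ∀ c : Ψ → ℤ, ∑ ψ ∈ rest o ν, g ψ (Θ ψ₀) * c ψ = -δ * (c ψ₀ + c (ι ψ₀)) := by
    intro c
    have h3 : ∑ ψ ∈ rest o ν, g ψ (Θ ψ₀) * c ψ =
        -δ * ∑ ψ ∈ rest o ν, (if Θ ψ₀ = Θ ψ then c ψ else 0) := by
      rw [Finset.mul_sum]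
      apply Finset.sum_congr rfl
      intro ψ hψ
      rw [hgen ψ hψ]
      split_ifs <;> ring
    rw [h3, ← Finset.sum_filter, hfilter, Finset.sum_pair (Ne.symm hι0_0)]
  constructor
  · rw [sum_split hL.ν_ne (fun ψ => g ψ (Θ ψ₀)), hL.g_o, hgν]
    have := hsumc (fun _ => 1)
    simp only [mul_one] at this
    rw [this]; ring
  · unfold tau
    rw [sum_split hL.ν_ne (fun ψ => g ψ (Θ ψ₀) * ε ψ), hL.g_o, hgν, hsumc ε, hει ψ₀]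
    ring

end

/-- **[L4]** -/
theorem lat_W (hL : LatHyp i₀ deg o ι ν g) {δ : ℤ} {X : I} {Θ : Ψ → I} {e₂ e₃ : ℤ} {Y₂ Y₃ : I}
    (h1 : LatI i₀ o ι ν g δ X Θ e₂ e₃ Y₂ Y₃) (ε : Ψ → ℤ) (hε : ∀ ψ, ε ψ = 1 ∨ ε ψ = -1)
    (hει : ∀ ψ, ε (ι ψ) = ε ψ) (hεo : ε o = 1) (hεs : ∑ ψ, ε ψ = 0) (k N : ℤ)
    (hk : (Fintype.card Ψ : ℤ) = k) (hn : LatNum deg o ν δ X Θ e₂ e₃ Y₂ Y₃ k N) (i : I) :
    ((tau g ε i : ℤ) : ℚ) ^ 2 / (deg i : ℚ) =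
      (-(δ : ℚ) / ((k : ℚ) + δ)) * ∑ ψ, (g ψ i : ℚ) +
        ((k : ℚ) * (1 + δ) / ((k : ℚ) + δ)) * (ev i₀ i : ℚ) +
          (1 / (2 * (k : ℚ) + δ) + ((k : ℚ) - 1) / ((k : ℚ) + δ)) * (ev X i : ℚ) := by
  have hk4 : (4 : ℤ) ≤ k := by
    rw [← hk]; exact_mod_cast hL.card_Ψ
  have hk4q : (4 : ℚ) ≤ (k : ℚ) := by exact_mod_cast hk4
  have hsumcast : ∑ ψ, (g ψ i : ℚ) = ((∑ ψ, g ψ i : ℤ) : ℚ) := by push_cast; rfl
  have hn1 : (k : ℚ) + 1 ≠ 0 := by intro h; linarith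
  have hn2 : (k : ℚ) + -1 ≠ 0 := by intro h; linarith
  have hn2' : -1 + (k : ℚ) ≠ 0 := by intro h; linarith
  have hn2'' : (k : ℚ) - 1 ≠ 0 := by intro h; linarith
  have hn3 : 2 * (k : ℚ) + 1 ≠ 0 := by intro h; linarith
  have hn4 : 2 * (k : ℚ) + -1 ≠ 0 := by intro h; linarith
  have hn4' : -1 + 2 * (k : ℚ) ≠ 0 := by intro h; linarith
  have hn4'' : 2 * (k : ℚ) - 1 ≠ 0 := by intro h; linarith
  have hn5 : 2 * (k : ℚ) + 2 * 1 ≠ 0 := by intro h; linarith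
  have hn6 : 2 * (k : ℚ) + 2 * -1 ≠ 0 := by intro h; linarith
  have hn6' : 2 * (k : ℚ) - 2 ≠ 0 := by intro h; linarith
  have hn6'' : -2 + 2 * (k : ℚ) ≠ 0 := by intro h; linarith
  have hn5' : 2 * (k : ℚ) + 2 ≠ 0 := by intro h; linarith
  rw [hsumcast]
  have hδq : (δ : ℚ) = 1 ∨ (δ : ℚ) = -1 := by
    rcases h1.hδ with h | h <;> rw [h] <;> simp
  have hενsq : ε ν * ε ν = 1 := by rcases hε ν with h | h <;> rw [h] <;> norm_num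
  by_cases hi0 : i = i₀
  · -- `i = i₀`
    subst hi0
    have hconst : ∀ ψ, ψ ≠ o → ψ ≠ ν → g ψ i = 1 := fun ψ hψ _ => hL.g_i₀ ψ hψ
    obtain ⟨hS, hT⟩ := sums_of_const hL h1 ε i 1 hconst hεo hεs
    rw [hS, hT, hL.g_i₀ ν hL.ν_ne, hL.deg_i₀, ev_self', ev_ne' (Ne.symm h1.X_ne), hk]
    push_cast
    rcases hδq with h | h <;> rw [h] <;> field_simp <;> ring
  by_cases hiX : i = X
  · subst hiX
    have hconst : ∀ ψ, ψ ≠ o → ψ ≠ ν → g ψ i = δ := by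
      intro ψ hψo hψν
      rw [h1.g_gen ψ hψo hψν, ev_ne' hi0, ev_self', ev_ne' (Ne.symm (h1.Θ_ne ψ hψo hψν).2.1)]
      ring
    have hgν : g ν i = δ := by
      rw [h1.g_ν, ev_ne' hi0, ev_self', ev_ne' (Ne.symm h1.Y₂_ne.2), ev_ne' (Ne.symm h1.Y₃_ne.2.1)]
      ring
    obtain ⟨hS, hT⟩ := sums_of_const hL h1 ε i δ hconst hεo hεs
    rw [hS, hT, hgν, hn.degX, ev_ne' hi0, ev_self', hk]
    push_cast
    rcases hδq with h | h <;> rw [h] <;> field_simp <;> ring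
  by_cases hiY₂ : i = Y₂
  · subst hiY₂
    have hconst : ∀ ψ, ψ ≠ o → ψ ≠ ν → g ψ i = 0 := by
      intro ψ hψo hψν
      rw [h1.g_gen ψ hψo hψν, ev_ne' hi0, ev_ne' hiX, ev_ne' (Ne.symm (h1.Θ_ne ψ hψo hψν).2.2.1)]
      ring
    have hgν : g ν i = e₂ := by
      rw [h1.g_ν, ev_ne' hi0, ev_ne' hiX, ev_self', ev_ne' (Ne.symm h1.Y₃_ne.2.2)]
      ring
    obtain ⟨hS, hT⟩ := sums_of_const hL h1 ε i 0 hconst hεo hεs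
    rw [hS, hT, hgν, hn.degY₂, ev_ne' hi0, ev_ne' hiX, hn.he₂]
    have hsq : ((((-δ) * ε ν + 0 * (-1 - ε ν) : ℤ)) : ℚ) ^ 2 = 1 := by
      have : ((-δ) * ε ν + 0 * (-1 - ε ν)) ^ 2 = (δ * δ) * (ε ν * ε ν) := by ring
      rw [← Int.cast_pow, this, hενsq]
      rcases h1.hδ with h | h <;> rw [h] <;> norm_num
    rw [hsq]
    push_cast
    rcases hδq with h | h <;> rw [h] <;> field_simp <;> ring
  by_cases hiY₃ : i = Y₃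
  · subst hiY₃
    have hconst : ∀ ψ, ψ ≠ o → ψ ≠ ν → g ψ i = 0 := by
      intro ψ hψo hψν
      rw [h1.g_gen ψ hψo hψν, ev_ne' hi0, ev_ne' hiX, ev_ne' (Ne.symm (h1.Θ_ne ψ hψo hψν).2.2.2)]
      ring
    have hgν : g ν i = e₃ := by
      rw [h1.g_ν, ev_ne' hi0, ev_ne' hiX, ev_ne' hiY₂, ev_self']
      ring
    obtain ⟨hS, hT⟩ := sums_of_const hL h1 ε i 0 hconst hεo hεs
    rw [hS, hT, hgν, hn.degY₃, ev_ne' hi0, ev_ne' hiX, hn.he₃]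
    have hsq : ((((-δ) * ε ν + 0 * (-1 - ε ν) : ℤ)) : ℚ) ^ 2 = 1 := by
      have : ((-δ) * ε ν + 0 * (-1 - ε ν)) ^ 2 = (δ * δ) * (ε ν * ε ν) := by ring
      rw [← Int.cast_pow, this, hενsq]
      rcases h1.hδ with h | h <;> rw [h] <;> norm_num
    rw [hsq]
    push_cast
    rcases hδq with h | h <;> rw [h] <;> field_simp <;> ring
  by_cases hiΘ : ∃ ψ₀, ψ₀ ≠ o ∧ ψ₀ ≠ ν ∧ i = Θ ψ₀
  · obtain ⟨ψ₀, h0o, h0ν, rfl⟩ := hiΘ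
    obtain ⟨hS, hT⟩ := sums_at_Theta hL h1 ε ψ₀ h0o h0ν hει
    rw [hS, hT, hn.degΘ ψ₀ h0o h0ν, ev_ne' hi0, ev_ne' hiX]
    have hsq : (((-2 * δ * ε ψ₀ : ℤ)) : ℚ) ^ 2 = 4 := by
      have : (-2 * δ * ε ψ₀) ^ 2 = 4 * ((δ * δ) * (ε ψ₀ * ε ψ₀)) := by ring
      rw [← Int.cast_pow, this]
      rcases h1.hδ with h | h <;> rcases hε ψ₀ with h' | h' <;> rw [h, h'] <;> norm_num
    rw [hsq]
    push_cast
    rcases hδq with h | h <;> rw [h] <;> field_simp <;> ring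
  · -- all `g ψ i` vanish
    push Not at hiΘ
    have hconst : ∀ ψ, ψ ≠ o → ψ ≠ ν → g ψ i = 0 := by
      intro ψ hψo hψν
      have : i ≠ Θ ψ := fun h => hiΘ ψ hψo hψν h
      rw [h1.g_gen ψ hψo hψν, ev_ne' hi0, ev_ne' hiX, ev_ne' this]
      ring
    have hgν : g ν i = 0 := by
      rw [h1.g_ν, ev_ne' hi0, ev_ne' hiX, ev_ne' hiY₂, ev_ne' hiY₃]
      ring
    obtain ⟨hS, hT⟩ := sums_of_const hL h1 ε i 0 hconst hεo hεs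
    rw [hS, hT, hgν, ev_ne' hi0, ev_ne' hiX]
    simp

end Cfsg.Agent.Lib.Helper50.BSW
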