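import Mathlib
import Cfsg.Agent.Lib.Helper30.BSW.Defs

/-!
# Brauer–Suzuki–Wall (S3282), module [B4]: the number of pairs of involutions with product `x ∈ K ∖ 1`
-/

set_option autoImplicit false

namespace Cfsg.Agent.Lib.Helper50.BSW

open Cfsg.Agent.Lib.Helper30.BSW

variable {G : Type*} [Group G] {t s : G} {K : Subgroup G}

theorem sq_eq_one_of_orderOf_two {u : G} (hu : orderOf u = 2) : u * u = 1 := by
  have := pow_orderOf_eq_one u
  rw [hu, pow_two] at this
  exact this

theorem inv_eq_self_of_orderOf_two {u : G} (hu : orderOf u = 2) : u⁻¹ = u :=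
  inv_eq_of_mul_eq_one_left (sq_eq_one_of_orderOf_two hu)

theorem ne_one_of_orderOf_two {u : G} (hu : orderOf u = 2) : u ≠ 1 := by
  rintro rfl
  simp at hu

/-- **[B4]** -/
theorem card_invol_pairs [Finite G] (h : Hyp t s K) (b : Basic t s K) {x : G} (hx : x ∈ K) (hx1 : x ≠ 1) :
    Nat.card {p : G × G // orderOf p.1 = 2 ∧ orderOf p.2 = 2 ∧ p.1 * p.2 = x} = Nat.card K := by
  symm
  -- `s x = x⁻¹ s`
  have hsx : s * x = x⁻¹ * s := by
    have := h.hinv x hx
    rw [← this]; group
  have hf : ∀ y : ↥K, orderOf ((y : G) * s) = 2 ∧ orderOf ((y : G) * s * x) = 2 ∧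
      ((y : G) * s) * ((y : G) * s * x) = x := by
    intro y
    have h1 := b.invol_coset y y.2
    refine ⟨h1, ?_, ?_⟩
    · have : (y : G) * s * x = ((y : G) * x⁻¹) * s := by
        rw [mul_assoc, hsx, ← mul_assoc]
      rw [this]
      exact b.invol_coset _ (K.mul_mem y.2 (K.inv_mem hx))
    · have := sq_eq_one_of_orderOf_two h1
      calc ((y : G) * s) * ((y : G) * s * x) = (((y : G) * s) * ((y : G) * s)) * x := by group
        _ = x := by rw [this, one_mul]
  refine Nat.card_congr (Equiv.ofBijective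
    (fun y : ↥K => (⟨((y : G) * s, (y : G) * s * x), hf y⟩ :
      {p : G × G // orderOf p.1 = 2 ∧ orderOf p.2 = 2 ∧ p.1 * p.2 = x})) ⟨?_, ?_⟩)
  · intro y y' hyy
    simp only [Subtype.mk.injEq, Prod.mk.injEq] at hyy
    exact Subtype.ext (mul_right_cancel hyy.1)
  · rintro ⟨⟨u, v⟩, hu, hv, huv⟩
    simp only at hu hv huv
    have huinv := inv_eq_self_of_orderOf_two hu
    have hvinv := inv_eq_self_of_orderOf_two hv
    -- `u x u⁻¹ = x⁻¹`
    have hux : u * x * u⁻¹ = x⁻¹ := by
      rw [← huv, mul_inv_rev, huinv, hvinv]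
      have := sq_eq_one_of_orderOf_two hu
      calc u * (u * v) * u = (u * u) * v * u := by group
        _ = v * u := by rw [this, one_mul]
    have huH : u ∈ Subgroup.centralizer ({t} : Set G) := by
      apply b.ti u x hx hx1
      rw [hux]; exact K.inv_mem hx
    have hv' : v = u * x := by
      rw [← huv, ← mul_assoc, sq_eq_one_of_orderOf_two hu, one_mul]
    rcases (b.mem_H u).1 huH with huK | ⟨y, hy, rfl⟩
    · exfalso
      -- `u = t`, `x = t`, `v = 1`
      have hut : u = t := by
        rcases b.sq_eq_one u huK (sq_eq_one_of_orderOf_two hu) with h1 | h1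
        · exact absurd h1 (ne_one_of_orderOf_two hu)
        · exact h1
      have hxx : x * x = 1 := by
        have : u * x * u⁻¹ = x := by
          rw [b.comm u huK x hx]; group
        rw [this] at hux
        calc x * x = x * x⁻¹ := by rw [← hux]
          _ = 1 := mul_inv_cancel x
      have hxt : x = t := by
        rcases b.sq_eq_one x hx hxx with h1 | h1
        · exact absurd h1 hx1
        · exact h1
      apply ne_one_of_orderOf_two hv
      rw [hv', hut, hxt]
      exact sq_eq_one_of_orderOf_two h.ht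
    · refine ⟨⟨y, hy⟩, ?_⟩
      apply Subtype.ext
      exact Prod.ext rfl hv'.symm

end Cfsg.Agent.Lib.Helper50.BSW
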