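/-
helper50: project D4ISO (helper95, S1082), module D4ISO-[R-HOM], hypothesis form: `rhoM` is multiplicative on
isometries, given the three [R-BASIS] facts `coordT_bT`, `InL_bT`, `expand` as hypotheses.
-/
import Mathlib
import Cfsg.Agent.Lib.Helper95.D4Iso.Defs
import Cfsg.Agent.Lib.Helper50.D4IsoRAct

set_option autoImplicit false

namespace Cfsg.Agent.Lib.Helper50.D4Iso

open Matrix Cfsg.Lie Cfsg.Agent.Lib.Helper95.D4Iso

section ring
variable {R : Type*} [CommRing R]

theorem coordT_add' (p q : Matrix I8 I8 R × R) : coordT (p + q) = coordT p + coordT q := by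
  funext i
  rcases i with k | r
  · simp only [coordT, Prod.fst_add, Prod.snd_add, Matrix.add_apply, Pi.add_apply]
    split_ifs <;> ring
  · simp only [coordT, Prod.fst_add, Matrix.add_apply, Pi.add_apply]
    ring

theorem coordT_smul' (c : R) (p : Matrix I8 I8 R × R) : coordT (c • p) = c • coordT p := by
  funext i
  rcases i with k | r
  · simp only [coordT, Prod.smul_fst, Prod.smul_snd, Matrix.smul_apply, Pi.smul_apply, smul_eq_mul]
    split_ifs <;> ring
  · simp only [coordT, Prod.smul_fst, Matrix.smul_apply, Pi.smul_apply, smul_eq_mul]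
    ring

theorem coordT_sym' (S : Matrix I8 I8 R) (hS : Sᵀ = S) : coordT (S, (0 : R)) = 0 := by
  have hS' : ∀ a b, S a b = S b a := fun a b => by
    conv_lhs => rw [← hS]
    rfl
  funext i
  rcases i with k | r
  · simp only [coordT, Pi.zero_apply]
    rw [hS' (Sum.inl 0) (Sum.inr 0), hS' (Sum.inl 1) (Sum.inr 1), hS' (Sum.inl 3) (Sum.inr 3)]
    split_ifs <;> ring
  · simp only [coordT, Pi.zero_apply]
    rw [hS' (rootA r) (rootB r), sub_self, mul_zero]

theorem coordT_zero' : coordT ((0 : Matrix I8 I8 R × R)) = 0 := by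
  have := coordT_smul' (0 : R) (0 : Matrix I8 I8 R × R)
  rwa [zero_smul, zero_smul] at this

theorem coordT_sum' {ι : Type*} (s : Finset ι) (f : ι → Matrix I8 I8 R × R) :
    coordT (∑ k ∈ s, f k) = ∑ k ∈ s, coordT (f k) := by
  classical
  induction s using Finset.induction_on with
  | empty => rw [Finset.sum_empty, Finset.sum_empty, coordT_zero']
  | insert a s ha ih => rw [Finset.sum_insert ha, Finset.sum_insert ha, coordT_add', ih]

theorem actT_zero' (g : Matrix I8 I8 R) : actT g (0 : Matrix I8 I8 R × R) = 0 := by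
  have := actT_smul g (0 : R) (0 : Matrix I8 I8 R × R)
  rwa [zero_smul, zero_smul] at this

theorem actT_sum' {ι : Type*} (g : Matrix I8 I8 R) (s : Finset ι) (f : ι → Matrix I8 I8 R × R) :
    actT g (∑ k ∈ s, f k) = ∑ k ∈ s, actT g (f k) := by
  classical
  induction s using Finset.induction_on with
  | empty => rw [Finset.sum_empty, Finset.sum_empty, actT_zero']
  | insert a s ha ih => rw [Finset.sum_insert ha, Finset.sum_insert ha, actT_add, ih]

theorem rhoM_one_of
    (hbT : ∀ i j : chevD4.Idx, coordT (bT j : Matrix I8 I8 R × R) i = if i = j then 1 else 0) :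
    rhoM (1 : Matrix I8 I8 R) = 1 := by
  ext i j
  unfold rhoM
  rw [Matrix.of_apply, actT_one, hbT, Matrix.one_apply]

theorem rhoM_mul_of
    (hInL : ∀ j : chevD4.Idx, InL (bT j : Matrix I8 I8 R × R))
    (hexp : ∀ p : Matrix I8 I8 R × R, InL p →
      ∃ S : Matrix I8 I8 R, Sᵀ = S ∧ p = (∑ i, coordT p i • (bT i : Matrix I8 I8 R × R)) + (S, 0))
    (g h : Matrix I8 I8 R) (hg : IsIsom g) (hh : IsIsom h) :
    rhoM (g * h) = rhoM g * rhoM h := by
  ext i j
  unfold rhoM
  rw [Matrix.of_apply, Matrix.mul_apply, actT_mul]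
  obtain ⟨S, hS, hq⟩ := hexp (actT h (bT j)) (InL_actT h hh _ (hInL j))
  obtain ⟨S', hS', hS2⟩ := actT_sym g hg S hS
  have e : actT g (actT h (bT j)) =
      (∑ k, coordT (actT h (bT j)) k • actT g (bT k : Matrix I8 I8 R × R)) + (S', 0) := by
    conv_lhs => rw [hq]
    rw [actT_add, actT_sum', hS2]
    congr 1
    refine Finset.sum_congr rfl fun k _ => ?_
    rw [actT_smul]
  rw [e, coordT_add', coordT_sym' S' hS', add_zero, coordT_sum', Finset.sum_apply]
  refine Finset.sum_congr rfl fun k _ => ?_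
  rw [coordT_smul', Pi.smul_apply, smul_eq_mul, Matrix.of_apply, Matrix.of_apply, mul_comm]

end ring

end Cfsg.Agent.Lib.Helper50.D4Iso
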