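/-
helper50: project D4ISO (helper95, S1082), module D4ISO-[R-KER2], hypothesis form: an isometry acting trivially on the
tensor model `L` is scalar, and the scalar isometries act trivially; the [R-BASIS] facts `coordT_bT`, `InL_bT`,
`expand` are hypotheses.
-/
import Mathlib
import Cfsg.Agent.Lib.Helper95.D4Iso.Defs
import Cfsg.Agent.Lib.Helper50.D4IsoRAct
import Cfsg.Agent.Lib.Helper50.D4IsoRHomOf

set_option autoImplicit false

namespace Cfsg.Agent.Lib.Helper50.D4Iso

open Matrix Cfsg.Lie Cfsg.Agent.Lib.Helper95.D4Iso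

/-- every non-opposite pair of distinct indices is the pair of a root, in one of the two orders -/
theorem pair_cases : ∀ a b : I8, a ≠ b → a ≠ opp b →
    ∃ r : Fin 24, (a = rootA r ∧ b = rootB r) ∨ (a = rootB r ∧ b = rootA r) := by
  decide +kernel

theorem exists_third : ∀ A B : I8, ∃ C : I8, C ≠ A ∧ C ≠ opp A ∧ C ≠ B ∧ C ≠ opp B := by
  decide +kernel

theorem rootSg_mul_self : ∀ r : Fin 24, rootSg r * rootSg r = 1 := by
  decide +kernel

section field
variable {F : Type*} [Field F]

/-- the relation `g_A g_Bᵀ − g_B g_Aᵀ = E_{AB} − E_{BA}` between the columns `A`, `B` of `g` -/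
def Star (g : Matrix I8 I8 F) (A B : I8) : Prop :=
  ∀ c d : I8, g c A * g d B - g d A * g c B =
    (if c = A ∧ d = B then 1 else 0) - (if c = B ∧ d = A then 1 else 0)

theorem Star.symm {g : Matrix I8 I8 F} {A B : I8} (h : Star g A B) : Star g B A := by
  intro c d
  have := h c d
  linear_combination -this

theorem conj_single_apply (g : Matrix I8 I8 F) (A B c d : I8) :
    (g * Matrix.single A B (1 : F) * gᵀ) c d = g c A * g d B := by
  rw [single_eq_single_vecMulVec_single, mul_vecMulVec, vecMulVec_mul, vecMulVec_apply, mulVec_single_one,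
    single_one_vecMul, col_apply, row_apply, transpose_apply]

theorem star_of_root
    (hInL : ∀ j : chevD4.Idx, InL (bT j : Matrix I8 I8 F × F))
    (hexp : ∀ p : Matrix I8 I8 F × F, InL p →
      ∃ S : Matrix I8 I8 F, Sᵀ = S ∧ p = (∑ i, coordT p i • (bT i : Matrix I8 I8 F × F)) + (S, 0))
    (g : Matrix I8 I8 F) (hg : IsIsom g) (h : rhoM g = 1) (r : Fin chevD4.nroots) :
    Star g (rootA r) (rootB r) := by
  obtain ⟨S, hS, hq⟩ := hexp (actT g (bT (Sum.inr r))) (InL_actT g hg _ (hInL _))
  have hS' : ∀ a b, S a b = S b a := fun a b => by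
    conv_lhs => rw [← hS]
    rfl
  have hc : ∀ i : chevD4.Idx, coordT (actT g (bT (Sum.inr r) : Matrix I8 I8 F × F)) i =
      if i = Sum.inr r then 1 else 0 := by
    intro i
    have := congrFun (congrFun h i) (Sum.inr r)
    rwa [Matrix.one_apply] at this
  have hsum : (∑ i, coordT (actT g (bT (Sum.inr r) : Matrix I8 I8 F × F)) i • (bT i : Matrix I8 I8 F × F)) =
      bT (Sum.inr r) := by
    rw [Finset.sum_eq_single (Sum.inr r)]
    · rw [hc, if_pos rfl, one_smul]
    · intro b _ hb
      rw [hc, if_neg hb, zero_smul]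
    · intro hn
      exact absurd (Finset.mem_univ _) hn
  rw [hsum] at hq
  have h1 := congrArg Prod.fst hq
  have hsg : ((rootSg r : ℤ) : F) * ((rootSg r : ℤ) : F) = 1 := by
    have hz : rootSg r * rootSg r = 1 := rootSg_mul_self r
    rw [← Int.cast_mul, hz, Int.cast_one]
  have h2 : g * Matrix.single (rootA r) (rootB r) (1 : F) * gᵀ =
      Matrix.single (rootA r) (rootB r) (1 : F) + ((rootSg r : ℤ) : F) • S := by
    have h3 : ((rootSg r : ℤ) : F) • (g * Matrix.single (rootA r) (rootB r) (1 : F) * gᵀ) =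
        ((rootSg r : ℤ) : F) • Matrix.single (rootA r) (rootB r) (1 : F) + S := by
      have : (actT g (bT (Sum.inr r) : Matrix I8 I8 F × F)).1 =
          ((rootSg r : ℤ) : F) • (g * Matrix.single (rootA r) (rootB r) (1 : F) * gᵀ) := by
        simp only [actT, bT, Matrix.mul_smul, Matrix.smul_mul]
      rw [← this, h1]
      simp only [bT, Prod.fst_add]
    have h4 := congrArg (fun M => ((rootSg r : ℤ) : F) • M) h3
    simp only [smul_smul, smul_add, hsg, one_smul] at h4
    exact h4
  intro c d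
  have e1 := congrFun (congrFun h2 c) d
  have e2 := congrFun (congrFun h2 d) c
  rw [conj_single_apply, Matrix.add_apply, Matrix.smul_apply, Matrix.single_apply] at e1 e2
  rw [e1, e2, hS' c d]
  have i1 : (rootA r = d ∧ rootB r = c) ↔ (c = rootB r ∧ d = rootA r) :=
    ⟨fun h => ⟨h.2.symm, h.1.symm⟩, fun h => ⟨h.2.symm, h.1.symm⟩⟩
  have i2 : (rootA r = c ∧ rootB r = d) ↔ (c = rootA r ∧ d = rootB r) :=
    ⟨fun h => ⟨h.1.symm, h.2.symm⟩, fun h => ⟨h.1.symm, h.2.symm⟩⟩
  simp only [i1, i2]
  ring

/-- the algebraic core: the relations `Star` for all non-opposite pairs force `g` to be scalar -/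
theorem scalar_of_star (g : Matrix I8 I8 F)
    (hst : ∀ A B : I8, A ≠ B → A ≠ opp B → Star g A B) : ∃ c : F, g = c • (1 : Matrix I8 I8 F) := by
  -- off-diagonal entries vanish
  have hoff : ∀ A c : I8, c ≠ A → g c A = 0 := by
    intro A c hcA
    obtain ⟨B, hBA, hBA', hBc, -⟩ := exists_third A c
    have hAB : A ≠ B := Ne.symm hBA
    have hAB' : A ≠ opp B := by
      intro h
      apply hBA'
      rw [h, opp_opp]
    have hs := hst A B hAB hAB'
    have h1 := hs c B
    have h2 := hs c A
    have h3 := hs A B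
    rw [if_neg (fun h => hcA h.1), if_neg (fun h => hBA h.2), sub_zero] at h1
    rw [if_neg (fun h => hcA h.1), if_neg (fun h => hBc h.1.symm), sub_zero] at h2
    rw [if_pos ⟨rfl, rfl⟩, if_neg (fun h => hAB h.1), sub_zero] at h3
    have : g c A = g c A * (g A A * g B B - g B A * g A B) := by rw [h3, mul_one]
    rw [this]
    linear_combination g A A * h1 - g B A * h2
  -- products of diagonal entries
  have hdiag : ∀ A B : I8, A ≠ B → A ≠ opp B → g A A * g B B = 1 := by
    intro A B hAB hAB'
    have h3 := hst A B hAB hAB' A B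
    rw [if_pos ⟨rfl, rfl⟩, if_neg (fun h => hAB h.1), sub_zero, hoff A B (Ne.symm hAB), zero_mul, sub_zero] at h3
    exact h3
  have heq : ∀ A B : I8, g A A = g B B := by
    intro A B
    obtain ⟨C, hCA, hCA', hCB, hCB'⟩ := exists_third A B
    have hA := hdiag A C (Ne.symm hCA) (by intro h; apply hCA'; rw [h, opp_opp])
    have hB := hdiag B C (Ne.symm hCB) (by intro h; apply hCB'; rw [h, opp_opp])
    have hC : g C C ≠ 0 := by
      intro h0
      rw [h0, mul_zero] at hA
      exact zero_ne_one hA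
    exact mul_right_cancel₀ hC (hA.trans hB.symm)
  refine ⟨g (Sum.inl 0) (Sum.inl 0), ?_⟩
  ext a b
  rw [Matrix.smul_apply, Matrix.one_apply, smul_eq_mul]
  by_cases hab : a = b
  · subst hab
    rw [if_pos rfl, mul_one]
    exact heq _ _
  · rw [if_neg hab, mul_zero]
    exact hoff b a hab

/-- an isometry acting trivially on `L` is scalar ([R-BASIS] facts as hypotheses) -/
theorem scalar_of_rhoM_eq_one_of
    (hInL : ∀ j : chevD4.Idx, InL (bT j : Matrix I8 I8 F × F))
    (hexp : ∀ p : Matrix I8 I8 F × F, InL p →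
      ∃ S : Matrix I8 I8 F, Sᵀ = S ∧ p = (∑ i, coordT p i • (bT i : Matrix I8 I8 F × F)) + (S, 0))
    (g : Matrix I8 I8 F) (hg : IsIsom g) (h : rhoM g = 1) :
    ∃ c : F, g = c • (1 : Matrix I8 I8 F) := by
  apply scalar_of_star
  intro A B hAB hAB'
  obtain ⟨r, ⟨rfl, rfl⟩ | ⟨rfl, rfl⟩⟩ := pair_cases A B hAB hAB'
  · exact star_of_root hInL hexp g hg h r
  · exact (star_of_root hInL hexp g hg h r).symm

theorem rhoM_scalar_of
    (hbT : ∀ i j : chevD4.Idx, coordT (bT j : Matrix I8 I8 F × F) i = if i = j then 1 else 0)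
    (c : F) (hc : IsIsom (c • (1 : Matrix I8 I8 F))) :
    rhoM (c • (1 : Matrix I8 I8 F)) = 1 := by
  have hc2 : c * c = 1 := by
    have h := hc (Pi.single (Sum.inl 0) 1 + Pi.single (Sum.inr 0) 1)
    rw [smul_mulVec, one_mulVec] at h
    have hQ : Qr (Pi.single (Sum.inl 0) 1 + Pi.single (Sum.inr 0) 1 : I8 → F) = 1 := by
      unfold Qr
      rw [Finset.sum_eq_single (0 : Fin 4)]
      · simp
      · intro b _ hb
        have : (Pi.single (Sum.inl 0) 1 + Pi.single (Sum.inr 0) 1 : I8 → F) (Sum.inl b) = 0 := by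
          simp [hb]
        rw [this, zero_mul]
      · intro hn
        exact absurd (Finset.mem_univ _) hn
    have hQ2 : Qr (c • (Pi.single (Sum.inl 0) 1 + Pi.single (Sum.inr 0) 1 : I8 → F)) =
        c * c * Qr (Pi.single (Sum.inl 0) 1 + Pi.single (Sum.inr 0) 1 : I8 → F) := by
      unfold Qr
      rw [Finset.mul_sum]
      refine Finset.sum_congr rfl fun i _ => ?_
      simp only [Pi.smul_apply, smul_eq_mul]
      ring
    rw [hQ2, hQ, mul_one] at h
    exact h
  have hact : ∀ p : Matrix I8 I8 F × F, actT (c • (1 : Matrix I8 I8 F)) p = p := by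
    intro p
    have hD : Dl (c • (1 : Matrix I8 I8 F)) = 0 := by
      unfold Dl
      rw [transpose_smul, transpose_one, Matrix.smul_mul, Matrix.one_mul, Matrix.mul_smul, Matrix.mul_one,
        smul_smul, hc2, one_smul, sub_self]
    unfold actT
    rw [hD, Matrix.mul_zero, trace_zero, sub_zero, transpose_smul, transpose_one, Matrix.smul_mul, Matrix.one_mul,
      Matrix.mul_smul, Matrix.mul_one, smul_smul, hc2, one_smul]
  ext i j
  unfold rhoM
  rw [Matrix.of_apply, hact, hbT, Matrix.one_apply]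

end field

end Cfsg.Agent.Lib.Helper50.D4Iso
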