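/-
helper50: project D4ISO (helper95, S1082), module D4ISO-[R-KER2]: an isometry acting trivially on the tensor model `L`
is scalar, and the scalar isometries act trivially.
-/
import Mathlib
import Cfsg.Agent.Lib.Helper95.D4Iso.Defs
import Cfsg.Agent.Lib.Helper91.D4IsoRBasis
import Cfsg.Agent.Lib.Helper50.D4IsoRKer2Of

set_option autoImplicit false

namespace Cfsg.Agent.Lib.Helper50.D4Iso

open Matrix Cfsg.Lie Cfsg.Agent.Lib.Helper95.D4Iso

variable {F : Type*} [Field F]

/-- an isometry acting trivially on `L` is scalar -/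
theorem scalar_of_rhoM_eq_one (g : Matrix I8 I8 F) (hg : IsIsom g) (h : rhoM g = 1) :
    ∃ c : F, g = c • (1 : Matrix I8 I8 F) :=
  scalar_of_rhoM_eq_one_of Cfsg.Agent.Lib.Helper91.D4Iso.InL_bT Cfsg.Agent.Lib.Helper91.D4Iso.expand g hg h

theorem rhoM_scalar (c : F) (hc : IsIsom (c • (1 : Matrix I8 I8 F))) :
    rhoM (c • (1 : Matrix I8 I8 F)) = 1 :=
  rhoM_scalar_of Cfsg.Agent.Lib.Helper91.D4Iso.coordT_bT c hc

end Cfsg.Agent.Lib.Helper50.D4Iso
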