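import Mathlib
import Cfsg.Prelude.Def_OddOrderLocal
import Cfsg.Agent.S1453
import Cfsg.Agent.Lib.Helper24.ElemAb
import Cfsg.Agent.Lib.Helper54.UqNine4

/-!
# Centralizers of maximal elementary abelian subgroups of order `p ^ 2` (helper50 library)

BG Lemma 5.3 (c) and its use in BG Theorem 11.5 (case `Ω₁(Z(P)) = A`): if `R` is a `p`-group, `p` odd, which
either has rank at least three or is abelian / a central product `p^{1+2} ∘ cyclic`, and `E` is a maximal
elementary abelian subgroup of `R` of order `p ^ 2`, then `C_R(E)` is abelian.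
-/

set_option autoImplicit false

namespace Cfsg.Agent.Lib.Helper50

open Cfsg

section

variable {R : Type*} [Group R]

/-- an element of order dividing `p` commuting with a maximal elementary abelian subgroup lies in it -/
theorem mem_of_commute_of_maximal_elemAb {p : ℕ} (E : Subgroup R) (hE : IsElementaryAbelian p E)
    (hmax : ∀ B : Subgroup R, IsElementaryAbelian p B → E ≤ B → B = E) (y : R) (hy : y ^ p = 1)
    (hc : ∀ e ∈ E, y * e = e * y) : y ∈ E := by
  have hB := Cfsg.Agent.Lib.Helper24.elemAb_closure p ((E : Set R) ∪ {y})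
    (by
      rintro s (hs | hs) t (ht | ht)
      · have := hE.1.is_comm.comm ⟨s, hs⟩ ⟨t, ht⟩
        exact congrArg Subtype.val this
      · rw [Set.mem_singleton_iff.mp ht]; exact (hc s hs).symm
      · rw [Set.mem_singleton_iff.mp hs]; exact hc t ht
      · rw [Set.mem_singleton_iff.mp hs, Set.mem_singleton_iff.mp ht])
    (by
      rintro s (hs | hs)
      · exact hE.2 s hs
      · rw [Set.mem_singleton_iff.mp hs]; exact hy)
  have hle : E ≤ Subgroup.closure ((E : Set R) ∪ {y}) := fun e he =>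
    Subgroup.subset_closure (Or.inl he)
  have := hmax _ hB hle
  rw [← this]
  exact Subgroup.subset_closure (Or.inr rfl)

end

section

variable {R : Type*} [Group R] [Finite R]

/-- **BG Lemma 5.3 (c)**: in a `p`-group of rank at least three, `p` odd, the centralizer of a maximal elementary
abelian subgroup of order `p ^ 2` is abelian. -/
theorem commute_of_mem_centralizer_of_rank_three (p : ℕ) [Fact p.Prime] (hp : p ≠ 2) (hR : IsPGroup p R)
    (hr : ¬ PRankLE p 2 R) (E : Subgroup R) (hE : IsElementaryAbelian p E) (hE2 : Nat.card E = p ^ 2)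
    (hmax : ∀ B : Subgroup R, IsElementaryAbelian p B → E ≤ B → B = E) :
    ∀ c ∈ Subgroup.centralizer (E : Set R), ∀ c' ∈ Subgroup.centralizer (E : Set R), c * c' = c' * c := by
  have hpp : p.Prime := Fact.out
  obtain ⟨hET, hZc, -, hTchar, hTidx⟩ := Cfsg.Agent.S1453.result p hp hR hr E hE hE2 hmax
  obtain ⟨T, hT⟩ : ∃ T : Subgroup R, T = Subgroup.centralizer
      ((Subgroup.closure {x : R | x ∈ Subgroup.upperCentralSeries R 2 ∧ x ^ p = 1} : Subgroup R) : Set R) :=
    ⟨_, rfl⟩
  obtain ⟨Z, hZ⟩ : ∃ Z : Subgroup R, Z = Subgroup.closure {x : R | x ∈ Subgroup.center R ∧ x ^ p = 1} :=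
    ⟨_, rfl⟩
  rw [← hT] at hET hTchar hTidx
  rw [← hZ] at hZc
  have hTn : T.Normal := by
    have := hTchar
    infer_instance
  have hmemZ : ∀ g : R, g ∈ Z ↔ g ∈ Subgroup.center R ∧ g ^ p = 1 := by
    intro g; rw [hZ]; exact Cfsg.Agent.S1453.mem_omZ p g
  -- `Z ≤ E` and `Z ≤ T`
  have hZE : Z ≤ E := by
    intro z hz
    obtain ⟨hzc, hzp⟩ := (hmemZ z).mp hz
    exact mem_of_commute_of_maximal_elemAb E hE hmax z hzp
      (fun e _ => (Subgroup.mem_center_iff.mp hzc e).symm)
  have hZT : Z ≤ T := by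
    intro z hz
    obtain ⟨hzc, -⟩ := (hmemZ z).mp hz
    rw [hT, Subgroup.mem_centralizer_iff]
    intro w _
    exact Subgroup.mem_center_iff.mp hzc w
  -- `x ∈ E`, `x ∉ T`
  obtain ⟨x, hxE, hxT⟩ := SetLike.not_le_iff_exists.mp hET
  -- `E ⊓ T = Z`
  have hETZ : E ⊓ T = Z := by
    symm
    apply Subgroup.eq_of_le_of_card_ge (le_inf hZE hZT)
    rw [hZc]
    have h1 : Nat.card ↥(E ⊓ T) ∣ p ^ 2 := by
      rw [← hE2]; exact Subgroup.card_dvd_of_le inf_le_left
    obtain ⟨k, hk, hkc⟩ := (Nat.dvd_prime_pow hpp).mp h1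
    have hlt : Nat.card ↥(E ⊓ T) < Nat.card E := by
      have hne : E ⊓ T ≠ E := by
        intro h
        exact hxT ((h ▸ (inf_le_right : E ⊓ T ≤ T)) hxE)
      have hlt' : E ⊓ T < E := lt_of_le_of_ne inf_le_left hne
      by_contra hge
      push Not at hge
      exact hlt'.ne (Subgroup.eq_of_le_of_card_ge inf_le_left hge)
    rw [hkc, hE2] at hlt
    have hk1 : k < 2 := (Nat.pow_lt_pow_iff_right hpp.one_lt).mp hlt
    rw [hkc]
    calc p ^ k ≤ p ^ 1 := Nat.pow_le_pow_right hpp.pos (by omega)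
      _ = p := pow_one p
  -- elements of order dividing `p` in `D = T ⊓ C(E)` lie in `Z`
  obtain ⟨D, hD⟩ : ∃ D : Subgroup R, D = T ⊓ Subgroup.centralizer (E : Set R) := ⟨_, rfl⟩
  have hDZ : ∀ y ∈ D, y ^ p = 1 → y ∈ Z := by
    intro y hy hyp
    rw [hD] at hy
    have hyE : y ∈ E := mem_of_commute_of_maximal_elemAb E hE hmax y hyp
      (fun e he => (Subgroup.mem_centralizer_iff.mp hy.2 e he).symm)
    rw [← hETZ]
    exact ⟨hyE, hy.1⟩
  -- `D` is cyclic
  have hDcyc : IsCyclic D := by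
    by_contra hnc
    obtain ⟨F, hFD, -, hFe, hFcard⟩ :=
      Cfsg.Agent.Lib.Helper54.exists_elemAb_sq_of_not_isCyclic hp D (hR.to_subgroup D) hnc
    have hFZ : F ≤ Z := fun f hf => hDZ f (hFD hf) (hFe f hf)
    have h1 : Nat.card F ≤ Nat.card Z := Subgroup.card_le_of_le hFZ
    rw [hZc] at h1
    have : p < p ^ 2 := by
      have := hpp.two_le
      nlinarith
    omega
  have hDcomm : ∀ a ∈ D, ∀ b ∈ D, a * b = b * a := by
    intro a ha b hb
    have := hDcyc.commGroup.mul_comm (⟨a, ha⟩ : D) ⟨b, hb⟩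
    exact congrArg Subtype.val this
  -- decomposition `c = t * x ^ k`
  have hquot : Nat.card (R ⧸ T) = p := by rw [← Subgroup.index_eq_card]; exact hTidx
  have hx1 : (QuotientGroup.mk' T x) ≠ 1 := by
    intro h
    exact hxT ((QuotientGroup.eq_one_iff x).mp h)
  have hdecomp : ∀ c : R, ∃ k : ℤ, c * (x ^ k)⁻¹ ∈ T := by
    intro c
    have := mem_zpowers_of_prime_card (g' := QuotientGroup.mk' T c) hquot hx1
    obtain ⟨k, hk⟩ := Subgroup.mem_zpowers_iff.mp this
    refine ⟨k, ?_⟩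
    rw [← QuotientGroup.eq_one_iff]
    have h2 : ((c * (x ^ k)⁻¹ : R) : R ⧸ T) = QuotientGroup.mk' T c * ((QuotientGroup.mk' T x) ^ k)⁻¹ := by
      simp
    rw [h2, hk]
    simp
  have hxC : x ∈ Subgroup.centralizer (E : Set R) := by
    rw [Subgroup.mem_centralizer_iff]
    intro e he
    have := hE.1.is_comm.comm ⟨e, he⟩ ⟨x, hxE⟩
    exact congrArg Subtype.val this
  intro c hc c' hc'
  obtain ⟨k, hk⟩ := hdecomp c
  obtain ⟨l, hl⟩ := hdecomp c'
  have hxk : ∀ n : ℤ, x ^ n ∈ Subgroup.centralizer (E : Set R) := fun n =>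
    Subgroup.zpow_mem _ hxC n
  have htD : c * (x ^ k)⁻¹ ∈ D := by
    rw [hD]; exact ⟨hk, Subgroup.mul_mem _ hc (Subgroup.inv_mem _ (hxk k))⟩
  have ht'D : c' * (x ^ l)⁻¹ ∈ D := by
    rw [hD]; exact ⟨hl, Subgroup.mul_mem _ hc' (Subgroup.inv_mem _ (hxk l))⟩
  -- `x ^ n` commutes with elements of `D`
  have hxD : ∀ n : ℤ, ∀ d ∈ D, x ^ n * d = d * x ^ n := by
    intro n d hd
    rw [hD] at hd
    have h1 : d * x = x * d := (Subgroup.mem_centralizer_iff.mp hd.2 x hxE).symm
    have : Commute x d := h1.symm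
    exact (this.zpow_left n).eq
  set t := c * (x ^ k)⁻¹ with ht
  set t' := c' * (x ^ l)⁻¹ with ht'
  have e1 : c = t * x ^ k := by rw [ht]; group
  have e2 : c' = t' * x ^ l := by rw [ht']; group
  rw [e1, e2]
  have h3 := hxD k t' ht'D
  have h4 := hxD l t htD
  have h5 := hDcomm t htD t' ht'D
  have h6 : x ^ k * x ^ l = x ^ l * x ^ k := by rw [← zpow_add, ← zpow_add, add_comm]
  calc t * x ^ k * (t' * x ^ l) = t * (x ^ k * t') * x ^ l := by group
    _ = t * (t' * x ^ k) * x ^ l := by rw [h3]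
    _ = (t * t') * (x ^ k * x ^ l) := by group
    _ = (t' * t) * (x ^ l * x ^ k) := by rw [h5, h6]
    _ = t' * (t * x ^ l) * x ^ k := by group
    _ = t' * (x ^ l * t) * x ^ k := by rw [h4]
    _ = t' * x ^ l * (t * x ^ k) := by group

omit [Finite R] in
/-- the central product case: `R = P₁ P₂` with `P₁` of exponent `p`, `P₂` abelian, `[P₁, P₂] = 1` and
`Ω₁(P₂) ≤ P₁` -/
theorem commute_of_mem_centralizer_of_central_product (p : ℕ) (E : Subgroup R)
    (hE : IsElementaryAbelian p E)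
    (hmax : ∀ B : Subgroup R, IsElementaryAbelian p B → E ≤ B → B = E) (P₁ P₂ : Subgroup R)
    (htop : P₁ ⊔ P₂ = ⊤) (hcomm : ∀ a ∈ P₁, ∀ b ∈ P₂, a * b = b * a) (hexp : ∀ a ∈ P₁, a ^ p = 1)
    (hP₂c : ∀ a ∈ P₂, ∀ b ∈ P₂, a * b = b * a) (hΩ : ∀ x ∈ P₂, x ^ p = 1 → x ∈ P₁) :
    ∀ c ∈ Subgroup.centralizer (E : Set R), ∀ c' ∈ Subgroup.centralizer (E : Set R), c * c' = c' * c := by
  have hP₂n : P₂.Normal := by
    rw [← Subgroup.normalizer_eq_top_iff, eq_top_iff, ← htop]
    apply sup_le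
    · intro a ha
      apply Subgroup.centralizer_le_normalizer
      rw [Subgroup.mem_centralizer_iff]
      intro b hb
      exact (hcomm a ha b hb).symm
    · exact Subgroup.le_normalizer
  have hdec : ∀ g : R, ∃ s₁ ∈ P₁, ∃ s₂ ∈ P₂, s₁ * s₂ = g := by
    intro g
    have hg : g ∈ P₁ ⊔ P₂ := by rw [htop]; exact Subgroup.mem_top g
    exact Subgroup.mem_sup_of_normal_right.mp hg
  have hEP₁ : E ≤ P₁ := by
    intro e he
    obtain ⟨s₁, hs₁, s₂, hs₂, rfl⟩ := hdec e
    have hc : Commute s₁ s₂ := hcomm s₁ hs₁ s₂ hs₂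
    have h1 := hE.2 _ he
    rw [hc.mul_pow, hexp s₁ hs₁, one_mul] at h1
    exact P₁.mul_mem hs₁ (hΩ s₂ hs₂ h1)
  have hform : ∀ c ∈ Subgroup.centralizer (E : Set R), ∃ e ∈ E, ∃ s₂ ∈ P₂, e * s₂ = c := by
    intro c hc
    obtain ⟨s₁, hs₁, s₂, hs₂, rfl⟩ := hdec c
    refine ⟨s₁, ?_, s₂, hs₂, rfl⟩
    apply mem_of_commute_of_maximal_elemAb E hE hmax s₁ (hexp s₁ hs₁)
    intro e he
    have h1 : e * (s₁ * s₂) = s₁ * s₂ * e := Subgroup.mem_centralizer_iff.mp hc e he
    have h2 : e * s₂ = s₂ * e := hcomm e (hEP₁ he) s₂ hs₂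
    have h3 : e * s₁ * s₂ = s₁ * e * s₂ := by
      calc e * s₁ * s₂ = e * (s₁ * s₂) := by group
        _ = s₁ * s₂ * e := h1
        _ = s₁ * (s₂ * e) := by group
        _ = s₁ * (e * s₂) := by rw [h2]
        _ = s₁ * e * s₂ := by group
    exact (mul_right_cancel h3).symm
  intro c hc c' hc'
  obtain ⟨e, he, s, hs, rfl⟩ := hform c hc
  obtain ⟨e', he', s', hs', rfl⟩ := hform c' hc'
  have h1 : e * e' = e' * e := by
    have := hE.1.is_comm.comm ⟨e, he⟩ ⟨e', he'⟩
    exact congrArg Subtype.val this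
  have h2 : s * s' = s' * s := hP₂c s hs s' hs'
  have h3 : s * e' = e' * s := (hcomm e' (hEP₁ he') s hs).symm
  have h4 : s' * e = e * s' := (hcomm e (hEP₁ he) s' hs').symm
  calc e * s * (e' * s') = e * (s * e') * s' := by group
    _ = e * (e' * s) * s' := by rw [h3]
    _ = (e * e') * (s * s') := by group
    _ = (e' * e) * (s' * s) := by rw [h1, h2]
    _ = e' * (e * s') * s := by group
    _ = e' * (s' * e) * s := by rw [h4]
    _ = e' * s' * (e * s) := by group

end

section

variable {G : Type*} [Group G] [Finite G]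

/-- **BG Lemma 5.3 (c) / Theorem 11.5, case `A ≤ Z(P)`**: let `S` be a `p`-subgroup of `G`, `p` odd, which is
abelian or a central product as in statement S1412 whenever it has rank at most two, and `A ≤ S` a maximal
elementary abelian subgroup of `S` of order `p ^ 2`. Then `C_S(A)` is abelian. -/
theorem commute_of_mem_inf_centralizer (p : ℕ) [Fact p.Prime] (hp : p ≠ 2) (S : Subgroup G)
    (hS : IsPGroup p S) (A : Subgroup G) (hAS : A ≤ S) (hA : IsElementaryAbelian p A)
    (hA2 : Nat.card A = p ^ 2)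
    (hmax : ∀ B : Subgroup G, B ≤ S → IsElementaryAbelian p B → A ≤ B → B = A)
    (h1412 : PRankLE p 2 ↥S → IsMulCommutative S ∨ ∃ P₁ P₂ : Subgroup G, P₁ ⊔ P₂ = S ∧
      (∀ a ∈ P₁, ∀ b ∈ P₂, a * b = b * a) ∧ ¬ IsMulCommutative P₁ ∧ Nat.card P₁ = p ^ 3 ∧
      Monoid.exponent P₁ = p ∧ IsCyclic P₂ ∧
      Subgroup.closure {x : G | x ∈ P₂ ∧ x ^ p = 1} = P₁ ⊓ Subgroup.centralizer (P₁ : Set G)) :
    ∀ c ∈ S ⊓ Subgroup.centralizer (A : Set G), ∀ c' ∈ S ⊓ Subgroup.centralizer (A : Set G),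
      c * c' = c' * c := by
  -- transport to the type `↥S`
  have hE : IsElementaryAbelian p (A.subgroupOf S) := by
    refine ⟨⟨⟨fun a b => ?_⟩⟩, fun a ha => ?_⟩
    · apply Subtype.ext
      apply Subtype.ext
      have h := congrArg Subtype.val (hA.1.is_comm.comm ⟨(a : S), a.2⟩ ⟨(b : S), b.2⟩)
      simpa using h
    · apply Subtype.ext
      have := hA.2 (a : G) (Subgroup.mem_subgroupOf.mp ha)
      simpa using this
  have hE2 : Nat.card (A.subgroupOf S) = p ^ 2 := by
    rw [← hA2]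
    exact Nat.card_congr (Subgroup.subgroupOfEquivOfLe hAS).toEquiv
  have hEmax : ∀ B : Subgroup S, IsElementaryAbelian p B → A.subgroupOf S ≤ B → B = A.subgroupOf S := by
    intro B hB hAB
    have hB' : IsElementaryAbelian p (B.map S.subtype) := by
      have := hB.1
      refine ⟨Subgroup.map_isMulCommutative B _, ?_⟩
      rintro _ ⟨b, hb, rfl⟩
      rw [← map_pow, hB.2 b hb, map_one]
    have hAB' : A ≤ B.map S.subtype := by
      intro a ha
      exact ⟨⟨a, hAS ha⟩, hAB (Subgroup.mem_subgroupOf.mpr ha), rfl⟩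
    have h1 := hmax _ (Subgroup.map_subtype_le B) hB' hAB'
    ext b
    rw [Subgroup.mem_subgroupOf, ← h1]
    constructor
    · intro hb; exact ⟨b, hb, rfl⟩
    · rintro ⟨b', hb', hbb'⟩
      have : b' = b := Subtype.ext hbb'
      rwa [← this]
  have key : ∀ c ∈ Subgroup.centralizer ((A.subgroupOf S : Subgroup S) : Set S),
      ∀ c' ∈ Subgroup.centralizer ((A.subgroupOf S : Subgroup S) : Set S), c * c' = c' * c := by
    by_cases hr : PRankLE p 2 ↥S
    · rcases h1412 hr with hc | ⟨P₁, P₂, hsup, hcomm, -, -, hexp, hcyc, hΩ⟩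
      · intro c _ c' _
        exact hc.is_comm.comm c c'
      · have hP₁S : P₁ ≤ S := hsup ▸ le_sup_left
        have hP₂S : P₂ ≤ S := hsup ▸ le_sup_right
        apply commute_of_mem_centralizer_of_central_product p _ hE hEmax
          (P₁.subgroupOf S) (P₂.subgroupOf S)
        · rw [← Subgroup.subgroupOf_sup hP₁S hP₂S, hsup, Subgroup.subgroupOf_self]
        · intro a ha b hb
          apply Subtype.ext
          exact hcomm a (Subgroup.mem_subgroupOf.mp ha) b (Subgroup.mem_subgroupOf.mp hb)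
        · intro a ha
          apply Subtype.ext
          have h1 : (⟨(a : G), Subgroup.mem_subgroupOf.mp ha⟩ : P₁) ^ p = 1 := by
            rw [← hexp]; exact Monoid.pow_exponent_eq_one _
          have := congrArg Subtype.val h1
          simpa using this
        · intro a ha b hb
          apply Subtype.ext
          have h := congrArg Subtype.val
            (hcyc.commGroup.mul_comm (⟨(a : G), Subgroup.mem_subgroupOf.mp ha⟩ : P₂)
              ⟨(b : G), Subgroup.mem_subgroupOf.mp hb⟩)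
          simpa using h
        · intro x hx hxp
          rw [Subgroup.mem_subgroupOf]
          have h1 : (x : G) ∈ Subgroup.closure {y : G | y ∈ P₂ ∧ y ^ p = 1} := by
            apply Subgroup.subset_closure
            refine ⟨Subgroup.mem_subgroupOf.mp hx, ?_⟩
            have := congrArg Subtype.val hxp
            simpa using this
          rw [hΩ] at h1
          exact h1.1
    · exact commute_of_mem_centralizer_of_rank_three p hp hS hr _ hE hE2 hEmax
  intro c hc c' hc'
  have h1 : (⟨c, hc.1⟩ : S) ∈ Subgroup.centralizer ((A.subgroupOf S : Subgroup S) : Set S) := by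
    rw [Subgroup.mem_centralizer_iff]
    intro a ha
    apply Subtype.ext
    exact Subgroup.mem_centralizer_iff.mp hc.2 (a : G) (Subgroup.mem_subgroupOf.mp ha)
  have h2 : (⟨c', hc'.1⟩ : S) ∈ Subgroup.centralizer ((A.subgroupOf S : Subgroup S) : Set S) := by
    rw [Subgroup.mem_centralizer_iff]
    intro a ha
    apply Subtype.ext
    exact Subgroup.mem_centralizer_iff.mp hc'.2 (a : G) (Subgroup.mem_subgroupOf.mp ha)
  have := key _ h1 _ h2
  exact congrArg Subtype.val this

end

end Cfsg.Agent.Lib.Helper50
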