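import Mathlib
import Cfsg.Agent.Lib.Helper2.FWDefs
import Cfsg.Agent.Lib.Helper50.FWF4Of
import Cfsg.Agent.Lib.Helper15.FWNL
import Cfsg.Agent.Lib.Helper19.FWU

/-!
# FW-[F4] `shift` (helper2's project FW, S3211): helper50

Exact stub statement, from `shift_of` with [FW-NL] (helper15) and [FW-U] (helper19).
-/

set_option autoImplicit false
set_option linter.unusedVariables false

namespace Cfsg.Agent.Lib.Helper50.FW

open Cfsg.Agent.Lib.Helper2.FW

variable {G : Type*} [Group G] {L₁ L₂ : Subgroup G} {j n : G}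

/-- [FW-F4] outside `L₁L₂`, left multiplication by `a⁻¹` sends square roots of `u` to square roots
of `j`, and misses `n`. -/
theorem shift (H : Hyp L₁ L₂ j n) {a : G} (ha : a ∈ L₁) (haa : a * a = j) {k : G}
    (hk : k ∈ Roots j (a * (n * a * n⁻¹)) (a * (n * a * n⁻¹))) (hkL : ¬ InL L₁ L₂ k) :
    a⁻¹ * k ∈ Roots j (a * (n * a * n⁻¹)) j ∧ ¬ InL L₁ L₂ (a⁻¹ * k) ∧ a⁻¹ * k ≠ n :=
  shift_of H ha haa (fun x hx y hy => Cfsg.Agent.Lib.Helper15.FW.no_invol_nL H hx hy)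
    (Cfsg.Agent.Lib.Helper19.FW.u_facts H ha haa) hk hkL

end Cfsg.Agent.Lib.Helper50.FW
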