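import Mathlib
import Cfsg.Agent.Lib.Helper2.FWDefs

/-!
# FW-[HYP] `hyp_of` (helper2's project FW, S3211): helper50

The hypotheses of S3211 give the elementwise structure `Hyp`.
-/

set_option autoImplicit false
set_option linter.unusedSectionVars false
set_option linter.unusedVariables false

namespace Cfsg.Agent.Lib.Helper50.FW

open Cfsg.Agent.Lib.Helper2.FW

variable {G : Type*} [Group G] {L₁ L₂ : Subgroup G} {j n : G}

/-- elements of `L₁ ⊔ L₂` are products, when `L₁` and `L₂` commute elementwise. -/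
theorem inL_of_mem_sup (hc : ∀ x ∈ L₁, ∀ y ∈ L₂, x * y = y * x) {k : G} (hk : k ∈ L₁ ⊔ L₂) :
    InL L₁ L₂ k := by
  have hle : L₁ ≤ Subgroup.normalizer (L₂ : Set G) := by
    intro x hx
    rw [Subgroup.mem_normalizer_iff]
    intro y
    constructor
    · intro hy
      have : x * y * x⁻¹ = y := by rw [hc x hx y hy]; group
      rw [this]; exact hy
    · intro hy
      have h1 : x * (x * y * x⁻¹) = (x * y * x⁻¹) * x := hc x hx _ hy
      have h2 : x * y = y * x := by
        have : x * (x * y * x⁻¹) = x * (x * y) * x⁻¹ := by group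
        have h3 : (x * y * x⁻¹) * x = x * y := by group
        rw [h3] at h1
        have h4 : x * (x * y) * x⁻¹ = x * y := by rw [← this]; exact h1
        have h5 : x * (x * y) = x * y * x := by
          calc x * (x * y) = x * (x * y) * x⁻¹ * x := by group
            _ = x * y * x := by rw [h4]
        have h6 : x * (x * y) = x * (y * x) := by rw [h5]; group
        exact mul_left_cancel h6
      have : y = x * y * x⁻¹ := by rw [h2]; group
      rw [this]; exact hy
  have h := Subgroup.coe_mul_of_left_le_normalizer_right L₁ L₂ hle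
  have hk' : k ∈ ((L₁ ⊔ L₂ : Subgroup G) : Set G) := hk
  rw [h, Set.mem_mul] at hk'
  obtain ⟨x, hx, y, hy, rfl⟩ := hk'
  exact ⟨x, hx, y, hy, rfl⟩

theorem hyp_of [Finite G] (h₁ : SL2Like L₁ j) (h₂ : SL2Like L₂ j)
    (hc : ∀ x ∈ L₁, ∀ y ∈ L₂, x * y = y * x) (hj : orderOf j = 2)
    (hm : L₁ ⊓ L₂ = Subgroup.zpowers j)
    (hle : L₁ ⊔ L₂ ≤ Subgroup.centralizer ({j} : Set G))
    (hi : (L₁ ⊔ L₂).relIndex (Subgroup.centralizer ({j} : Set G)) = 2)
    (hn : n ∈ Subgroup.centralizer ({j} : Set G)) (hn2 : n ^ 2 = j)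
    (hswap : L₁.map (MulAut.conj n).toMonoidHom = L₂) : Hyp L₁ L₂ j n := by
  have hj1 : j ≠ 1 := by
    intro h
    rw [h, orderOf_one] at hj
    omega
  have hjj : j * j = 1 := by
    have := pow_orderOf_eq_one j
    rw [hj, pow_two] at this
    exact this
  have hjmem : j ∈ L₁ ⊓ L₂ := by rw [hm]; exact Subgroup.mem_zpowers j
  have hinter : ∀ x, x ∈ L₁ → x ∈ L₂ → x = 1 ∨ x = j := by
    intro x hx1 hx2
    have hx : x ∈ L₁ ⊓ L₂ := ⟨hx1, hx2⟩
    rw [hm, Subgroup.mem_zpowers_iff] at hx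
    obtain ⟨k, rfl⟩ := hx
    rw [← zpow_mod_orderOf, hj]
    have h0 : (0 : ℤ) ≤ k % ((2 : ℕ) : ℤ) := Int.emod_nonneg _ (by norm_num)
    have h1 : k % ((2 : ℕ) : ℤ) < 2 := Int.emod_lt_of_pos _ (by norm_num)
    have : k % ((2 : ℕ) : ℤ) = 0 ∨ k % ((2 : ℕ) : ℤ) = 1 := by omega
    rcases this with h | h
    · left; rw [h, zpow_zero]
    · right; rw [h, zpow_one]
  have hcent : ∀ x ∈ L₁ ⊔ L₂, x * j = j * x := by
    intro x hx
    have := hle hx
    rw [Subgroup.mem_centralizer_iff] at this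
    exact (this j (Set.mem_singleton j)).symm
  have hcent₁ : ∀ x ∈ L₁, x * j = j * x := fun x hx => hcent x (Subgroup.mem_sup_left hx)
  have hcent₂ : ∀ x ∈ L₂, x * j = j * x := fun x hx => hcent x (Subgroup.mem_sup_right hx)
  have hnj : n * j = j * n := by
    rw [Subgroup.mem_centralizer_iff] at hn
    exact (hn j (Set.mem_singleton j)).symm
  have hnn : n * n = j := by rw [← pow_two]; exact hn2
  have hswap₁ : ∀ x ∈ L₁, n * x * n⁻¹ ∈ L₂ := by
    intro x hx
    rw [← hswap, Subgroup.mem_map]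
    exact ⟨x, hx, by simp [MulAut.conj_apply]⟩
  have hswap₂ : ∀ y ∈ L₂, n * y * n⁻¹ ∈ L₁ := by
    intro y hy
    rw [← hswap, Subgroup.mem_map] at hy
    obtain ⟨x, hx, rfl⟩ := hy
    have hxj := hcent₁ x hx
    have : n * ((MulAut.conj n).toMonoidHom x) * n⁻¹ = x := by
      have h1 : (MulAut.conj n).toMonoidHom x = n * x * n⁻¹ := by simp [MulAut.conj_apply]
      rw [h1]
      calc n * (n * x * n⁻¹) * n⁻¹ = (n * n) * x * (n * n)⁻¹ := by group
        _ = j * x * j⁻¹ := by rw [hnn]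
        _ = x := by rw [← hxj]; group
    rw [this]; exact hx
  -- `n ∉ L₁ ⊔ L₂`
  have hnK : n ∉ L₁ ⊔ L₂ := by
    intro hnK
    obtain ⟨x, hx, y, hy, hxy⟩ := inL_of_mem_sup hc hnK
    obtain ⟨z, hz, hz1, hzj⟩ := h₁.big
    have hz2 : n * z * n⁻¹ ∈ L₂ := hswap₁ z hz
    have hz1' : n * z * n⁻¹ ∈ L₁ := by
      have : n * z * n⁻¹ = x * z * x⁻¹ := by
        rw [hxy]
        calc x * y * z * (x * y)⁻¹ = x * (y * z) * y⁻¹ * x⁻¹ := by group
          _ = x * (z * y) * y⁻¹ * x⁻¹ := by rw [hc z hz y hy]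
          _ = x * z * x⁻¹ := by group
      rw [this]
      exact L₁.mul_mem (L₁.mul_mem hx hz) (L₁.inv_mem hx)
    rcases hinter _ hz1' hz2 with h | h
    · apply hz1
      calc z = n⁻¹ * (n * z * n⁻¹) * n := by group
        _ = 1 := by rw [h]; group
    · apply hzj
      calc z = n⁻¹ * (n * z * n⁻¹) * n := by group
        _ = n⁻¹ * (j * n) := by rw [h]; group
        _ = j := by rw [← hnj]; group
  have hcover : ∀ k, k * j = j * k →
      InL L₁ L₂ k ∨ ∃ x ∈ L₁, ∃ y ∈ L₂, k = n * (x * y) := by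
    intro k hk
    by_cases hkK : k ∈ L₁ ⊔ L₂
    · exact Or.inl (inL_of_mem_sup hc hkK)
    right
    have hkC : k ∈ Subgroup.centralizer ({j} : Set G) := by
      rw [Subgroup.mem_centralizer_iff]
      intro h hh
      rw [Set.mem_singleton_iff] at hh
      rw [hh]; exact hk.symm
    have hidx : ((L₁ ⊔ L₂).subgroupOf (Subgroup.centralizer ({j} : Set G))).index = 2 := hi
    have hninvC : n⁻¹ ∈ Subgroup.centralizer ({j} : Set G) := Subgroup.inv_mem _ hn
    have key := Subgroup.mul_mem_iff_of_index_two hidx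
      (a := (⟨n⁻¹, hninvC⟩ : ↥(Subgroup.centralizer ({j} : Set G)))) (b := ⟨k, hkC⟩)
    rw [Subgroup.mem_subgroupOf, Subgroup.mem_subgroupOf, Subgroup.mem_subgroupOf] at key
    have hninv : n⁻¹ ∉ L₁ ⊔ L₂ := fun h => hnK (by simpa using Subgroup.inv_mem _ h)
    have hmem : n⁻¹ * k ∈ L₁ ⊔ L₂ := by
      have : ((⟨n⁻¹, hninvC⟩ * ⟨k, hkC⟩ : ↥(Subgroup.centralizer ({j} : Set G))) : G) = n⁻¹ * k :=
        rfl
      rw [← this, key]
      exact ⟨fun h => absurd h hninv, fun h => absurd h hkK⟩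
    obtain ⟨x, hx, y, hy, hxy⟩ := inL_of_mem_sup hc hmem
    refine ⟨x, hx, y, hy, ?_⟩
    rw [← hxy]; group
  exact
    { j_ne := hj1
      j_sq := hjj
      j_mem₁ := hjmem.1
      j_mem₂ := hjmem.2
      comm := hc
      inter := hinter
      cent₁ := hcent₁
      cent₂ := hcent₂
      n_comm := hnj
      n_sq := hnn
      swap₁ := hswap₁
      swap₂ := hswap₂
      cover := hcover
      invol₁ := h₁.invol
      invol₂ := h₂.invol
      abel₁ := h₁.abel
      abel₂ := h₂.abel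
      conj₁ := h₁.conj
      conj₂ := h₂.conj }

end Cfsg.Agent.Lib.Helper50.FW
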