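import Mathlib
import Cfsg.Agent.Lib.Helper2.FWDefs

/-!
# FW-[SWAP] `swap`, relative form (helper2's project FW, S3211): helper50

`swap_of`: the statement of [FW-SWAP] with [FW-INV] and [FW-FLIP] as hypotheses.
-/

set_option autoImplicit false
set_option linter.unusedSectionVars false
set_option linter.unusedVariables false

namespace Cfsg.Agent.Lib.Helper50.FW

open Cfsg.Agent.Lib.Helper2.FW

variable {G : Type*} [Group G] {L₁ L₂ : Subgroup G} {j n : G}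

/-- an involution of `C_G(j)` other than `1`, `j` is conjugate in `C_G(j)` to its product with
`j` (from [FW-INV] and [FW-FLIP]). -/
theorem flip_invol_of
    (hINV : ∀ t : G, t * j = j * t → t * t = 1 →
      t = 1 ∨ t = j ∨ ∃ x ∈ L₁, ∃ y ∈ L₂, x * x = j ∧ y * y = j ∧ t = x * y)
    (hFLIP : ∀ x ∈ L₁, ∀ y ∈ L₂, x * x = j → y * y = j →
      ∃ w, w * j = j * w ∧ w * (x * y) * w⁻¹ = (x * y) * j)
    {t : G} (htj : t * j = j * t) (htt : t * t = 1) (ht1 : t ≠ 1) (ht : t ≠ j) :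
    ∃ w, w * j = j * w ∧ w * t * w⁻¹ = t * j := by
  rcases hINV t htj htt with h | h | ⟨x, hx, y, hy, hxx, hyy, rfl⟩
  · exact absurd h ht1
  · exact absurd h ht
  · exact hFLIP x hx y hy hxx hyy

theorem swap_of (H : Hyp L₁ L₂ j n)
    (hINV : ∀ t : G, t * j = j * t → t * t = 1 →
      t = 1 ∨ t = j ∨ ∃ x ∈ L₁, ∃ y ∈ L₂, x * x = j ∧ y * y = j ∧ t = x * y)
    (hFLIP : ∀ x ∈ L₁, ∀ y ∈ L₂, x * x = j → y * y = j →
      ∃ w, w * j = j * w ∧ w * (x * y) * w⁻¹ = (x * y) * j)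
    {g : G} (hne : g * j * g⁻¹ ≠ j)
    (hcomm : (g * j * g⁻¹) * j = j * (g * j * g⁻¹)) :
    ∃ ρ, ρ * j * ρ⁻¹ = g * j * g⁻¹ ∧ ρ * (g * j * g⁻¹) * ρ⁻¹ = j := by
  have hjj : j * j = 1 := H.j_sq
  have hj1 : j ≠ 1 := H.j_ne
  obtain ⟨u, hu⟩ : ∃ u, u = g * j * g⁻¹ := ⟨_, rfl⟩
  rw [← hu] at hne hcomm ⊢
  -- (i)
  have huu : u * u = 1 := by
    rw [hu]
    calc g * j * g⁻¹ * (g * j * g⁻¹) = g * (j * j) * g⁻¹ := by group
      _ = 1 := by rw [hjj]; group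
  have hu1 : u ≠ 1 := by
    intro h
    apply hj1
    have : g * j * g⁻¹ = 1 := by rw [← hu]; exact h
    have h2 : j = g⁻¹ * (g * j * g⁻¹) * g := by group
    rw [h2, this]; group
  obtain ⟨w0, hw0j, hw0u⟩ := flip_invol_of hINV hFLIP hcomm huu hu1 hne
  -- (ii)
  obtain ⟨j0, hj0⟩ : ∃ j0, j0 = g⁻¹ * j * g := ⟨_, rfl⟩
  have hgj0 : g * j0 * g⁻¹ = j := by rw [hj0]; group
  have hgu : g⁻¹ * u * g = j := by rw [hu]; group
  have hj0j0 : j0 * j0 = 1 := by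
    rw [hj0]
    calc g⁻¹ * j * g * (g⁻¹ * j * g) = g⁻¹ * (j * j) * g := by group
      _ = 1 := by rw [hjj]; group
  have hj01 : j0 ≠ 1 := by
    intro h
    apply hj1
    rw [← hgj0, h]; group
  have hj0j : j0 ≠ j := by
    intro h
    apply hne
    calc u = g * j * g⁻¹ := hu
      _ = g * j0 * g⁻¹ := by rw [h]
      _ = j := hgj0
  have hj0comm : j0 * j = j * j0 := by
    have h1 : g⁻¹ * (u * j) * g = j * j0 := by
      calc g⁻¹ * (u * j) * g = (g⁻¹ * u * g) * (g⁻¹ * j * g) := by group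
        _ = j * j0 := by rw [hgu, ← hj0]
    have h2 : g⁻¹ * (j * u) * g = j0 * j := by
      calc g⁻¹ * (j * u) * g = (g⁻¹ * j * g) * (g⁻¹ * u * g) := by group
        _ = j0 * j := by rw [hgu, ← hj0]
    rw [← h2, ← h1, hcomm]
  obtain ⟨w1, hw1j, hw1j0⟩ := flip_invol_of hINV hFLIP hj0comm hj0j0 hj01 hj0j
  have hw1j' : w1 * j * w1⁻¹ = j := by rw [hw1j]; group
  have hw0j' : w0 * j * w0⁻¹ = j := by rw [hw0j]; group
  obtain ⟨y, hy⟩ : ∃ y, y = g * w1 * g⁻¹ := ⟨_, rfl⟩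
  have hyu : y * u * y⁻¹ = u := by
    rw [hy, hu]
    calc g * w1 * g⁻¹ * (g * j * g⁻¹) * (g * w1 * g⁻¹)⁻¹ = g * (w1 * j * w1⁻¹) * g⁻¹ := by group
      _ = g * j * g⁻¹ := by rw [hw1j']
  have hyj : y * j * y⁻¹ = j * u := by
    rw [hy]
    calc g * w1 * g⁻¹ * j * (g * w1 * g⁻¹)⁻¹ = g * (w1 * (g⁻¹ * j * g) * w1⁻¹) * g⁻¹ := by group
      _ = g * (j0 * j) * g⁻¹ := by rw [← hj0, hw1j0]
      _ = (g * j0 * g⁻¹) * (g * j * g⁻¹) := by group
      _ = j * u := by rw [hgj0, ← hu]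
  -- (iii)
  have hyinvu : y⁻¹ * u * y = u := by
    calc y⁻¹ * u * y = y⁻¹ * (y * u * y⁻¹) * y := by rw [hyu]
      _ = u := by group
  have hyinvj : y⁻¹ * j * y = j * u := by
    have h1 : y * (j * u) * y⁻¹ = j := by
      calc y * (j * u) * y⁻¹ = (y * j * y⁻¹) * (y * u * y⁻¹) := by group
        _ = j * u * u := by rw [hyj, hyu]
        _ = j := by rw [mul_assoc, huu, mul_one]
    calc y⁻¹ * j * y = y⁻¹ * (y * (j * u) * y⁻¹) * y := by rw [h1]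
      _ = j * u := by group
  have hjuj : j * (u * j) = u := by
    rw [hcomm, ← mul_assoc, hjj, one_mul]
  refine ⟨y * w0 * y⁻¹, ?_, ?_⟩
  · calc y * w0 * y⁻¹ * j * (y * w0 * y⁻¹)⁻¹
        = y * (w0 * (y⁻¹ * j * y) * w0⁻¹) * y⁻¹ := by group
      _ = y * (w0 * (j * u) * w0⁻¹) * y⁻¹ := by rw [hyinvj]
      _ = y * ((w0 * j * w0⁻¹) * (w0 * u * w0⁻¹)) * y⁻¹ := by group
      _ = y * (j * (u * j)) * y⁻¹ := by rw [hw0j', hw0u]
      _ = u := by rw [hjuj, hyu]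
  · calc y * w0 * y⁻¹ * u * (y * w0 * y⁻¹)⁻¹
        = y * (w0 * (y⁻¹ * u * y) * w0⁻¹) * y⁻¹ := by group
      _ = y * (u * j) * y⁻¹ := by rw [hyinvu, hw0u]
      _ = (y * u * y⁻¹) * (y * j * y⁻¹) := by group
      _ = u * (j * u) := by rw [hyu, hyj]
      _ = j := by rw [← hcomm, ← mul_assoc, huu, one_mul]

end Cfsg.Agent.Lib.Helper50.FW
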