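import Mathlib
import Cfsg.Agent.Lib.Helper2.FWDefs
import Cfsg.Agent.Lib.Helper50.FWSwapOf
import Cfsg.Agent.Lib.Helper95.FWInv
import Cfsg.Agent.Lib.Helper95.FWFlip

/-!
# FW-[SWAP] `swap` (helper2's project FW, S3211): helper50

Exact stub statement, from `swap_of` with [FW-INV] and [FW-FLIP] (helper95).
-/

set_option autoImplicit false
set_option linter.unusedVariables false

namespace Cfsg.Agent.Lib.Helper50.FW

open Cfsg.Agent.Lib.Helper2.FW

variable {G : Type*} [Group G] {L₁ L₂ : Subgroup G} {j n : G}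

/-- [FW-SWAP] a conjugate `u ≠ j` of `j` commuting with `j` can be swapped with `j`. -/
theorem swap (H : Hyp L₁ L₂ j n) {g : G} (hne : g * j * g⁻¹ ≠ j)
    (hcomm : (g * j * g⁻¹) * j = j * (g * j * g⁻¹)) :
    ∃ ρ, ρ * j * ρ⁻¹ = g * j * g⁻¹ ∧ ρ * (g * j * g⁻¹) * ρ⁻¹ = j :=
  swap_of H (fun t htj ht => Cfsg.Agent.Lib.Helper95.FW.invol_cases H htj ht)
    (fun x hx y hy hxx hyy => Cfsg.Agent.Lib.Helper95.FW.flip H hx hy hxx hyy) hne hcomm

end Cfsg.Agent.Lib.Helper50.FW
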