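import Mathlib.GroupTheory.Sylow
import Mathlib.GroupTheory.Nilpotent
import Cfsg.Prelude.Def_IsolatedElements
import Cfsg.Agent.Lib.Helper55.Cores2

/-!
# Isolated elements (`Cfsg.IsIsolated`)

* an isolated element of a nilpotent group is central;
* an isolated `p`-element is central in every `p`-subgroup containing it, in particular in a Sylow;
* every `p`-subgroup is centralized by a conjugate of an isolated `p`-element;
* normal `p'`-subgroups of normal subgroups of a group with trivial `p'`-core are trivial.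
-/

set_option autoImplicit false

namespace Cfsg.Agent.Lib.Helper50

open Cfsg
open scoped commutatorElement

/-- An isolated element of a nilpotent group is central. -/
theorem commute_of_isIsolated_of_isNilpotent {H : Type*} [Group H] [Group.IsNilpotent H] (x : H)
    (hiso : IsIsolated x) (y : H) : Commute x y := by
  obtain ⟨n, hn⟩ := Group.IsNilpotent.nilpotent H
  have key : ∀ k : ℕ, ∀ y ∈ Subgroup.upperCentralSeries H k, Commute x y := by
    intro k
    induction k with
    | zero =>
      intro y hy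
      rw [Subgroup.upperCentralSeries_zero, Subgroup.mem_bot] at hy
      subst hy
      exact Commute.one_right x
    | succ k ih =>
      intro y hy
      rw [Subgroup.mem_upperCentralSeries_succ_iff] at hy
      have h1 : Commute x ⁅y, x⁆ := ih _ (hy x)
      have h2 : Commute x (y * x * y⁻¹) := by
        have : y * x * y⁻¹ = ⁅y, x⁆ * x := by
          rw [commutatorElement_def]; group
        rw [this]
        exact h1.mul_right (Commute.refl x)
      have h3 := hiso y h2
      show x * y = y * x
      calc x * y = (y * x * y⁻¹) * y := by rw [h3]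
        _ = y * x := by group
  exact key n y (hn ▸ Subgroup.mem_top y)

/-- Being isolated passes to subgroups. -/
theorem isIsolated_subtype {G : Type*} [Group G] (x : G) (hiso : IsIsolated x) (P : Subgroup G)
    (hx : x ∈ P) : IsIsolated (⟨x, hx⟩ : ↥P) := by
  intro g hg
  apply Subtype.ext
  have h := hiso (g : G) (by
    have := congrArg Subtype.val hg.eq
    show x * _ = _ * x
    simpa using this)
  simpa using h

/-- An isolated element is central in every `p`-subgroup containing it. -/
theorem commute_of_isIsolated_of_isPGroup {G : Type*} [Group G] [Finite G] {p : ℕ} [Fact p.Prime]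
    (x : G) (hiso : IsIsolated x) (P : Subgroup G) (hP : IsPGroup p P) (hx : x ∈ P) (y : G)
    (hy : y ∈ P) : Commute x y := by
  have : Group.IsNilpotent ↥P := hP.isNilpotent
  have h := commute_of_isIsolated_of_isNilpotent (⟨x, hx⟩ : ↥P) (isIsolated_subtype x hiso P hx)
    ⟨y, hy⟩
  have := congrArg Subtype.val h.eq
  show x * y = y * x
  simpa using this

/-- A conjugate of an isolated element is isolated. -/
theorem isIsolated_conj {G : Type*} [Group G] (x : G) (hiso : IsIsolated x) (g : G) :
    IsIsolated (g * x * g⁻¹) := by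
  intro h hh
  have h1 : Commute x ((g⁻¹ * h * g) * x * (g⁻¹ * h * g)⁻¹) := by
    have h2 : (g⁻¹ * h * g) * x * (g⁻¹ * h * g)⁻¹ = g⁻¹ * (h * (g * x * g⁻¹) * h⁻¹) * g := by group
    rw [h2]
    show x * _ = _ * x
    have := hh.eq
    calc x * (g⁻¹ * (h * (g * x * g⁻¹) * h⁻¹) * g)
        = g⁻¹ * ((g * x * g⁻¹) * (h * (g * x * g⁻¹) * h⁻¹)) * g := by group
      _ = g⁻¹ * ((h * (g * x * g⁻¹) * h⁻¹) * (g * x * g⁻¹)) * g := by rw [this]
      _ = _ := by group
  have h4 := hiso _ h1
  calc h * (g * x * g⁻¹) * h⁻¹ = g * ((g⁻¹ * h * g) * x * (g⁻¹ * h * g)⁻¹) * g⁻¹ := by group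
    _ = g * x * g⁻¹ := by rw [h4]

/-- Every `p`-subgroup is centralized by some conjugate of an isolated `p`-element. -/
theorem exists_conj_commute_of_isIsolated {G : Type*} [Group G] [Finite G] {p : ℕ} [Fact p.Prime]
    (x : G) (hiso : IsIsolated x) (hxp : IsPGroup p (Subgroup.zpowers x)) (Q : Subgroup G)
    (hQ : IsPGroup p Q) : ∃ g : G, ∀ a ∈ Q, Commute (g * x * g⁻¹) a := by
  obtain ⟨P, hP⟩ := hxp.exists_le_sylow
  obtain ⟨Q', hQ'⟩ := hQ.exists_le_sylow
  obtain ⟨g, hg⟩ := MulAction.exists_smul_eq G P Q'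
  refine ⟨g, fun a ha => ?_⟩
  have hxP : x ∈ (P : Subgroup G) := hP (Subgroup.mem_zpowers x)
  have haQ' : a ∈ (Q' : Subgroup G) := hQ' ha
  have hgx : g * x * g⁻¹ ∈ (Q' : Subgroup G) := by
    rw [← hg, Sylow.smul_def, Sylow.pointwise_smul_def, Subgroup.mem_pointwise_smul_iff_inv_smul_mem]
    simpa [MulAut.smul_def, mul_assoc] using hxP
  exact commute_of_isIsolated_of_isPGroup (g * x * g⁻¹) (isIsolated_conj x hiso g) (Q' : Subgroup G)
    Q'.isPGroup' hgx a haQ'

/-- In a group with trivial `p'`-core, a `p'`-subgroup `D` of a normal subgroup `N` which is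
normalized by `N` is trivial. -/
theorem eq_bot_of_le_normal_of_coprime {G : Type*} [Group G] [Finite G] {p : ℕ}
    (hcore : pPrimeCore p G = ⊥) (N D : Subgroup G) [N.Normal] (hDN : D ≤ N)
    (hnorm : N ≤ Subgroup.normalizer (D : Set G)) (hD : (Nat.card D).Coprime p) : D = ⊥ := by
  have h1 : (D.subgroupOf N).Normal := (Subgroup.normal_subgroupOf_iff_le_normalizer hDN).mpr hnorm
  have h2 : Nat.card (D.subgroupOf N) = Nat.card D :=
    Nat.card_congr (Subgroup.subgroupOfEquivOfLe hDN).toEquiv
  have h3 : D.subgroupOf N ≤ pPrimeCore p ↥N :=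
    Cfsg.Agent.Lib.Helper55.le_pPrimeCore h1 (h2 ▸ hD)
  rw [Cfsg.Agent.Lib.Helper55.pPrimeCore_eq_bot_of_normal p N hcore, le_bot_iff,
    Subgroup.subgroupOf_eq_bot] at h3
  exact le_bot_iff.mp (fun d hd => h3.le_bot ⟨hd, hDN hd⟩)

end Cfsg.Agent.Lib.Helper50
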