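/-
helper50: project S2140 (helper99), module S2140-[PSL]: the wrap-up from `SL(V)` to `PSL_n(F)`.
-/
import Mathlib
import Cfsg.Agent.Lib.Helper99.MinIdx.Defs

set_option autoImplicit false

namespace Cfsg.Agent.Lib.Helper50.MinIdxPSL

open Cfsg.Agent.Lib.Helper99.MinIdx

theorem theta_eq {q : ℕ} (hq : 2 ≤ q) (n : ℕ) : theta q n = (q ^ n - 1) / (q - 1) := by
  unfold theta
  exact Nat.geomSum_eq hq n

theorem psl_wrap {F : Type*} [Field F] [Fintype F] {q : ℕ} (hF : Fintype.card F = q) (n : ℕ)
    (hn : 3 ≤ n)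
    (hcore : ∀ H : Subgroup (SpecialLinearGroup F (Fin n → F)), H ≠ ⊤ → theta q n ≤ H.index) :
    (∀ H : Subgroup (Matrix.ProjectiveSpecialLinearGroup (Fin n) F), H ≠ ⊤ →
        (q ^ n - 1) / (q - 1) ≤ H.index) ∧
    (∃ H : Subgroup (Matrix.ProjectiveSpecialLinearGroup (Fin n) F),
        H.index = (q ^ n - 1) / (q - 1)) := by
  have hq : 2 ≤ q := by
    rw [← hF]; exact Fintype.one_lt_card
  constructor
  · intro H hH
    let ψ : SpecialLinearGroup F (Fin n → F) →* Matrix.ProjectiveSpecialLinearGroup (Fin n) F :=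
      (QuotientGroup.mk' (Subgroup.center (Matrix.SpecialLinearGroup (Fin n) F))).comp
        (Matrix.SpecialLinearGroup.toLin'_equiv (n := Fin n) (R := F)).symm.toMonoidHom
    have hψ : Function.Surjective ψ := by
      intro x
      obtain ⟨y, rfl⟩ := QuotientGroup.mk'_surjective _ x
      exact ⟨Matrix.SpecialLinearGroup.toLin'_equiv y, by simp [ψ]⟩
    have h1 : H.comap ψ ≠ ⊤ := by
      intro h
      apply hH
      apply Subgroup.comap_injective hψ
      rw [h, Subgroup.comap_top]
    have h2 := hcore (H.comap ψ) h1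
    rw [Subgroup.index_comap_of_surjective H hψ, theta_eq hq] at h2
    exact h2
  · have : NeZero n := ⟨by omega⟩
    have hv : (fun _ : Fin n => (1 : F)) ≠ 0 := by
      intro h
      have := congrFun h 0
      simp at this
    let pt : Projectivization F (Fin n → F) := Projectivization.mk F _ hv
    refine ⟨MulAction.stabilizer (Matrix.ProjectiveSpecialLinearGroup (Fin n) F) pt, ?_⟩
    rw [MulAction.index_stabilizer_of_transitive, Projectivization.card'']
    simp [Nat.card_eq_fintype_card, hF]

end Cfsg.Agent.Lib.Helper50.MinIdxPSL
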