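import Cfsg.Agent.Lib.Helper50.LargeAbelian

/-!
# Minimal centrally large subgroups (Glauberman)

Helper library of seat helper50 (statements S3007, S3008).
-/

set_option autoImplicit false
open scoped Pointwise commutatorElement

namespace Cfsg.Agent.Lib.Helper50

variable {P : Type*} [Group P]

/-- For a minimal centrally large `Q` and a centrally large `R`: `Q = (Q ∩ R) Z(Q)`,
and the product is a product of sets. -/
theorem minimalCL_eq_inf_sup_center [Finite P] (Q R : Subgroup P)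
    (hQ : Cfsg.IsMinimalCentrallyLarge Q) (hR : Cfsg.IsCentrallyLarge R) :
    (Q ⊓ R) ⊔ Subgroup.centralizer (Q : Set P) = Q ∧
      (((Q ⊓ R) ⊔ Subgroup.centralizer (Q : Set P) : Subgroup P) : Set P) =
        ((Q ⊓ R : Subgroup P) : Set P) * (Subgroup.centralizer (Q : Set P) : Set P) := by
  obtain ⟨hQcd, hCQ⟩ := (isCentrallyLarge_iff_cd Q).mp hQ.1
  obtain ⟨hRcd, hCR⟩ := (isCentrallyLarge_iff_cd R).mp hR
  have hM := cdMeasure_le_max P
  obtain ⟨hD, -, -, -⟩ := cd_core Q R _ hM hQcd hRcd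
  obtain ⟨hCD1, hCD2⟩ := cd_centralizer_inf Q R _ hM hQcd hRcd
  obtain ⟨hMcd, hQCC⟩ := cd_centralizer Q _ hM hQcd
  obtain ⟨-, hQ₁cd, hQ₁set, -⟩ := cd_core (Q ⊓ R) (Subgroup.centralizer (Q : Set P)) _ hM hD hMcd
  have hle : (Q ⊓ R) ⊔ Subgroup.centralizer (Q : Set P) ≤ Q := sup_le inf_le_left hCQ
  have hCL : Cfsg.IsCentrallyLarge ((Q ⊓ R) ⊔ Subgroup.centralizer (Q : Set P)) := by
    rw [isCentrallyLarge_iff_cd]
    refine ⟨hQ₁cd, ?_⟩
    rw [centralizer_sup, hCD1, ← hQCC]
    intro x hx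
    obtain ⟨hx1, hx2⟩ := Subgroup.mem_inf.mp hx
    have hx1' : x ∈ ((Subgroup.centralizer (Q : Set P) ⊔ Subgroup.centralizer (R : Set P) :
        Subgroup P) : Set P) := hx1
    rw [hCD2] at hx1'
    obtain ⟨m, hm, n, hn, rfl⟩ := hx1'
    have hnQ : n ∈ Q := by
      have := Q.mul_mem (Q.inv_mem (hCQ hm)) hx2
      simpa using this
    exact Subgroup.mul_mem _ (Subgroup.mem_sup_right hm) (Subgroup.mem_sup_left ⟨hnQ, hCR hn⟩)
  exact ⟨hQ.2 _ hle hCL, hQ₁set⟩

/-- If `Q = D Z` with `Z` central in `Q` then `[Q, Q] ≤ [D, D]`. -/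
theorem commutator_le_of_eq_mul_central (Q D Z : Subgroup P)
    (hZ : Z ≤ Subgroup.centralizer (Q : Set P)) (hDQ : D ≤ Q)
    (hset : (Q : Set P) = (D : Set P) * (Z : Set P)) : ⁅Q, Q⁆ ≤ ⁅D, D⁆ := by
  rw [Subgroup.commutator_le]
  intro x hx y hy
  have hx' : x ∈ (Q : Set P) := hx
  have hy' : y ∈ (Q : Set P) := hy
  rw [hset] at hx' hy'
  obtain ⟨d, hd, m, hm, rfl⟩ := hx'
  obtain ⟨d', hd', m', hm', rfl⟩ := hy'
  have hm1 : ∀ q ∈ Q, q * m = m * q := fun q hq => Subgroup.mem_centralizer_iff.mp (hZ hm) q hq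
  have hm2 : ∀ q ∈ Q, q * m' = m' * q := fun q hq => Subgroup.mem_centralizer_iff.mp (hZ hm') q hq
  have key : ⁅d * m, d' * m'⁆ = ⁅d, d'⁆ := by
    rw [commutatorElement_def, commutatorElement_def]
    have e1 : d * m * (d' * m') * (d * m)⁻¹ = d * (d' * m') * d⁻¹ := by
      have := hm1 (d' * m') hy
      calc d * m * (d' * m') * (d * m)⁻¹ = d * (m * (d' * m')) * m⁻¹ * d⁻¹ := by group
        _ = d * ((d' * m') * m) * m⁻¹ * d⁻¹ := by rw [this]
        _ = d * (d' * m') * d⁻¹ := by group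
    have e2 : d * (d' * m') * d⁻¹ * (d' * m')⁻¹ = d * d' * d⁻¹ * d'⁻¹ := by
      have := hm2 d⁻¹ (Q.inv_mem (hDQ hd))
      calc d * (d' * m') * d⁻¹ * (d' * m')⁻¹ = d * d' * (m' * d⁻¹) * m'⁻¹ * d'⁻¹ := by group
        _ = d * d' * (d⁻¹ * m') * m'⁻¹ * d'⁻¹ := by rw [this]
        _ = d * d' * d⁻¹ * d'⁻¹ := by group
    rw [e1, e2]
  rw [key]
  exact Subgroup.commutator_mem_commutator hd hd'

/-- Two minimal centrally large subgroups have the same derived subgroup. -/
theorem minimalCL_commutator_eq [Finite P] (Q R : Subgroup P)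
    (hQ : Cfsg.IsMinimalCentrallyLarge Q) (hR : Cfsg.IsMinimalCentrallyLarge R) :
    ⁅Q, Q⁆ = ⁅R, R⁆ := by
  have key : ∀ Q R : Subgroup P, Cfsg.IsMinimalCentrallyLarge Q → Cfsg.IsMinimalCentrallyLarge R →
      ⁅Q, Q⁆ ≤ ⁅R, R⁆ := by
    intro Q R hQ hR
    obtain ⟨h1, h2⟩ := minimalCL_eq_inf_sup_center Q R hQ hR.1
    rw [h1] at h2
    refine (commutator_le_of_eq_mul_central Q (Q ⊓ R) _ le_rfl inf_le_left h2).trans ?_
    exact Subgroup.commutator_mono inf_le_right inf_le_right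
  exact le_antisymm (key Q R hQ hR) (key R Q hR hQ)

/-- Two minimal centrally large subgroups have the same order and centres of the same order. -/
theorem minimalCL_card_eq [Finite P] (Q R : Subgroup P)
    (hQ : Cfsg.IsMinimalCentrallyLarge Q) (hR : Cfsg.IsMinimalCentrallyLarge R) :
    Nat.card Q = Nat.card R ∧
      Nat.card (Subgroup.centralizer (Q : Set P)) = Nat.card (Subgroup.centralizer (R : Set P)) := by
  obtain ⟨hQcd, hCQ⟩ := (isCentrallyLarge_iff_cd Q).mp hQ.1
  obtain ⟨hRcd, hCR⟩ := (isCentrallyLarge_iff_cd R).mp hR.1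
  obtain ⟨h1, h2⟩ := minimalCL_eq_inf_sup_center Q R hQ hR.1
  obtain ⟨h3, h4⟩ := minimalCL_eq_inf_sup_center R Q hR hQ.1
  -- `R ∩ Z(Q) = Q ∩ Z(R)`
  have hE : ∀ Q R : Subgroup P, Subgroup.centralizer (Q : Set P) ≤ Q →
      (R ⊓ Q) ⊔ Subgroup.centralizer (R : Set P) = R →
      R ⊓ Subgroup.centralizer (Q : Set P) ≤ Q ⊓ Subgroup.centralizer (R : Set P) := by
    intro Q R hCQ h3 x hx
    obtain ⟨hxR, hxM⟩ := Subgroup.mem_inf.mp hx
    refine Subgroup.mem_inf.mpr ⟨hCQ hxM, ?_⟩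
    have : R ≤ Subgroup.centralizer ({x} : Set P) := by
      rw [← h3]
      apply sup_le
      · intro y hy
        rw [Subgroup.mem_centralizer_iff]
        intro z hz
        rw [Set.mem_singleton_iff] at hz
        subst hz
        exact (Subgroup.mem_centralizer_iff.mp hxM y hy.2).symm
      · intro y hy
        rw [Subgroup.mem_centralizer_iff]
        intro z hz
        rw [Set.mem_singleton_iff] at hz
        subst hz
        exact Subgroup.mem_centralizer_iff.mp hy z hxR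
    rw [Subgroup.mem_centralizer_iff]
    intro y hy
    have := Subgroup.mem_centralizer_iff.mp (this hy) x (Set.mem_singleton x)
    exact this.symm
  have hEeq : R ⊓ Subgroup.centralizer (Q : Set P) = Q ⊓ Subgroup.centralizer (R : Set P) :=
    le_antisymm (hE Q R hCQ h3) (hE R Q hCR h1)
  have c1 := card_mul_card_eq_card_inf_mul_card_mul (Q ⊓ R) (Subgroup.centralizer (Q : Set P))
  have c2 := card_mul_card_eq_card_inf_mul_card_mul (R ⊓ Q) (Subgroup.centralizer (R : Set P))
  rw [← h2, h1] at c1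
  rw [← h4, h3] at c2
  have i1 : Q ⊓ R ⊓ Subgroup.centralizer (Q : Set P) = R ⊓ Subgroup.centralizer (Q : Set P) := by
    rw [inf_comm Q R, inf_assoc, inf_eq_right.mpr hCQ]
  have i2 : R ⊓ Q ⊓ Subgroup.centralizer (R : Set P) = Q ⊓ Subgroup.centralizer (R : Set P) := by
    rw [inf_comm R Q, inf_assoc, inf_eq_right.mpr hCR]
  rw [i1] at c1
  rw [i2, ← hEeq, inf_comm R Q] at c2
  replace c1 : Nat.card ↥(Q ⊓ R) * Nat.card ↥(Subgroup.centralizer (Q : Set P)) =
      Nat.card ↥(R ⊓ Subgroup.centralizer (Q : Set P)) * Nat.card ↥Q := c1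
  replace c2 : Nat.card ↥(Q ⊓ R) * Nat.card ↥(Subgroup.centralizer (R : Set P)) =
      Nat.card ↥(R ⊓ Subgroup.centralizer (Q : Set P)) * Nat.card ↥R := c2
  have c3 : cdMeasure Q = cdMeasure R := by
    rw [(isCentralizerLarge_iff P Q).mp hQcd, (isCentralizerLarge_iff P R).mp hRcd]
  unfold cdMeasure at c3
  set q := Nat.card Q
  set r := Nat.card R
  set m := Nat.card (Subgroup.centralizer (Q : Set P))
  set n := Nat.card (Subgroup.centralizer (R : Set P))
  set d := Nat.card ↥(Q ⊓ R)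
  set e := Nat.card ↥(R ⊓ Subgroup.centralizer (Q : Set P))
  have hd : 0 < d := Nat.card_pos
  have hm : 0 < m := Nat.card_pos
  have hn : 0 < n := Nat.card_pos
  have hq : 0 < q := Nat.card_pos
  -- c1 : d * m = e * q, c2 : d * n = e * r, c3 : q * m = r * n
  have k1 : q * n = r * m := by
    apply Nat.eq_of_mul_eq_mul_left hd
    calc d * (q * n) = q * (d * n) := by ring
      _ = q * (e * r) := by rw [c2]
      _ = r * (e * q) := by ring
      _ = r * (d * m) := by rw [c1]
      _ = d * (r * m) := by ring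
  have k2 : q * q = r * r := by
    apply Nat.eq_of_mul_eq_mul_right (Nat.mul_pos hm hn)
    calc q * q * (m * n) = (q * m) * (q * n) := by ring
      _ = (r * n) * (r * m) := by rw [c3, k1]
      _ = r * r * (m * n) := by ring
  have k3 : q = r := Nat.mul_self_inj.mp k2
  refine ⟨k3, ?_⟩
  apply Nat.eq_of_mul_eq_mul_left hq
  rw [c3, k3]

/-- For an abelian subgroup `B`: `clMeasure B = |B|^2`. -/
theorem clMeasure_of_abelian (B : Subgroup P) (hB : IsMulCommutative ↥B) :
    clMeasure B = Nat.card B * Nat.card B := by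
  unfold clMeasure
  rw [inf_eq_left.mpr ((isMulCommutative_iff_le_centralizer B).mp hB)]

/-- If some minimal centrally large subgroup is abelian, the minimal centrally large subgroups
are exactly the abelian subgroups of largest order. -/
theorem minimalCL_iff_maxAbelian_of_abelian [Finite P] (Q : Subgroup P)
    (hQ : Cfsg.IsMinimalCentrallyLarge Q) (hab : IsMulCommutative ↥Q) (X : Subgroup P) :
    Cfsg.IsMinimalCentrallyLarge X ↔ X ∈ Cfsg.maxAbelianSubgroups P := by
  have hf : Cfsg.maxCentralProduct P = Nat.card Q * Nat.card Q := by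
    rw [← (isCentrallyLarge_iff Q).mp hQ.1, clMeasure_of_abelian Q hab]
  have hmaxQ : ∀ B : Subgroup P, IsMulCommutative ↥B → Nat.card B ≤ Nat.card Q := by
    intro B hB
    have := clMeasure_le_max B
    rw [clMeasure_of_abelian B hB, hf] at this
    exact Nat.mul_self_le_mul_self_iff.mp this
  have hQmax : Q ∈ Cfsg.maxAbelianSubgroups P := ⟨hab, hmaxQ⟩
  have hCQ : Subgroup.centralizer (Q : Set P) = Q :=
    centralizer_eq_of_mem_maxAbelianSubgroups Q hQmax
  constructor
  · intro hX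
    obtain ⟨h1, h2⟩ := minimalCL_card_eq X Q hX hQ
    rw [hCQ] at h2
    obtain ⟨-, hCX⟩ := (isCentrallyLarge_iff_cd X).mp hX.1
    have h3 : Subgroup.centralizer (X : Set P) = X :=
      Subgroup.eq_of_le_of_card_ge hCX (by rw [h2, h1])
    have hXab : IsMulCommutative ↥X := by
      rw [isMulCommutative_iff_le_centralizer, h3]
    exact mem_maxAbelianSubgroups_of_card_eq Q X hQmax hXab h1.ge
  · intro hX
    have hcard : Nat.card X = Nat.card Q := le_antisymm (hmaxQ X hX.1) (hX.2 Q hab)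
    have hXCL : Cfsg.IsCentrallyLarge X := by
      rw [isCentrallyLarge_iff, clMeasure_of_abelian X hX.1, hf, hcard]
    refine ⟨hXCL, ?_⟩
    intro X' hle hX'
    have hX'ab : IsMulCommutative ↥X' := isMulCommutative_of_le hX.1 hle
    have h1 := (isCentrallyLarge_iff X').mp hX'
    rw [clMeasure_of_abelian X' hX'ab, hf] at h1
    have h2 : Nat.card X' = Nat.card Q := Nat.mul_self_inj.mp h1
    exact Subgroup.eq_of_le_of_card_ge hle (by rw [h2, hcard])

end Cfsg.Agent.Lib.Helper50
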