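import Cfsg.Agent.Lib.Helper50.MinimalCL
import Mathlib.GroupTheory.Nilpotent
import Mathlib.Order.PiLex

/-!
# A minimal centrally large subgroup normalized by `J(P)` and by `P_MCL` (Glauberman)

Helper library of seat helper50 (statement S3008).
-/

set_option autoImplicit false
open scoped Pointwise commutatorElement

namespace Cfsg.Agent.Lib.Helper50

variable {P : Type*} [Group P]

/-! ### Conjugates of subgroups -/

theorem mem_conj_smul_iff (y x : P) (U : Subgroup P) :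
    x ∈ MulAut.conj y • U ↔ y⁻¹ * x * y ∈ U := by
  rw [Subgroup.mem_pointwise_smul_iff_inv_smul_mem, ← map_inv, MulAut.smul_def, MulAut.conj_apply,
    inv_inv]

theorem card_conj_smul (y : P) (U : Subgroup P) :
    Nat.card ↥(MulAut.conj y • U) = Nat.card U :=
  (Nat.card_congr (Subgroup.equivSMul (MulAut.conj y) U).toEquiv).symm

theorem centralizer_conj_smul (y : P) (U : Subgroup P) :
    Subgroup.centralizer ((MulAut.conj y • U : Subgroup P) : Set P) =
      MulAut.conj y • Subgroup.centralizer (U : Set P) := by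
  ext x
  rw [mem_conj_smul_iff, Subgroup.mem_centralizer_iff, Subgroup.mem_centralizer_iff]
  constructor
  · intro h u hu
    have hmem : y * u * y⁻¹ ∈ ((MulAut.conj y • U : Subgroup P) : Set P) := by
      rw [SetLike.mem_coe, mem_conj_smul_iff]
      have : y⁻¹ * (y * u * y⁻¹) * y = u := by group
      rw [this]; exact hu
    have := h (y * u * y⁻¹) hmem
    calc u * (y⁻¹ * x * y) = y⁻¹ * ((y * u * y⁻¹) * x) * y := by group
      _ = y⁻¹ * (x * (y * u * y⁻¹)) * y := by rw [this]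
      _ = y⁻¹ * x * y * u := by group
  · intro h v hv
    rw [SetLike.mem_coe, mem_conj_smul_iff] at hv
    have := h _ hv
    calc v * x = y * ((y⁻¹ * v * y) * (y⁻¹ * x * y)) * y⁻¹ := by group
      _ = y * ((y⁻¹ * x * y) * (y⁻¹ * v * y)) * y⁻¹ := by rw [this]
      _ = x * v := by group

theorem cdMeasure_conj_smul (y : P) (U : Subgroup P) :
    cdMeasure (MulAut.conj y • U) = cdMeasure U := by
  unfold cdMeasure
  rw [centralizer_conj_smul, card_conj_smul, card_conj_smul]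

/-- `N(U) ≤ N(C(U))`. -/
theorem normalizer_le_normalizer_centralizer (U : Subgroup P) :
    Subgroup.normalizer (U : Set P) ≤
      Subgroup.normalizer ((Subgroup.centralizer (U : Set P) : Subgroup P) : Set P) := by
  intro y hy
  have key : ∀ g : P, g ∈ Subgroup.normalizer (U : Set P) → ∀ x,
      x ∈ Subgroup.centralizer (U : Set P) → g * x * g⁻¹ ∈ Subgroup.centralizer (U : Set P) := by
    intro g hg x hx
    rw [Subgroup.mem_centralizer_iff] at hx ⊢
    intro u hu
    have hu' : g⁻¹ * u * g ∈ U := (Subgroup.mem_normalizer_iff''.mp hg u).mp hu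
    have := hx _ hu'
    calc u * (g * x * g⁻¹) = g * ((g⁻¹ * u * g) * x) * g⁻¹ := by group
      _ = g * (x * (g⁻¹ * u * g)) * g⁻¹ := by rw [this]
      _ = g * x * g⁻¹ * u := by group
  rw [Subgroup.mem_normalizer_iff]
  intro x
  constructor
  · exact key y hy x
  · intro hx
    have := key y⁻¹ (Subgroup.inv_mem _ hy) _ hx
    have e : y⁻¹ * (y * x * y⁻¹) * y⁻¹⁻¹ = x := by group
    rwa [e] at this

/-! ### Centres of minimal centrally large subgroups -/

/-- `U` is (intrinsically) the centre `C_P(Q)` of a minimal centrally large subgroup `Q`; the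
order of such centres is read off a fixed minimal centrally large subgroup `Q₀`. -/
def IsCLCenter (Q₀ U : Subgroup P) : Prop :=
  U ≤ Subgroup.centralizer (U : Set P) ∧ Cfsg.IsCentralizerLarge U ∧
    Nat.card U = Nat.card (Subgroup.centralizer (Q₀ : Set P))

theorem isCLCenter_centralizer [Finite P] (Q₀ Q : Subgroup P)
    (hQ₀ : Cfsg.IsMinimalCentrallyLarge Q₀) (hQ : Cfsg.IsMinimalCentrallyLarge Q) :
    IsCLCenter Q₀ (Subgroup.centralizer (Q : Set P)) ∧
      Subgroup.centralizer ((Subgroup.centralizer (Q : Set P) : Subgroup P) : Set P) = Q := by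
  obtain ⟨hQcd, hCQ⟩ := (isCentrallyLarge_iff_cd Q).mp hQ.1
  obtain ⟨hMcd, hQCC⟩ := cd_centralizer Q _ (cdMeasure_le_max P) hQcd
  refine ⟨⟨?_, hMcd, (minimalCL_card_eq Q Q₀ hQ hQ₀).2⟩, hQCC.symm⟩
  rw [← hQCC]; exact hCQ

theorem IsCLCenter.minimalCL [Finite P] {Q₀ U : Subgroup P}
    (hQ₀ : Cfsg.IsMinimalCentrallyLarge Q₀) (hU : IsCLCenter Q₀ U) :
    Cfsg.IsMinimalCentrallyLarge (Subgroup.centralizer (U : Set P)) ∧
      Subgroup.centralizer ((Subgroup.centralizer (U : Set P) : Subgroup P) : Set P) = U := by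
  obtain ⟨hab, hcd, hcard⟩ := hU
  obtain ⟨hQcd, hUCC⟩ := cd_centralizer U _ (cdMeasure_le_max P) hcd
  have hCL : Cfsg.IsCentrallyLarge (Subgroup.centralizer (U : Set P)) := by
    rw [isCentrallyLarge_iff_cd]
    refine ⟨hQcd, ?_⟩
    rw [← hUCC]; exact hab
  obtain ⟨hQ₀cd, -⟩ := (isCentrallyLarge_iff_cd Q₀).mp hQ₀.1
  have hcardQ : Nat.card (Subgroup.centralizer (U : Set P)) = Nat.card Q₀ := by
    have h1 : cdMeasure U = cdMeasure Q₀ := by
      rw [(isCentralizerLarge_iff P U).mp hcd, (isCentralizerLarge_iff P Q₀).mp hQ₀cd]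
    unfold cdMeasure at h1
    rw [hcard, mul_comm] at h1
    exact Nat.eq_of_mul_eq_mul_right Nat.card_pos h1
  refine ⟨⟨hCL, ?_⟩, hUCC.symm⟩
  intro R hRQ hR
  obtain ⟨R', hR'R, hR'⟩ := exists_isMinimalCentrallyLarge_le R hR
  have h2 : Nat.card R' = Nat.card Q₀ := (minimalCL_card_eq R' Q₀ hR' hQ₀).1
  have h3 : R' = Subgroup.centralizer (U : Set P) :=
    Subgroup.eq_of_le_of_card_ge (hR'R.trans hRQ) (by rw [h2, hcardQ])
  exact le_antisymm hRQ (h3 ▸ hR'R)

/-- For centres `U = Z(Q)`, `V = Z(R)` of minimal centrally large subgroups: `V ∩ Q ≤ U`. -/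
theorem IsCLCenter.inf_centralizer_le [Finite P] {Q₀ U V : Subgroup P}
    (hQ₀ : Cfsg.IsMinimalCentrallyLarge Q₀) (hU : IsCLCenter Q₀ U) (hV : IsCLCenter Q₀ V) :
    V ⊓ Subgroup.centralizer (U : Set P) ≤ U := by
  obtain ⟨hQ, hUCC⟩ := hU.minimalCL hQ₀
  obtain ⟨hR, hVCC⟩ := hV.minimalCL hQ₀
  obtain ⟨h1, -⟩ := minimalCL_eq_inf_sup_center _ _ hQ hR.1
  intro x hx
  obtain ⟨hxV, hxQ⟩ := Subgroup.mem_inf.mp hx
  have hx1 : x ∈ Subgroup.centralizer
      (((Subgroup.centralizer (U : Set P) ⊓ Subgroup.centralizer (V : Set P)) ⊔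
        Subgroup.centralizer ((Subgroup.centralizer (U : Set P) : Subgroup P) : Set P) :
          Subgroup P) : Set P) := by
    rw [centralizer_sup]
    refine Subgroup.mem_inf.mpr ⟨?_, ?_⟩
    · have : V ≤ Subgroup.centralizer ((Subgroup.centralizer (U : Set P) ⊓
          Subgroup.centralizer (V : Set P) : Subgroup P) : Set P) := by
        rw [Subgroup.le_centralizer_iff]; exact inf_le_right
      exact this hxV
    · have : Subgroup.centralizer (U : Set P) ≤ Subgroup.centralizer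
          ((Subgroup.centralizer ((Subgroup.centralizer (U : Set P) : Subgroup P) : Set P) :
            Subgroup P) : Set P) := by
        rw [Subgroup.le_centralizer_iff]
      exact this hxQ
  rw [h1, hUCC] at hx1
  exact hx1

/-! ### The replacement lemma -/

theorem replacement_arith (u z h x1 w q c v cv M : ℕ) (hu : 0 < u) (hz : 0 < z) (hh : 0 < h)
    (hw : 0 < w) (hq : 0 < q)
    (A1 : u * u = z * h) (A2 : u * x1 = w * h) (A3 : h * c = M) (A3' : u * q = M)
    (A4 : z * x1 ≤ w * v) (A5 : v * c ≤ z * cv) (A6 : v * cv ≤ M) :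
    v = u ∧ v * cv = M := by
  have B1 : x1 * z = w * u := by
    apply Nat.eq_of_mul_eq_mul_left (Nat.mul_pos hu hh)
    calc u * h * (x1 * z) = (u * x1) * (z * h) := by ring
      _ = (w * h) * (u * u) := by rw [A2, A1]
      _ = u * h * (w * u) := by ring
  have B2 : u ≤ v := by
    apply Nat.le_of_mul_le_mul_left _ hw
    calc w * u = z * x1 := by rw [← B1]; ring
      _ ≤ w * v := A4
  have B3 : u * c = z * q := by
    apply Nat.eq_of_mul_eq_mul_left hu
    calc u * (u * c) = (u * u) * c := by ring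
      _ = z * (h * c) := by rw [A1]; ring
      _ = z * (u * q) := by rw [A3, A3']
      _ = u * (z * q) := by ring
  have B4 : q ≤ cv := by
    apply Nat.le_of_mul_le_mul_left _ hz
    calc z * q = u * c := B3.symm
      _ ≤ v * c := Nat.mul_le_mul_right _ B2
      _ ≤ z * cv := A5
  have B5 : M ≤ v * cv := by
    rw [← A3']; exact Nat.mul_le_mul B2 B4
  have B6 : v * cv = M := le_antisymm A6 B5
  refine ⟨?_, B6⟩
  by_contra hne
  have hlt : u < v := lt_of_le_of_ne B2 (Ne.symm hne)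
  have : u * q < v * cv :=
    calc u * q < v * q := Nat.mul_lt_mul_of_pos_right hlt hq
      _ ≤ v * cv := Nat.mul_le_mul_left _ B4
  omega

theorem clCenter_replacement [Finite P] (Q₀ U X : Subgroup P)
    (hQ₀ : Cfsg.IsMinimalCentrallyLarge Q₀) (hU : IsCLCenter Q₀ U)
    (hX : X ≤ Subgroup.centralizer (X : Set P))
    (hUX : ((U ⊔ X : Subgroup P) : Set P) = (U : Set P) * (X : Set P)) (y : P) (hy : y ∈ X) :
    ∃ H V : Subgroup P, IsCLCenter Q₀ V ∧ U ≤ H ∧
      U ⊓ MulAut.conj y • U ≤ V ∧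
      U ⊓ V ≤ MulAut.conj y • U ∧
      (∀ x ∈ H, ⁅x, y⁻¹⁆ ∈ H) ∧
      (∀ x ∈ H, ⁅x, y⁻¹⁆ ∈ U ⊓ MulAut.conj y • U → x ∈ V) := by
  classical
  have hM := cdMeasure_le_max P
  have hUyZ : IsCLCenter Q₀ (MulAut.conj y • U) := by
    obtain ⟨hUab, hUcd, hUcard⟩ := hU
    refine ⟨?_, ?_, ?_⟩
    · rw [centralizer_conj_smul]; exact Subgroup.pointwise_smul_le_pointwise_smul_iff.mpr hUab
    · show cdMeasure (MulAut.conj y • U) = _
      rw [cdMeasure_conj_smul]; exact hUcd
    · rw [card_conj_smul]; exact hUcard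
  have hE1 := IsCLCenter.inf_centralizer_le hQ₀ hU hUyZ
  have hE2 := IsCLCenter.inf_centralizer_le hQ₀ hUyZ hU
  obtain ⟨hUab, hUcd, hUcard⟩ := hU
  obtain ⟨hUyab, hUycd, hUycard⟩ := hUyZ
  have hUy_mem : ∀ x, x ∈ MulAut.conj y • U ↔ y⁻¹ * x * y ∈ U := fun x => mem_conj_smul_iff y x U
  obtain ⟨-, hHcd, hHset, -⟩ := cd_core U (MulAut.conj y • U) _ hM hUcd hUycd
  -- elements of `X` commute with `y`
  have hXy : ∀ s ∈ X, s * y = y * s := fun s hs => Subgroup.mem_centralizer_iff.mp (hX hy) s hs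
  have hXy' : ∀ s ∈ X, y * s * y⁻¹ = s := by
    intro s hs
    rw [← hXy s hs, mul_inv_cancel_right]
  -- `U ∩ X ≤ U^y`
  have hUXy : ∀ s, s ∈ U → s ∈ X → s ∈ MulAut.conj y • U := by
    intro s hsU hsX
    rw [hUy_mem]
    have : y⁻¹ * s * y = s := by rw [mul_assoc, hXy s hsX, inv_mul_cancel_left]
    rw [this]; exact hsU
  have hconjU : ∀ u ∈ U, y * u * y⁻¹ ∈ MulAut.conj y • U := by
    intro u hu
    rw [hUy_mem]
    have : y⁻¹ * (y * u * y⁻¹) * y = u := by group
    rw [this]; exact hu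
  have hUyle : MulAut.conj y • U ≤ U ⊔ X := by
    intro x hx
    rw [hUy_mem] at hx
    have hyX : y ∈ U ⊔ X := Subgroup.mem_sup_right hy
    have := Subgroup.mul_mem _ (Subgroup.mul_mem _ hyX (Subgroup.mem_sup_left hx))
      (Subgroup.inv_mem _ hyX)
    have e : y * (y⁻¹ * x * y) * y⁻¹ = x := by group
    rwa [e] at this
  set H := U ⊔ MulAut.conj y • U with hH
  set Z := U ⊓ MulAut.conj y • U with hZ
  set X₁ := H ⊓ X with hX₁
  set V := Z ⊔ X₁ with hV
  have hUH : U ≤ H := le_sup_left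
  have hUyH : MulAut.conj y • U ≤ H := le_sup_right
  have hHle : H ≤ U ⊔ X := sup_le le_sup_left hUyle
  -- Dedekind
  have hded : ∀ x ∈ H, ∃ u ∈ U, ∃ s ∈ X₁, x = u * s := by
    intro x hx
    have hx' : x ∈ ((U ⊔ X : Subgroup P) : Set P) := hHle hx
    rw [hUX] at hx'
    obtain ⟨u, hu, s, hs, rfl⟩ := hx'
    refine ⟨u, hu, s, Subgroup.mem_inf.mpr ⟨?_, hs⟩, rfl⟩
    have := H.mul_mem (H.inv_mem (hUH hu)) hx
    rwa [inv_mul_cancel_left] at this
  have hX₁H : X₁ ≤ H := inf_le_left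
  have hX₁X : X₁ ≤ X := inf_le_right
  have hHprod : ((U : Set P) * (X₁ : Set P) : Set P) = (H : Set P) := by
    apply Set.Subset.antisymm
    · rintro _ ⟨u, hu, s, hs, rfl⟩
      exact H.mul_mem (hUH hu) (hX₁H hs)
    · intro x hx
      obtain ⟨u, hu, s, hs, rfl⟩ := hded x hx
      exact ⟨u, hu, s, hs, rfl⟩
  -- centralizers
  have hCH : Subgroup.centralizer (H : Set P) =
      Subgroup.centralizer (U : Set P) ⊓ Subgroup.centralizer ((MulAut.conj y • U : Subgroup P) : Set P) :=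
    centralizer_sup _ _
  have hZCH : Z ≤ Subgroup.centralizer (H : Set P) := by
    rw [hCH]; exact le_inf (inf_le_left.trans hUab) (inf_le_right.trans hUyab)
  have hVH : V ≤ H := sup_le (inf_le_left.trans hUH) hX₁H
  have hZCX₁ : Z ≤ Subgroup.centralizer (X₁ : Set P) :=
    hZCH.trans (Subgroup.centralizer_le (SetLike.coe_subset_coe.mpr hX₁H))
  have hVab : V ≤ Subgroup.centralizer (V : Set P) := by
    rw [hV, centralizer_sup]
    apply sup_le
    · refine le_inf ?_ hZCX₁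
      exact (inf_le_left.trans hUab).trans
        (Subgroup.centralizer_le (SetLike.coe_subset_coe.mpr inf_le_left))
    · refine le_inf (Subgroup.le_centralizer_iff.mp hZCX₁) ?_
      exact (hX₁X.trans hX).trans (Subgroup.centralizer_le (SetLike.coe_subset_coe.mpr hX₁X))
  -- `V ∩ C(H) ≤ Z`
  have hVCH : V ⊓ Subgroup.centralizer (H : Set P) ≤ Z := by
    intro x hx
    obtain ⟨hxV, hxC⟩ := Subgroup.mem_inf.mp hx
    rw [hCH] at hxC
    obtain ⟨hxC1, hxC2⟩ := Subgroup.mem_inf.mp hxC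
    have hxH : x ∈ (H : Set P) := hVH hxV
    rw [hHset] at hxH
    obtain ⟨a, ha, b, hb, rfl⟩ := hxH
    have hb1 : b ∈ Subgroup.centralizer (U : Set P) := by
      have := Subgroup.mul_mem _ (Subgroup.inv_mem _ (hUab ha)) hxC1
      rwa [inv_mul_cancel_left] at this
    have ha2 : a ∈ Subgroup.centralizer ((MulAut.conj y • U : Subgroup P) : Set P) := by
      have := Subgroup.mul_mem _ hxC2 (Subgroup.inv_mem _ (hUyab hb))
      rwa [mul_inv_cancel_right] at this
    have hbU : b ∈ U := hE1 (Subgroup.mem_inf.mpr ⟨hb, hb1⟩)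
    have haUy : a ∈ MulAut.conj y • U := hE2 (Subgroup.mem_inf.mpr ⟨ha, ha2⟩)
    exact Subgroup.mem_inf.mpr ⟨U.mul_mem ha hbU, Subgroup.mul_mem _ haUy hb⟩
  have hVCV : V ⊔ Subgroup.centralizer (H : Set P) ≤ Subgroup.centralizer (V : Set P) :=
    sup_le hVab (Subgroup.centralizer_le (SetLike.coe_subset_coe.mpr hVH))
  -- `Z ∩ X₁ = U ∩ X₁`
  have hZX₁ : Z ⊓ X₁ = U ⊓ X₁ := by
    apply le_antisymm (inf_le_inf_right _ inf_le_left)
    intro x hx
    obtain ⟨hxU, hxX₁⟩ := Subgroup.mem_inf.mp hx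
    exact Subgroup.mem_inf.mpr ⟨Subgroup.mem_inf.mpr ⟨hxU, hUXy x hxU (hX₁X hxX₁)⟩, hxX₁⟩
  -- arithmetic
  have A1 := card_mul_card_eq_card_inf_mul_card_mul U (MulAut.conj y • U)
  rw [← hHset, card_conj_smul] at A1
  have A2 := card_mul_card_eq_card_inf_mul_card_mul U X₁
  rw [hHprod] at A2
  have A3 : Nat.card H * Nat.card (Subgroup.centralizer (H : Set P)) = Cfsg.maxCentralizerProduct P :=
    hHcd
  have A3' : Nat.card U * Nat.card (Subgroup.centralizer (U : Set P)) =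
      Cfsg.maxCentralizerProduct P := hUcd
  have A4 := card_mul_card_le_card_inf_mul_card_sup Z X₁
  rw [hZX₁] at A4
  have A5 : Nat.card V * Nat.card (Subgroup.centralizer (H : Set P)) ≤
      Nat.card Z * Nat.card (Subgroup.centralizer (V : Set P)) :=
    (card_mul_card_le_card_inf_mul_card_sup V (Subgroup.centralizer (H : Set P))).trans
      (Nat.mul_le_mul (Subgroup.card_le_of_le hVCH) (Subgroup.card_le_of_le hVCV))
  have A6 : Nat.card V * Nat.card (Subgroup.centralizer (V : Set P)) ≤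
      Cfsg.maxCentralizerProduct P := hM V
  obtain ⟨hVcard, hVcd⟩ := replacement_arith (Nat.card U) (Nat.card Z) (Nat.card H) (Nat.card X₁)
    (Nat.card ↥(U ⊓ X₁)) (Nat.card (Subgroup.centralizer (U : Set P)))
    (Nat.card (Subgroup.centralizer (H : Set P))) (Nat.card V)
    (Nat.card (Subgroup.centralizer (V : Set P))) (Cfsg.maxCentralizerProduct P)
    Nat.card_pos Nat.card_pos Nat.card_pos Nat.card_pos Nat.card_pos A1 A2 A3 A3' A4 A5 A6
  have hVZ : IsCLCenter Q₀ V := ⟨hVab, hVcd, hVcard.trans hUcard⟩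
  -- `y` normalizes `H`
  have hyH1 : ∀ x ∈ H, y * x * y⁻¹ ∈ H := by
    intro x hx
    have hx' : x ∈ (H : Set P) := hx
    rw [hHset] at hx'
    obtain ⟨a, ha, b, hb, rfl⟩ := hx'
    obtain ⟨u', hu', s', hs', rfl⟩ := hded b (hUyH hb)
    have e : y * (a * (u' * s')) * y⁻¹ = (y * a * y⁻¹) * ((y * u' * y⁻¹) * (y * s' * y⁻¹)) := by
      group
    rw [e, hXy' s' (hX₁X hs')]
    exact H.mul_mem (hUyH (hconjU a ha)) (H.mul_mem (hUyH (hconjU u' hu')) (hX₁H hs'))
  have hyH2 : MulAut.conj y • H = H := by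
    apply Subgroup.eq_of_le_of_card_ge
    · intro x hx
      rw [mem_conj_smul_iff] at hx
      have := hyH1 _ hx
      have e : y * (y⁻¹ * x * y) * y⁻¹ = x := by group
      rwa [e] at this
    · rw [card_conj_smul]
  have hyH3 : ∀ x ∈ H, y⁻¹ * x * y ∈ H := by
    intro x hx
    rw [← mem_conj_smul_iff, hyH2]; exact hx
  -- `V = Z X₁` as a set
  have hVset : (V : Set P) = (Z : Set P) * (X₁ : Set P) := by
    rw [hV]
    apply Subgroup.coe_mul_of_right_le_normalizer_left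
    exact (Subgroup.le_centralizer_iff.mp hZCX₁).trans (Subgroup.centralizer_le_normalizer _)
  refine ⟨H, V, hVZ, hUH, le_sup_left, ?_, ?_, ?_⟩
  · intro x hx
    obtain ⟨hxU, hxV⟩ := Subgroup.mem_inf.mp hx
    have hxV' : x ∈ (V : Set P) := hxV
    rw [hVset] at hxV'
    obtain ⟨z, hz, s, hs, rfl⟩ := hxV'
    have hsU : s ∈ U := by
      have := U.mul_mem (U.inv_mem (Subgroup.mem_inf.mp hz).1) hxU
      rwa [inv_mul_cancel_left] at this
    exact Subgroup.mul_mem _ (Subgroup.mem_inf.mp hz).2 (hUXy s hsU (hX₁X hs))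
  · intro x hx
    have e : ⁅x, y⁻¹⁆ = x * (y⁻¹ * x⁻¹ * y) := by
      rw [commutatorElement_def]; group
    rw [e]
    exact H.mul_mem hx (hyH3 _ (H.inv_mem hx))
  · intro x hx hc
    obtain ⟨u, hu, s, hs, rfl⟩ := hded x hx
    have hsy : s * y⁻¹ = y⁻¹ * s := by
      have h1 := hXy s (hX₁X hs)
      calc s * y⁻¹ = y⁻¹ * (y * s) * y⁻¹ := by group
        _ = y⁻¹ * (s * y) * y⁻¹ := by rw [h1]
        _ = y⁻¹ * s := by group
    have e : ⁅u * s, y⁻¹⁆ = u * (y⁻¹ * u⁻¹ * y) := by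
      rw [commutatorElement_def]
      calc u * s * y⁻¹ * (u * s)⁻¹ * y⁻¹⁻¹ = u * (s * y⁻¹) * s⁻¹ * u⁻¹ * y := by group
        _ = u * (y⁻¹ * s) * s⁻¹ * u⁻¹ * y := by rw [hsy]
        _ = u * (y⁻¹ * u⁻¹ * y) := by group
    rw [e] at hc
    have h1 : y⁻¹ * u⁻¹ * y ∈ U := by
      have := U.mul_mem (U.inv_mem hu) (Subgroup.mem_inf.mp hc).1
      rwa [inv_mul_cancel_left] at this
    have h2 : y⁻¹ * u * y ∈ U := by
      have := U.inv_mem h1
      have e2 : (y⁻¹ * u⁻¹ * y)⁻¹ = y⁻¹ * u * y := by group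
      rwa [e2] at this
    have h3 : u ∈ MulAut.conj y • U := (hUy_mem u).mpr h2
    exact V.mul_mem (Subgroup.mem_sup_left (Subgroup.mem_inf.mpr ⟨hu, h3⟩))
      (Subgroup.mem_sup_right hs)

/-! ### The lexicographic choice -/

/-- The profile `i ↦ |U ∩ Z_i(P)|` of a subgroup along the upper central series. -/
noncomputable def ucsProfile (U : Subgroup P) : Lex (ℕ → ℕ) :=
  toLex (fun i => Nat.card ↥(U ⊓ Subgroup.upperCentralSeries P i))

theorem ucsProfile_lt_of (U V : Subgroup P) (i : ℕ)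
    (h1 : ∀ j < i, Nat.card ↥(U ⊓ Subgroup.upperCentralSeries P j) = Nat.card ↥(V ⊓ Subgroup.upperCentralSeries P j))
    (h2 : Nat.card ↥(U ⊓ Subgroup.upperCentralSeries P i) < Nat.card ↥(V ⊓ Subgroup.upperCentralSeries P i)) :
    ucsProfile U < ucsProfile V :=
  ⟨i, fun j hj => h1 j hj, h2⟩

theorem clCenter_lexmax_step [Finite P] (Q₀ U X : Subgroup P)
    (hQ₀ : Cfsg.IsMinimalCentrallyLarge Q₀) (hU : IsCLCenter Q₀ U)
    (hmax : ∀ V, IsCLCenter Q₀ V → ¬ ucsProfile U < ucsProfile V)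
    (hX : X ≤ Subgroup.centralizer (X : Set P))
    (hUX : ((U ⊔ X : Subgroup P) : Set P) = (U : Set P) * (X : Set P))
    (m : ℕ) (ih : ∀ i < m, ∀ y ∈ X, ∀ a ∈ U, a ∈ Subgroup.upperCentralSeries P i → y⁻¹ * a * y ∈ U) :
    ∀ y ∈ X, ∀ a ∈ U, a ∈ Subgroup.upperCentralSeries P m → y⁻¹ * a * y ∈ U := by
  intro y hy a haU haB
  obtain ⟨H, V, hVZ, hUH, hZV, hUV, hcomH, hcomV⟩ :=
    clCenter_replacement Q₀ U X hQ₀ hU hX hUX y hy
  -- Step 1
  have s1 : ∀ i < m, U ⊓ Subgroup.upperCentralSeries P i ≤ V ⊓ Subgroup.upperCentralSeries P i := by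
    intro i hi x hx
    obtain ⟨hxU, hxB⟩ := Subgroup.mem_inf.mp hx
    refine Subgroup.mem_inf.mpr ⟨hZV (Subgroup.mem_inf.mpr ⟨hxU, ?_⟩), hxB⟩
    rw [mem_conj_smul_iff]
    exact ih i hi y hy x hxU hxB
  -- Step 2
  have s2 : ∀ i < m, Nat.card ↥(U ⊓ Subgroup.upperCentralSeries P i) =
      Nat.card ↥(V ⊓ Subgroup.upperCentralSeries P i) := by
    intro i
    induction i using Nat.strong_induction_on with
    | _ i IH =>
      intro hi
      have hle := Subgroup.card_le_of_le (s1 i hi)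
      by_contra hne
      exact hmax V hVZ (ucsProfile_lt_of U V i (fun j hj => IH j hj (hj.trans hi))
        (lt_of_le_of_ne hle hne))
  -- Step 3
  have s3 : ∀ i < m, V ⊓ Subgroup.upperCentralSeries P i ≤ U ⊓ Subgroup.upperCentralSeries P i := by
    intro i hi
    exact (Subgroup.eq_of_le_of_card_ge (s1 i hi) (s2 i hi).ge).ge
  -- Step 4
  have s4 : ∀ j ≤ m, ∀ x ∈ H, x ∈ Subgroup.upperCentralSeries P j → x ∈ V := by
    intro j
    induction j with
    | zero =>
      intro _ x _ hxB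
      rw [Subgroup.upperCentralSeries_zero, Subgroup.mem_bot] at hxB
      rw [hxB]; exact V.one_mem
    | succ j IH =>
      intro hj x hxH hxB
      have hjm : j < m := hj
      have hcB : ⁅x, y⁻¹⁆ ∈ Subgroup.upperCentralSeries P j := (Subgroup.mem_upperCentralSeries_succ_iff.mp hxB) y⁻¹
      have hcH : ⁅x, y⁻¹⁆ ∈ H := hcomH x hxH
      have hcV : ⁅x, y⁻¹⁆ ∈ V := IH hjm.le _ hcH hcB
      have hcU : ⁅x, y⁻¹⁆ ∈ U := (Subgroup.mem_inf.mp (s3 j hjm (Subgroup.mem_inf.mpr ⟨hcV, hcB⟩))).1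
      have hcUy : ⁅x, y⁻¹⁆ ∈ MulAut.conj y • U := by
        rw [mem_conj_smul_iff]
        exact ih j hjm y hy _ hcU hcB
      exact hcomV x hxH (Subgroup.mem_inf.mpr ⟨hcU, hcUy⟩)
  -- Step 5
  have haV : a ∈ V := s4 m le_rfl a (hUH haU) haB
  have := hUV (Subgroup.mem_inf.mpr ⟨haU, haV⟩)
  rwa [mem_conj_smul_iff] at this

/-! ### The main theorem -/

/-- Glauberman: in a finite nilpotent group `P` some minimal centrally large subgroup is
normalized by `J(P)` and by `P_MCL`. -/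
theorem exists_minimalCL_normalized (P : Type*) [Group P] [Finite P]
    (hn : ∃ n : ℕ, Subgroup.upperCentralSeries P n = ⊤) :
    ∃ Q : Subgroup P, Cfsg.IsMinimalCentrallyLarge Q ∧
      Cfsg.thompsonSubgroupA P ≤ Subgroup.normalizer (Q : Set P) ∧
      Cfsg.minimalCentrallyLargeJoin P ≤ Subgroup.normalizer (Q : Set P) := by
  classical
  obtain ⟨Q₀, hQ₀⟩ := exists_isMinimalCentrallyLarge P
  have hne : {U : Subgroup P | IsCLCenter Q₀ U}.Nonempty :=
    ⟨_, (isCLCenter_centralizer Q₀ Q₀ hQ₀ hQ₀).1⟩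
  obtain ⟨U, hU, hmaxU⟩ := Set.exists_max_image {U : Subgroup P | IsCLCenter Q₀ U}
    (fun V => ucsProfile V) (Set.toFinite _) hne
  have hU' : IsCLCenter Q₀ U := hU
  have hmax : ∀ V, IsCLCenter Q₀ V → ¬ ucsProfile U < ucsProfile V :=
    fun V hV => not_lt.mpr (hmaxU V hV)
  obtain ⟨n, hn⟩ := hn
  -- the key normalization property
  have key : ∀ X : Subgroup P, X ≤ Subgroup.centralizer (X : Set P) →
      ((U ⊔ X : Subgroup P) : Set P) = (U : Set P) * (X : Set P) →
      X ≤ Subgroup.normalizer (U : Set P) := by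
    intro X hX hUX
    have h : ∀ m, ∀ y ∈ X, ∀ a ∈ U, a ∈ Subgroup.upperCentralSeries P m → y⁻¹ * a * y ∈ U := by
      intro m
      induction m using Nat.strong_induction_on with
      | _ m IH => exact clCenter_lexmax_step Q₀ U X hQ₀ hU' hmax hX hUX m IH
    have h' : ∀ y ∈ X, ∀ a ∈ U, y⁻¹ * a * y ∈ U := by
      intro y hy a ha
      exact h n y hy a ha (by rw [hn]; exact Subgroup.mem_top a)
    intro y hy
    rw [Subgroup.mem_normalizer_iff'']
    intro a
    constructor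
    · exact h' y hy a
    · intro ha
      have := h' y⁻¹ (X.inv_mem hy) _ ha
      have e : y⁻¹⁻¹ * (y⁻¹ * a * y) * y⁻¹ = a := by group
      rwa [e] at this
  obtain ⟨hQ, hUCC⟩ := hU'.minimalCL hQ₀
  have hNN := normalizer_le_normalizer_centralizer U
  obtain ⟨hUab, hUcd, hUcard⟩ := hU'
  refine ⟨Subgroup.centralizer (U : Set P), hQ, ?_, ?_⟩
  · apply sSup_le
    intro A hA
    obtain ⟨-, h2⟩ := cl_maxAbelian_centralizer_inf_sup _ A hQ.1 hA
    rw [hUCC] at h2
    exact (key A ((isMulCommutative_iff_le_centralizer A).mp hA.1) h2).trans hNN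
  · apply sSup_le
    intro R hR
    have hR' : Cfsg.IsMinimalCentrallyLarge R := hR
    obtain ⟨⟨hVab, hVcd, hVcard⟩, hRCC⟩ := isCLCenter_centralizer Q₀ R hQ₀ hR'
    obtain ⟨-, -, hset, -⟩ := cd_core U (Subgroup.centralizer (R : Set P)) _
      (cdMeasure_le_max P) hUcd hVcd
    have hVN := (key _ hVab hset).trans hNN
    obtain ⟨h1, -⟩ := minimalCL_eq_inf_sup_center R _ hR' hQ.1
    rw [← h1]
    exact sup_le (inf_le_right.trans Subgroup.le_normalizer) hVN

end Cfsg.Agent.Lib.Helper50
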