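import Mathlib

/-!
# Module [XSET] of board #3238 (PF (12.7) character core)

`exists_invariant_linear_chars`: if `T ≤ K` is normal in `K` with `K/T` abelian and `x` acts trivially on `K/T`,
then `K` has at least `|K : T| - 1` nontrivial `x`-invariant linear characters.
-/

set_option autoImplicit false

namespace Cfsg.Agent.Lib.Helper50

theorem exists_invariant_linear_chars {G : Type*} [Group G] [Finite G] (K T : Subgroup G) (x : G)
    (hTK : T ≤ K) (hTn : ∀ k ∈ K, ∀ t ∈ T, k * t * k⁻¹ ∈ T)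
    (hcomm : ∀ k₁ ∈ K, ∀ k₂ ∈ K, k₁ * k₂ * k₁⁻¹ * k₂⁻¹ ∈ T)
    (hx : ∀ k ∈ K, x * k * x⁻¹ ∈ K) (hxT : ∀ k ∈ K, x * k * x⁻¹ * k⁻¹ ∈ T) (m : ℕ)
    (hm : m + 1 ≤ T.relIndex K) :
    ∃ X : Finset (↥K →* ℂˣ), m ≤ X.card ∧ (∀ θ ∈ X, θ ≠ 1) ∧
      ∀ θ ∈ X, ∀ h h' : ↥K, (h' : G) = x * (h : G) * x⁻¹ → θ h' = θ h := by
  classical
  have hN : (T.subgroupOf K).Normal := by
    constructor
    intro n hn g
    rw [Subgroup.mem_subgroupOf] at hn ⊢
    simpa using hTn g g.2 n hn
  let Q := ↥K ⧸ T.subgroupOf K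
  have hQcomm : ∀ a b : Q, a * b = b * a := by
    intro a b
    induction a using QuotientGroup.induction_on with
    | H a =>
      induction b using QuotientGroup.induction_on with
      | H b =>
        rw [← QuotientGroup.mk_mul, ← QuotientGroup.mk_mul]
        -- `a * b = (a * b * a⁻¹ * b⁻¹) * (b * a)`
        have h1 : a * b = (a * b * a⁻¹ * b⁻¹) * (b * a) := by group
        rw [h1, QuotientGroup.mk_mul]
        have h2 : ((a * b * a⁻¹ * b⁻¹ : ↥K) : Q) = 1 := by
          rw [QuotientGroup.eq_one_iff, Subgroup.mem_subgroupOf]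
          simpa using hcomm a a.2 b b.2
        rw [h2, one_mul]
  let _ : CommGroup Q := { (inferInstance : Group Q) with mul_comm := hQcomm }
  have hcardQ : Nat.card Q = T.relIndex K := by
    rw [Subgroup.relIndex, Subgroup.index_eq_card]
  have : NeZero ((Monoid.exponent Q : ℕ) : ℂ) :=
    ⟨by exact_mod_cast (Monoid.exponent_ne_zero_of_finite (G := Q))⟩
  have hER : HasEnoughRootsOfUnity ℂ (Monoid.exponent Q) := inferInstance
  have hdual : Nat.card (Q →* ℂˣ) = Nat.card Q :=
    CommGroup.card_monoidHom_of_hasEnoughRootsOfUnity Q ℂ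
  have hfin : Finite (Q →* ℂˣ) := by
    apply Nat.finite_of_card_ne_zero
    rw [hdual]
    exact Nat.card_pos.ne'
  let _ := Fintype.ofFinite (Q →* ℂˣ)
  let π : ↥K →* Q := QuotientGroup.mk' (T.subgroupOf K)
  have hπ : Function.Surjective π := QuotientGroup.mk'_surjective _
  let c : (Q →* ℂˣ) → (↥K →* ℂˣ) := fun ψ => ψ.comp π
  have hc : Function.Injective c := by
    intro ψ ψ' h
    ext q
    have := DFunLike.congr_fun h q
    exact congrArg Units.val this
  refine ⟨((Finset.univ : Finset (Q →* ℂˣ)).filter (fun ψ => ψ ≠ 1)).image c, ?_, ?_, ?_⟩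
  · rw [Finset.card_image_of_injective _ hc, Finset.filter_ne' , Finset.card_erase_of_mem (Finset.mem_univ _),
      Finset.card_univ, ← Nat.card_eq_fintype_card, hdual, hcardQ]
    omega
  · intro θ hθ
    rw [Finset.mem_image] at hθ
    obtain ⟨ψ, hψ, rfl⟩ := hθ
    rw [Finset.mem_filter] at hψ
    intro h1
    apply hψ.2
    apply hc
    rw [h1]
    ext k
    simp [c]
  · intro θ hθ h h' hh'
    rw [Finset.mem_image] at hθ
    obtain ⟨ψ, -, rfl⟩ := hθ
    have h3 : π h' = π h := by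
      have h4 : π (h' * h⁻¹) = 1 := by
        change ((h' * h⁻¹ : ↥K) : Q) = 1
        rw [QuotientGroup.eq_one_iff, Subgroup.mem_subgroupOf]
        have := hxT h h.2
        simpa [hh'] using this
      rw [map_mul, map_inv, mul_inv_eq_one] at h4
      exact h4
    change ψ (π h') = ψ (π h)
    rw [h3]

end Cfsg.Agent.Lib.Helper50
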