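import Mathlib
import Cfsg.Agent.Lib.Helper60.PFTwelveG1
import Cfsg.Agent.Lib.Helper54.Coprime
import Cfsg.Agent.Lib.Helper23.TypeP

/-!
# Module [COMM] of board #3353 (PF (12.7), group part, helper60)
-/

set_option autoImplicit false

namespace Cfsg.Agent.Lib.Helper50.PF12G

open Cfsg
open Cfsg.Agent.Lib.Helper60.PF12G
open Pointwise

variable {G : Type*} [Group G]

/-- **[COMM]** Two elements of a complement `E` of `K` in `M`, each centralizing a non-identity element
of `K`, commute (they lie in the conjugate of the abelian subgroup `U₁`). -/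
theorem commute_of_fix [Finite G] {M K U U₁ U₀ : Subgroup G} (hD : FData M K U U₁ U₀)
    {E : Subgroup G} (hE : IsComplIn K E M) {a b : G} (ha : a ∈ E) (hb : b ∈ E)
    (hak : ∃ k ∈ K, k ≠ 1 ∧ a * k = k * a) (hbk : ∃ k ∈ K, k ≠ 1 ∧ b * k = k * b) :
    a * b = b * a := by
  have hKM : K ≤ M := hD.compl.1
  have hUM : U ≤ M := hD.compl.2.1
  have hEM : E ≤ M := hE.2.1
  have hcardU : Nat.card M = Nat.card K * Nat.card U :=
    Cfsg.Agent.Lib.Helper23.card_of_isComplIn hD.compl
  have hcardE : Nat.card M = Nat.card K * Nat.card E :=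
    Cfsg.Agent.Lib.Helper23.card_of_isComplIn hE
  have hEU : Nat.card E = Nat.card U := by
    have : Nat.card K * Nat.card E = Nat.card K * Nat.card U := by rw [← hcardE, ← hcardU]
    exact Nat.eq_of_mul_eq_mul_left Nat.card_pos this
  have hMK : M ≤ Subgroup.normalizer (K : Set G) := by
    intro m hm
    rw [Subgroup.mem_normalizer_iff]
    intro k
    constructor
    · intro hk
      exact hD.K_norm m hm k hk
    · intro hk
      have := hD.K_norm m⁻¹ (M.inv_mem hm) _ hk
      simpa [mul_assoc] using this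
  have hKsolv : Group.IsSolvable K := by
    have := hD.K_nil
    infer_instance
  obtain ⟨l, hlK, hl⟩ := Cfsg.Agent.Lib.Helper54.sz_conj_rel M K U E hKM hMK hUM hEM hcardU.symm hEU
    hD.cop (Or.inr hKsolv)
  -- elements of `E` are `l u l⁻¹`, `u ∈ U`
  have hconj : ∀ x ∈ E, l⁻¹ * x * l ∈ U := by
    intro x hx
    rw [← hl] at hx
    rw [Subgroup.mem_pointwise_smul_iff_inv_smul_mem] at hx
    simpa [MulAut.smul_def, MulAut.conj_apply, mul_assoc] using hx
  have hU₁ : ∀ x ∈ E, (∃ k ∈ K, k ≠ 1 ∧ x * k = k * x) → l⁻¹ * x * l ∈ U₁ := by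
    intro x hx ⟨k, hk, hk1, hxk⟩
    apply hD.U₁_cent (l⁻¹ * k * l) (K.mul_mem (K.mul_mem (K.inv_mem hlK) hk) hlK) _ _ (hconj x hx)
    · calc l⁻¹ * x * l * (l⁻¹ * k * l) = l⁻¹ * (x * k) * l := by group
        _ = l⁻¹ * (k * x) * l := by rw [hxk]
        _ = l⁻¹ * k * l * (l⁻¹ * x * l) := by group
    · intro h1
      apply hk1
      have : k = l * (l⁻¹ * k * l) * l⁻¹ := by group
      rw [this, h1]
      group
  have h := hD.U₁_comm _ (hU₁ a ha hak) _ (hU₁ b hb hbk)
  calc a * b = l * ((l⁻¹ * a * l) * (l⁻¹ * b * l)) * l⁻¹ := by group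
    _ = l * ((l⁻¹ * b * l) * (l⁻¹ * a * l)) * l⁻¹ := by rw [h]
    _ = b * a := by group

end Cfsg.Agent.Lib.Helper50.PF12G
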