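import Mathlib
import Cfsg.Agent.Lib.Helper52.NilpSub

/-!
# Modules [SYLN] [SYLG] [HALLN] [OMZ] of board #3353 (PF (12.7), group part, helper60)

Elementary Sylow-type lemmas in ambient form.
-/

set_option autoImplicit false

namespace Cfsg.Agent.Lib.Helper50.PF12G

open Pointwise

variable {G : Type*} [Group G]

/-- **[HALLN]** A normal subgroup `N` of `L` of index prime to `p` contains every `p`-subgroup of `L`. -/
theorem le_of_isPGroup_of_not_dvd_relIndex [Finite G] (p : ℕ) (hp : p.Prime) (L N P : Subgroup G)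
    (hNL : N ≤ L) (hLN : ∀ l ∈ L, ∀ n ∈ N, l * n * l⁻¹ ∈ N) (hidx : ¬ p ∣ N.relIndex L)
    (hPL : P ≤ L) (hP : IsPGroup p P) : P ≤ N := by
  have hN : (N.subgroupOf L).Normal := by
    constructor
    intro n hn g
    rw [Subgroup.mem_subgroupOf] at hn ⊢
    simpa using hLN g g.2 n hn
  intro x hx
  let y : ↥L := ⟨x, hPL hx⟩
  obtain ⟨k, hk⟩ := hP ⟨x, hx⟩
  have hxk : x ^ p ^ k = 1 := by
    have := congrArg Subtype.val hk
    simpa using this
  have hyk : y ^ p ^ k = 1 := by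
    ext
    simpa [y] using hxk
  have h1 : orderOf ((y : ↥L) : ↥L ⧸ N.subgroupOf L) ∣ p ^ k := by
    apply orderOf_dvd_of_pow_eq_one
    rw [← QuotientGroup.mk_pow, hyk, QuotientGroup.mk_one]
  have h2 : orderOf ((y : ↥L) : ↥L ⧸ N.subgroupOf L) ∣ N.relIndex L := by
    rw [Subgroup.relIndex, Subgroup.index_eq_card]
    exact orderOf_dvd_natCard _
  have hcop : Nat.Coprime (p ^ k) (N.relIndex L) :=
    Nat.Coprime.pow_left k ((Nat.Prime.coprime_iff_not_dvd hp).2 hidx)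
  have h3 : orderOf ((y : ↥L) : ↥L ⧸ N.subgroupOf L) = 1 :=
    Nat.eq_one_of_dvd_coprimes hcop h1 h2
  rw [orderOf_eq_one_iff, QuotientGroup.eq_one_iff, Subgroup.mem_subgroupOf] at h3
  exact h3

/-- **[SYLG]** A Sylow `p`-subgroup `S₀` of a subgroup `L₀` whose normalizer in `G` lies in `L₀` is a
Sylow `p`-subgroup of `G`: every `p`-subgroup of `G` is conjugate into it. -/
theorem exists_conj_le_of_normalizer_le [Finite G] (p : ℕ) [Fact p.Prime] (L₀ S₀ : Subgroup G)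
    (hS₀L : S₀ ≤ L₀) (hS₀p : IsPGroup p S₀)
    (hmax : ∀ Q : Subgroup G, Q ≤ L₀ → IsPGroup p Q → S₀ ≤ Q → Q = S₀)
    (hN : Subgroup.normalizer (S₀ : Set G) ≤ L₀)
    (P : Subgroup G) (hP : IsPGroup p P) :
    ∃ g : G, ∀ x ∈ P, g * x * g⁻¹ ∈ S₀ := by
  obtain ⟨S, hS⟩ := hS₀p.exists_le_sylow
  -- `S₀ = S`
  have hQ : (S : Subgroup G) ⊓ Subgroup.normalizer (S₀ : Set G) = S₀ := by
    apply hmax
    · exact inf_le_right.trans hN
    · exact S.isPGroup'.to_le inf_le_left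
    · exact le_inf hS Subgroup.le_normalizer
  have hSS : (S : Subgroup G) = S₀ := by
    by_contra hne
    have hlt : S₀.subgroupOf S < ⊤ := by
      rw [lt_top_iff_ne_top]
      intro h
      apply hne
      apply le_antisymm _ hS
      rw [← Subgroup.subgroupOf_eq_top]
      exact h
    have hnil : Group.IsNilpotent ↥(S : Subgroup G) := S.isPGroup'.isNilpotent
    have hnc := Group.normalizerCondition_of_isNilpotent (G := ↥(S : Subgroup G))
    have h2 := hnc _ hlt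
    rw [← Subgroup.subgroupOf_normalizer_eq hS] at h2
    have h3 : (Subgroup.normalizer (S₀ : Set G)).subgroupOf S ≤ S₀.subgroupOf S := by
      intro x hx
      rw [Subgroup.mem_subgroupOf] at hx ⊢
      rw [← hQ]
      exact ⟨x.2, hx⟩
    exact absurd (lt_of_lt_of_le h2 h3) (lt_irrefl _)
  obtain ⟨S', hPS'⟩ := hP.exists_le_sylow
  obtain ⟨g, hg⟩ := MulAction.exists_smul_eq G S' S
  refine ⟨g, fun x hx => ?_⟩
  rw [← hSS, ← hg, Sylow.coe_subgroup_smul]
  have : MulAut.conj g • x ∈ MulAut.conj g • (S' : Subgroup G) :=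
    Subgroup.smul_mem_pointwise_smul _ _ _ (hPS' hx)
  simpa [MulAut.smul_def] using this

/-- **[SYLN]** The unique Sylow `p`-subgroup of a nilpotent subgroup `H` normalized by `L`. -/
theorem exists_sylow_of_nilpotent [Finite G] (p : ℕ) [Fact p.Prime] (L H : Subgroup G)
    (hnil : Group.IsNilpotent H) (hLH : ∀ l ∈ L, ∀ h ∈ H, l * h * l⁻¹ ∈ H) :
    ∃ S : Subgroup G, S ≤ H ∧ IsPGroup p S ∧ (∀ Q : Subgroup G, Q ≤ H → IsPGroup p Q → Q ≤ S) ∧
      ∀ l ∈ L, ∀ s ∈ S, l * s * l⁻¹ ∈ S := by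
  obtain ⟨S, hSH, hSp, hSmem⟩ := Cfsg.Agent.Lib.Helper52.exists_pSubgroup_of_nilpotent H hnil p
  have hmax : ∀ Q : Subgroup G, Q ≤ H → IsPGroup p Q → Q ≤ S := by
    intro Q hQH hQ x hx
    obtain ⟨k, hk⟩ := (IsPGroup.iff_orderOf.mp hQ) ⟨x, hx⟩
    rw [Subgroup.orderOf_mk] at hk
    exact hSmem x (hQH hx) k hk
  refine ⟨S, hSH, hSp, hmax, ?_⟩
  intro l hl s hs
  obtain ⟨k, hk⟩ := (IsPGroup.iff_orderOf.mp hSp) ⟨s, hs⟩
  rw [Subgroup.orderOf_mk] at hk
  apply hSmem _ (hLH l hl s (hSH hs)) k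
  rw [← hk]
  have : l * s * l⁻¹ = MulAut.conj l s := by simp [MulAut.conj_apply]
  rw [this, MulEquiv.orderOf_eq]

/-- **[OMZ]** `Ω₁(Z(O_p(H)))` for a nilpotent subgroup `H` of order divisible by `p`: a non-identity
central subgroup of exponent `p`, invariant under everything that normalizes `H`. -/
theorem exists_omega_center [Finite G] (p : ℕ) (hp : p.Prime) (H : Subgroup G)
    (hnil : Group.IsNilpotent H) (hpH : p ∣ Nat.card H) :
    ∃ V : Subgroup G, V ≤ H ∧ V ≠ ⊥ ∧ (∀ v ∈ V, v ^ p = 1) ∧ (∀ v ∈ V, ∀ h ∈ H, v * h = h * v) ∧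
      ∀ g : G, (∀ h ∈ H, g * h * g⁻¹ ∈ H) → ∀ v ∈ V, g * v * g⁻¹ ∈ V := by
  have : Fact p.Prime := ⟨hp⟩
  let V : Subgroup G :=
    { carrier := {z | z ∈ H ∧ (∀ h ∈ H, z * h = h * z) ∧ z ^ p = 1}
      one_mem' := ⟨H.one_mem, fun h _ => by simp, one_pow _⟩
      mul_mem' := by
        rintro a b ⟨haH, hac, hap⟩ ⟨hbH, hbc, hbp⟩
        refine ⟨H.mul_mem haH hbH, fun h hh => ?_, ?_⟩
        · rw [mul_assoc, hbc h hh, ← mul_assoc, hac h hh, mul_assoc]
        · have hab : Commute a b := hac b hbH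
          rw [hab.mul_pow, hap, hbp, one_mul]
      inv_mem' := by
        rintro a ⟨haH, hac, hap⟩
        refine ⟨H.inv_mem haH, fun h hh => ?_, by rw [inv_pow, hap, inv_one]⟩
        have := hac h hh
        calc a⁻¹ * h = a⁻¹ * (h * a) * a⁻¹ := by group
          _ = a⁻¹ * (a * h) * a⁻¹ := by rw [this]
          _ = h * a⁻¹ := by group }
  have hVmem : ∀ z, z ∈ V ↔ z ∈ H ∧ (∀ h ∈ H, z * h = h * z) ∧ z ^ p = 1 := fun z => Iff.rfl
  refine ⟨V, fun z hz => ((hVmem z).1 hz).1, ?_, fun v hv => ((hVmem v).1 hv).2.2,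
    fun v hv => ((hVmem v).1 hv).2.1, ?_⟩
  · obtain ⟨u, huH, huo, huc⟩ :=
      Cfsg.Agent.Lib.Helper52.exists_central_orderOf_eq_prime H hnil p hpH
    intro hV
    have huV : u ∈ V := (hVmem u).2 ⟨huH, huc, by rw [← huo, pow_orderOf_eq_one]⟩
    rw [hV, Subgroup.mem_bot] at huV
    rw [huV, orderOf_one] at huo
    exact hp.one_lt.ne huo
  · intro g hg v hv
    obtain ⟨hvH, hvc, hvp⟩ := (hVmem v).1 hv
    -- `g⁻¹ h g ∈ H` for `h ∈ H` by finiteness
    have hg' : ∀ h ∈ H, g⁻¹ * h * g ∈ H := by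
      intro h hh
      have hmap : H.map (MulAut.conj g).toMonoidHom ≤ H := by
        rintro _ ⟨y, hy, rfl⟩
        simpa [MulAut.conj_apply] using hg y hy
      have hcard : Nat.card (H.map (MulAut.conj g).toMonoidHom) = Nat.card H :=
        Subgroup.card_map_of_injective (MulAut.conj g).injective
      have heq : H.map (MulAut.conj g).toMonoidHom = H :=
        Subgroup.eq_of_le_of_card_ge hmap (le_of_eq hcard.symm)
      have hh' : h ∈ H.map (MulAut.conj g).toMonoidHom := by rw [heq]; exact hh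
      obtain ⟨y, hy, hyh⟩ := hh'
      have : g⁻¹ * h * g = y := by
        rw [← hyh]
        simp [MulAut.conj_apply, mul_assoc]
      rw [this]
      exact hy
    refine (hVmem _).2 ⟨hg v hvH, fun h hh => ?_, ?_⟩
    · have := hvc (g⁻¹ * h * g) (hg' h hh)
      calc g * v * g⁻¹ * h = g * (v * (g⁻¹ * h * g)) * g⁻¹ := by group
        _ = g * ((g⁻¹ * h * g) * v) * g⁻¹ := by rw [this]
        _ = h * (g * v * g⁻¹) := by group
    · rw [conj_pow, hvp, mul_one, mul_inv_cancel]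

end Cfsg.Agent.Lib.Helper50.PF12G
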