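import Mathlib
import Cfsg.Agent.Lib.Helper31.SubnormalChar
import Cfsg.Agent.S0065

/-!
# Parabolic characteristic `p` passes to suitable subnormal subgroups (helper50)

Ambient form of the key step: `charP_normalizer_inf_of_parabolic`.
-/

set_option autoImplicit false

namespace Cfsg.Agent.Lib.Helper50

open Cfsg
open Cfsg.Agent.Lib.Helper31 Cfsg.Agent.Lib.Helper49

variable {G : Type*} [Group G]

/-- a nontrivial subgroup `R` of a finite `p`-subgroup `S₁` which is normalized by `S₁` contains a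
nontrivial element central in `S₁`. -/
theorem exists_central_of_normalized {p : ℕ} [Fact p.Prime] [Finite G] {S₁ R : Subgroup G}
    (hS₁ : IsPGroup p S₁) (hRS : R ≤ S₁) (hn : S₁ ≤ Subgroup.normalizer (R : Set G))
    (hR : R ≠ ⊥) : ∃ z ∈ R, z ≠ 1 ∧ ∀ s ∈ S₁, s * z = z * s := by
  haveI : Group.IsNilpotent S₁ := hS₁.isNilpotent
  haveI : (R.subgroupOf S₁).Normal := (Subgroup.normal_subgroupOf_iff_le_normalizer hRS).mpr hn
  have hne : R.subgroupOf S₁ ≠ ⊥ := by
    intro h
    apply hR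
    rw [eq_bot_iff]
    intro x hx
    have : (⟨x, hRS hx⟩ : S₁) ∈ R.subgroupOf S₁ := Subgroup.mem_subgroupOf.mpr hx
    rw [h, Subgroup.mem_bot] at this
    rw [Subgroup.mem_bot]
    exact congrArg Subtype.val this
  have h := Cfsg.Agent.S0065.result (R.subgroupOf S₁) hne
  obtain ⟨⟨z, hzmem⟩, hz1⟩ := (Subgroup.ne_bot_iff_exists_ne_one).mp h
  refine ⟨(z : G), ?_, ?_, ?_⟩
  · exact Subgroup.mem_subgroupOf.mp hzmem.1
  · intro h1
    apply hz1
    apply Subtype.ext
    exact Subtype.ext h1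
  · intro s hs
    have := (Subgroup.mem_center_iff.mp hzmem.2) ⟨s, hs⟩
    exact congrArg Subtype.val this

/-- Key step for "parabolic characteristic `p` passes to subnormal subgroups". -/
theorem charP_normalizer_inf_of_parabolic {p : ℕ} [Fact p.Prime] [Finite G]
    (hG : ∀ R : Subgroup G, IsPGroup p R → R ≠ ⊥ →
      (∃ T : Sylow p G, (T : Subgroup G) ≤ Subgroup.normalizer (R : Set G)) →
      CharP p (Subgroup.normalizer (R : Set G)))
    (S : Sylow p G) (G₁ : Subgroup G) (hsn : G₁.IsSubnormal)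
    (S₁ : Subgroup G) (hS₁G : S₁ ≤ G₁) (hS₁p : IsPGroup p S₁)
    (hS₁max : ∀ P : Subgroup G, IsPGroup p P → S₁ ≤ P → P ≤ G₁ → P = S₁)
    (hZ : ∀ z ∈ S₁, (∀ s ∈ S₁, s * z = z * s) → ∀ s ∈ (S : Subgroup G), s * z = z * s)
    (R : Subgroup G) (hRG : R ≤ G₁) (hRp : IsPGroup p R) (hRne : R ≠ ⊥)
    (hSR : S₁ ≤ Subgroup.normalizer (R : Set G)) :
    CharP p (Subgroup.normalizer (R : Set G) ⊓ G₁) := by
  set L₁ := Subgroup.normalizer (R : Set G) ⊓ G₁ with hL₁
  set Q₁ := pCoreIn p L₁ with hQ₁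
  have hRL : R ≤ L₁ := le_inf Subgroup.le_normalizer hRG
  have hRQ : R ≤ Q₁ := le_pCoreIn_of_normalized hRL inf_le_left hRp
  have hS₁L : S₁ ≤ L₁ := le_inf hSR hS₁G
  have hQ₁L : Q₁ ≤ L₁ := pCoreIn_le p L₁
  have hQ₁p : IsPGroup p Q₁ := isPGroup_pCoreIn p L₁
  -- `Q₁ ≤ S₁`
  have hQ₁S : Q₁ ≤ S₁ := by
    have hsup : IsPGroup p (S₁ ⊔ Q₁ : Subgroup G) :=
      IsPGroup.to_sup_of_normal_right' hS₁p hQ₁p (hS₁L.trans (le_normalizer_pCoreIn p L₁))
    have := hS₁max _ hsup le_sup_left (sup_le hS₁G (hQ₁L.trans inf_le_right))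
    rw [← this]; exact le_sup_right
  have hRS : R ≤ S₁ := hRQ.trans hQ₁S
  -- the central element
  obtain ⟨z, hzR, hz1, hzc⟩ := exists_central_of_normalized hS₁p hRS hSR hRne
  set U := Subgroup.zpowers z with hU
  have hUR : U ≤ R := by rw [hU, Subgroup.zpowers_le]; exact hzR
  have hUp : IsPGroup p U := hRp.to_le hUR
  have hUne : U ≠ ⊥ := by
    intro h
    apply hz1
    have : z ∈ U := Subgroup.mem_zpowers z
    rw [h, Subgroup.mem_bot] at this
    exact this
  -- centralizing `z` means centralizing `U`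
  have hcentU : ∀ g : G, g * z = z * g → g ∈ Subgroup.centralizer (U : Set G) := by
    intro g hg
    rw [Subgroup.mem_centralizer_iff]
    intro u hu
    obtain ⟨k, rfl⟩ := Subgroup.mem_zpowers_iff.mp hu
    exact ((Commute.zpow_right (show Commute g z from hg) k).eq).symm
  have hSU : (S : Subgroup G) ≤ Subgroup.normalizer (U : Set G) := by
    intro s hs
    apply Subgroup.centralizer_le_normalizer
    exact hcentU s (hZ z (hRS hzR) hzc s hs)
  set M := Subgroup.normalizer (U : Set G) with hM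
  have hMchar : CharP p M := hG U hUp hUne ⟨S, hSU⟩
  -- `M₁ = M ⊓ G₁`
  set M₁ := M ⊓ G₁ with hM₁
  have hM₁char : CharP p M₁ := by
    apply charP_of_isSubnormal (inf_le_left : M₁ ≤ M) hMchar
    rw [Subgroup.inf_subgroupOf_left]
    exact hsn.subgroupOf
  -- `Q₁ ≤ M₁`
  have hQ₁M₁ : Q₁ ≤ M₁ := by
    apply le_inf _ (hQ₁L.trans inf_le_right)
    intro q hq
    apply Subgroup.centralizer_le_normalizer
    exact hcentU q (hzc q (hQ₁S hq))
  have hCchar : CharP p (M₁ ⊓ Subgroup.centralizer (Q₁ : Set G)) :=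
    charP_inf_centralizer hM₁char hQ₁M₁ hQ₁p
  -- `D = L₁ ⊓ C(Q₁)` equals it
  have hDC : L₁ ⊓ Subgroup.centralizer (Q₁ : Set G) = M₁ ⊓ Subgroup.centralizer (Q₁ : Set G) := by
    apply le_antisymm
    · intro x hx
      refine ⟨⟨?_, hx.1.2⟩, hx.2⟩
      apply Subgroup.centralizer_le_normalizer
      apply hcentU
      exact ((Subgroup.mem_centralizer_iff.mp hx.2) z (hRQ hzR)).symm
    · intro x hx
      refine ⟨⟨?_, hx.1.2⟩, hx.2⟩
      apply Subgroup.centralizer_le_normalizer
      exact Subgroup.centralizer_le (SetLike.coe_subset_coe.mpr hRQ) hx.2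
  set D := L₁ ⊓ Subgroup.centralizer (Q₁ : Set G) with hD
  have hDchar : CharP p D := by rw [hDC]; exact hCchar
  -- `L₁` normalizes `D`, so `O_p(D) ≤ Q₁`
  have hL₁D : L₁ ≤ Subgroup.normalizer (D : Set G) := by
    intro l hl
    have h1 : l ∈ Subgroup.normalizer ((L₁ : Subgroup G) : Set G) := Subgroup.le_normalizer hl
    have h2 : l ∈ Subgroup.normalizer ((Subgroup.centralizer (Q₁ : Set G) : Subgroup G) : Set G) := by
      have h3 : l ∈ Subgroup.normalizer ((Q₁ : Subgroup G) : Set G) := le_normalizer_pCoreIn p L₁ hl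
      rw [Subgroup.mem_normalizer_iff] at h3 ⊢
      intro c
      simp only [Subgroup.mem_centralizer_iff]
      constructor
      · intro hc q hq
        have hq' : l⁻¹ * q * l ∈ Q₁ := by
          have := (h3 (l⁻¹ * q * l)).mpr (by
            have : l * (l⁻¹ * q * l) * l⁻¹ = q := by group
            rw [this]; exact hq)
          exact this
        have := hc _ hq'
        calc q * (l * c * l⁻¹) = l * ((l⁻¹ * q * l) * c) * l⁻¹ := by group
          _ = l * (c * (l⁻¹ * q * l)) * l⁻¹ := by rw [this]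
          _ = l * c * l⁻¹ * q := by group
      · intro hc q hq
        have hq' : l * q * l⁻¹ ∈ Q₁ := (h3 q).mp hq
        have := hc _ hq'
        calc q * c = l⁻¹ * ((l * q * l⁻¹) * (l * c * l⁻¹)) * l := by group
          _ = l⁻¹ * ((l * c * l⁻¹) * (l * q * l⁻¹)) * l := by rw [this]
          _ = c * q := by group
    exact mem_normalizer_inf h1 h2
  have hOpD : pCoreIn p D ≤ Q₁ := by
    apply le_pCoreIn_of_normalized ((pCoreIn_le p D).trans inf_le_left)
    · exact le_normalizer_pCoreIn_of_le_normalizer hL₁D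
    · exact isPGroup_pCoreIn p D
  -- conclude
  rw [charP_iff_forall]
  intro x hxL hxc hcop
  have hxD : x ∈ D := ⟨hxL, hxc⟩
  apply (charP_iff_forall.mp hDchar) x hxD _ hcop
  exact Subgroup.centralizer_le (SetLike.coe_subset_coe.mpr hOpD) hxc

end Cfsg.Agent.Lib.Helper50
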