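/-
helper50: project S1936 (helper22), module S1936-[DICH] (hedge): the dichotomy D1 and the involution-pair lemma D2 for an
abstract SE-datum `(T, M)`: `T` an elementary abelian Sylow 2-subgroup, `M ≥ T` strongly embedded; the local structure of
the proper subgroups (LOC A3 + A5) is a hypothesis.
-/
import Mathlib
import Cfsg.Prelude.Def_Involutions
import Cfsg.Agent.S0058

set_option autoImplicit false
set_option linter.unusedSectionVars false
set_option linter.unnecessarySimpa false

namespace Cfsg.Agent.Lib.Helper50.S1936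

open Cfsg
open scoped Pointwise

variable {G : Type*} [Group G]

/-- the conjugate `g M g⁻¹` -/
def cj (g : G) (M : Subgroup G) : Subgroup G := M.map (MulAut.conj g).toMonoidHom

theorem mem_cj {g x : G} {M : Subgroup G} : x ∈ cj g M ↔ g⁻¹ * x * g ∈ M := by
  unfold cj
  rw [Subgroup.mem_map_equiv, MulAut.conj_symm_apply]

theorem cj_mem {g x : G} {M : Subgroup G} (hx : x ∈ M) : g * x * g⁻¹ ∈ cj g M := by
  rw [mem_cj]
  have : g⁻¹ * (g * x * g⁻¹) * g = x := by group
  rw [this]
  exact hx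

theorem cj_mono {g : G} {M N : Subgroup G} (h : M ≤ N) : cj g M ≤ cj g N := Subgroup.map_mono h

/-- strongly embedded: the normaliser of a subgroup of even order of `M^g` lies in `M^g` -/
theorem normalizer_le_cj [Finite G] {M : Subgroup G} (hSE : IsStronglyEmbedded M) (g : G) (X : Subgroup G)
    (hX : X ≤ cj g M) (h2 : Even (Nat.card X)) : Subgroup.normalizer (X : Set G) ≤ cj g M := by
  intro n hn
  rw [mem_cj]
  by_contra hh
  have hodd := hSE.2.2 _ hh
  have hle : X.map (MulAut.conj g⁻¹).toMonoidHom ≤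
      M ⊓ M.map (MulAut.conj (g⁻¹ * n * g)).toMonoidHom := by
    rintro _ ⟨x, hx, rfl⟩
    refine Subgroup.mem_inf.2 ⟨?_, ?_⟩
    · have := mem_cj.1 (hX hx)
      simpa [MulAut.conj_apply] using this
    · rw [Subgroup.mem_map_equiv, MulAut.conj_symm_apply]
      have h1 : n⁻¹ * x * n ∈ X := by
        have := (Subgroup.mem_normalizer_iff.1 (inv_mem hn) x).1 hx
        simpa using this
      have h2 := mem_cj.1 (hX h1)
      have e : (g⁻¹ * n * g)⁻¹ * ((MulAut.conj g⁻¹).toMonoidHom x) * (g⁻¹ * n * g) = g⁻¹ * (n⁻¹ * x * n) * g := by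
        simp only [MulEquiv.coe_toMonoidHom, MulAut.conj_apply]
        group
      rw [e]
      exact h2
  have hcard : Nat.card (X.map (MulAut.conj g⁻¹).toMonoidHom) = Nat.card X :=
    Subgroup.card_map_of_injective (MulAut.conj g⁻¹).injective
  have hdvd := Subgroup.card_dvd_of_le hle
  rw [hcard] at hdvd
  exact (Nat.not_even_iff_odd.2 hodd) (h2.trans_dvd hdvd)

/-- a subgroup of a conjugate of an elementary abelian group is elementary abelian -/
theorem sq_eq_one_of_le_cj {T : Subgroup G} (hT : ∀ t ∈ T, t * t = 1) {g : G} {X : Subgroup G} (hX : X ≤ cj g T)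
    (x : G) (hx : x ∈ X) : x * x = 1 := by
  have h1 := hT _ (mem_cj.1 (hX hx))
  have h2 : g⁻¹ * x * g * (g⁻¹ * x * g) = g⁻¹ * (x * x) * g := by group
  rw [h2] at h1
  have h3 : x * x = g * (g⁻¹ * (x * x) * g) * g⁻¹ := by group
  rw [h3, h1]
  group

/-- every 2-subgroup lies in a conjugate of the Sylow 2-subgroup `T` -/
theorem exists_le_cj_sylow [Finite G] (T : Sylow 2 G) (X : Subgroup G) (hX : IsPGroup 2 X) :
    ∃ g : G, X ≤ cj g (T : Subgroup G) := by
  obtain ⟨Q, hQ⟩ := hX.exists_le_sylow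
  obtain ⟨g, hg⟩ := MulAction.exists_smul_eq G T Q
  refine ⟨g, fun x hx => ?_⟩
  have hx' : x ∈ (g • T : Sylow 2 G) := by rw [hg]; exact hQ hx
  have hx'' : x ∈ MulAut.conj g • (T : Subgroup G) := hx'
  rw [Subgroup.mem_pointwise_smul_iff_inv_smul_mem] at hx''
  rw [mem_cj]
  simpa [MulAut.smul_def, MulAut.conj_inv_apply] using hx''

/-- **D1** (dichotomy): a proper subgroup `L` of even order lies in a conjugate of `M`, or its Sylow 2-subgroups have order 2 and
`L = O_p(L) C_L(a)`. -/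
theorem dichotomy [Finite G] {p : ℕ} [Fact p.Prime] (hp2 : p ≠ 2) (T : Sylow 2 G) (hT : ∀ t ∈ T, t * t = 1)
    {M : Subgroup G} (hTM : (T : Subgroup G) ≤ M) (hSE : IsStronglyEmbedded M)
    (hLOC : ∀ L : Subgroup G, L ≠ ⊤ → ∀ S : Sylow 2 ↥L, ∃ R : Subgroup ↥L, R.Normal ∧ IsPGroup p R ∧
      ∀ x : ↥L, ∃ r ∈ R, ∃ n ∈ Subgroup.normalizer ((S : Subgroup ↥L) : Set ↥L), x = r * n)
    (L : Subgroup G) (hL : L ≠ ⊤) (S : Sylow 2 ↥L) (hS : (S : Subgroup ↥L) ≠ ⊥) :
    (∃ g : G, L ≤ cj g M) ∨
    (Nat.card (S : Subgroup ↥L) = 2 ∧ ∃ R : Subgroup ↥L, R.Normal ∧ IsPGroup p R ∧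
      ∀ a ∈ (S : Subgroup ↥L), ∀ x : ↥L, ∃ r ∈ R, ∃ c : ↥L, c * a = a * c ∧ x = r * c) := by
  classical
  obtain ⟨R, hRn, hRp, hRS⟩ := hLOC L hL S
  by_cases hc2 : Nat.card (S : Subgroup ↥L) = 2
  · right
    refine ⟨hc2, R, hRn, hRp, fun a ha x => ?_⟩
    obtain ⟨r, hr, n, hn, rfl⟩ := hRS x
    refine ⟨r, hr, n, ?_, rfl⟩
    by_cases ha1 : a = 1
    · rw [ha1, mul_one, one_mul]
    · have hna : n * a * n⁻¹ ∈ (S : Subgroup ↥L) := (Subgroup.mem_normalizer_iff.1 hn a).1 ha
      have hna1 : n * a * n⁻¹ ≠ 1 := by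
        intro h
        apply ha1
        have : a = n⁻¹ * (n * a * n⁻¹) * n := by group
        rw [this, h]
        group
      obtain ⟨y, _, hy⟩ := (Nat.card_eq_two_iff' (1 : (S : Subgroup ↥L))).1 hc2
      have e1 : (⟨a, ha⟩ : (S : Subgroup ↥L)) = y := hy _ (fun h => ha1 (congrArg Subtype.val h))
      have e2 : (⟨n * a * n⁻¹, hna⟩ : (S : Subgroup ↥L)) = y := hy _ (fun h => hna1 (congrArg Subtype.val h))
      have e3 : n * a * n⁻¹ = a := congrArg Subtype.val (e2.trans e1.symm)
      calc n * a = n * a * n⁻¹ * n := by group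
        _ = a * n := by rw [e3]
  · left
    set SG : Subgroup G := (S : Subgroup ↥L).map L.subtype with hSG
    have hSGp : IsPGroup 2 SG := S.2.map _
    have hSGL : SG ≤ L := by
      rintro _ ⟨x, _, rfl⟩
      exact x.2
    obtain ⟨g, hg⟩ := exists_le_cj_sylow T SG hSGp
    have hsq : ∀ x ∈ SG, x * x = 1 := sq_eq_one_of_le_cj hT hg
    have hgM : SG ≤ cj g M := hg.trans (cj_mono hTM)
    have hcardSG : Nat.card SG = Nat.card (S : Subgroup ↥L) :=
      Subgroup.card_map_of_injective L.subtype_injective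
    have hcard1 : Nat.card (S : Subgroup ↥L) ≠ 1 := fun h => hS (Subgroup.card_eq_one.1 h)
    obtain ⟨k, hk⟩ := hSGp.exists_card_eq
    have hk0 : k ≠ 0 := by
      rintro rfl
      rw [pow_zero, hcardSG] at hk
      exact hcard1 hk
    have hevenSG : Even (Nat.card SG) := by
      rw [hk]
      exact (Nat.even_pow.2 ⟨even_two, hk0⟩)
    -- `SG` is commutative and not cyclic
    have hcomm : ∀ x ∈ SG, ∀ y ∈ SG, x * y = y * x := by
      intro x hx y hy
      have h1 := hsq x hx
      have h2 := hsq y hy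
      have h3 := hsq (x * y) (SG.mul_mem hx hy)
      have : x * y = x * (x * y * (x * y)) * y := by rw [h3, mul_one]
      calc x * y = x * (x * y * (x * y)) * y := this
        _ = (x * x) * y * x * (y * y) := by group
        _ = y * x := by rw [h1, h2, one_mul, mul_one]
    have : IsMulCommutative SG := ⟨⟨fun a b => Subtype.ext (hcomm a a.2 b b.2)⟩⟩
    have hncyc : ¬ IsCyclic SG := by
      intro hcyc
      obtain ⟨s, hs⟩ := hcyc.exists_generator
      have ho : orderOf s = Nat.card SG := orderOf_eq_card_of_forall_mem_zpowers hs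
      have hs2 : s ^ 2 = 1 := by
        rw [pow_two]
        exact Subtype.ext (hsq s s.2)
      have hdvd : orderOf s ∣ 2 := orderOf_dvd_of_pow_eq_one hs2
      rw [ho, hcardSG] at hdvd
      have hle := Nat.le_of_dvd (by norm_num) hdvd
      have hpos : 0 < Nat.card (S : Subgroup ↥L) := Nat.card_pos
      omega
    -- the normal `p`-subgroup
    set RG : Subgroup G := R.map L.subtype with hRG
    have hLnR : L ≤ Subgroup.normalizer (RG : Set G) := by
      have h1 := Subgroup.le_normalizer_map (H := R) L.subtype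
      rw [Subgroup.normalizer_eq_top_iff.2 hRn] at h1
      intro x hx
      exact h1 ⟨⟨x, hx⟩, Subgroup.mem_top _, rfl⟩
    have hcop : (Nat.card SG).Coprime (Nat.card RG) := by
      obtain ⟨j, hj⟩ := (hRp.map L.subtype).exists_card_eq
      rw [hk, hj]
      exact Nat.Coprime.pow _ _ ((Nat.coprime_primes Nat.prime_two (Fact.out : p.Prime)).2 (Ne.symm hp2))
    have hgen := Cfsg.Agent.S0058.result SG RG hncyc (hSGL.trans hLnR) hcop
    have hRGM : RG ≤ cj g M := by
      rw [← hgen]
      refine iSup₂_le fun a ha => ?_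
      refine inf_le_right.trans ?_
      -- `C(a) ≤ N(⟨a⟩) ≤ M^g`
      have ha2 : orderOf a = 2 := orderOf_eq_prime (by rw [pow_two]; exact hsq a ha.1) ha.2
      have hz : Subgroup.zpowers a ≤ cj g M := by
        rw [Subgroup.zpowers_le]
        exact hgM ha.1
      have hzc : Even (Nat.card (Subgroup.zpowers a)) := by
        rw [Nat.card_zpowers, ha2]
        exact even_two
      refine le_trans ?_ (normalizer_le_cj hSE g _ hz hzc)
      intro c hc
      rw [Subgroup.mem_centralizer_singleton_iff] at hc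
      rw [Subgroup.mem_normalizer_iff]
      intro h
      have hcomm' : ∀ h ∈ Subgroup.zpowers a, c * h * c⁻¹ = h := by
        rintro _ ⟨k, rfl⟩
        have : Commute c (a ^ k) := (show Commute c a from hc).zpow_right k
        rw [this.eq, mul_inv_cancel_right]
      constructor
      · intro hh
        rw [hcomm' h hh]
        exact hh
      · intro hh
        have h1 := hcomm' _ hh
        have h2 : c * h * c⁻¹ = h := by
          have : c * (c * h * c⁻¹) = c * h := by
            calc c * (c * h * c⁻¹) = c * (c * h * c⁻¹) * c⁻¹ * c := by group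
              _ = c * h * c⁻¹ * c := by rw [h1]
              _ = c * h := by group
          have h3 := mul_left_cancel this
          exact h3
        rw [← h2]
        exact hh
    have hNS : (Subgroup.normalizer ((S : Subgroup ↥L) : Set ↥L)).map L.subtype ≤ cj g M :=
      (Subgroup.le_normalizer_map L.subtype).trans (normalizer_le_cj hSE g SG hgM hevenSG)
    refine ⟨g, fun x hx => ?_⟩
    obtain ⟨r, hr, n, hn, hxe⟩ := hRS ⟨x, hx⟩
    have hxe' : x = (r : G) * (n : G) := by
      have := congrArg Subtype.val hxe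
      simpa using this
    rw [hxe']
    exact (cj g M).mul_mem (hRGM ⟨r, hr, rfl⟩) (hNS ⟨n, hn, rfl⟩)

/-! ### D2 -/

section D2

variable [Finite G] {p : ℕ} [Fact p.Prime] (T : Sylow 2 G) {M : Subgroup G}

/-- the hypotheses of section D of the sheet (an SE-datum with the local structure of the proper subgroups) -/
structure SEDatum (p : ℕ) (T : Sylow 2 G) (M : Subgroup G) : Prop where
  hp2 : p ≠ 2
  hT : ∀ t ∈ T, t * t = 1
  hTM : (T : Subgroup G) ≤ M
  hSE : IsStronglyEmbedded M
  hLOC : ∀ L : Subgroup G, L ≠ ⊤ → ∀ S : Sylow 2 ↥L, ∃ R : Subgroup ↥L, R.Normal ∧ IsPGroup p R ∧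
      ∀ x : ↥L, ∃ r ∈ R, ∃ n ∈ Subgroup.normalizer ((S : Subgroup ↥L) : Set ↥L), x = r * n
  hINV : ∀ t w : G, orderOf t = 2 → t * w * t⁻¹ = w⁻¹ → Odd (orderOf w) → (orderOf w).Coprime p → w = 1

variable {T}

theorem sq_of_orderOf_two {a : G} (ha : orderOf a = 2) : a * a = 1 := by
  rw [← pow_two, ← ha, pow_orderOf_eq_one]

theorem inv_of_orderOf_two {a : G} (ha : orderOf a = 2) : a⁻¹ = a :=
  inv_eq_of_mul_eq_one_left (sq_of_orderOf_two ha)

theorem ne_one_of_orderOf_two {a : G} (ha : orderOf a = 2) : a ≠ 1 := by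
  rintro rfl
  rw [orderOf_one] at ha
  omega

/-- an involution lies in a conjugate of `M` -/
theorem SEDatum.exists_mem_cj (D : SEDatum p T M) {a : G} (ha : orderOf a = 2) : ∃ g : G, a ∈ cj g M := by
  have h2 : IsPGroup 2 (Subgroup.zpowers a) := by
    apply IsPGroup.of_card (n := 1)
    rw [Nat.card_zpowers, ha, pow_one]
  obtain ⟨g, hg⟩ := exists_le_cj_sylow T _ h2
  exact ⟨g, cj_mono D.hTM (hg (Subgroup.mem_zpowers a))⟩

/-- **D1** for a proper subgroup containing two involutions in no common conjugate of `M`. -/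
theorem SEDatum.pair_local (D : SEDatum p T M) {a u : G} (ha : orderOf a = 2)
    (hdiff : ∀ g : G, ¬ (a ∈ cj g M ∧ u ∈ cj g M)) (L : Subgroup G) (hL : L ≠ ⊤) (haL : a ∈ L) (huL : u ∈ L)
    (S : Sylow 2 ↥L) :
    Nat.card (S : Subgroup ↥L) = 2 ∧ ∃ R : Subgroup ↥L, R.Normal ∧ IsPGroup p R ∧
      ∀ b ∈ (S : Subgroup ↥L), ∀ x : ↥L, ∃ r ∈ R, ∃ c : ↥L, c * b = b * c ∧ x = r * c := by
  have hS : (S : Subgroup ↥L) ≠ ⊥ := by
    apply S.ne_bot_of_dvd_card
    have h1 : orderOf (⟨a, haL⟩ : ↥L) = 2 := by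
      rw [← ha]
      exact Subgroup.orderOf_mk a haL
    rw [← h1]
    exact orderOf_dvd_natCard _
  rcases dichotomy D.hp2 T D.hT D.hTM D.hSE D.hLOC L hL S hS with ⟨g, hg⟩ | h
  · exact absurd ⟨hg haL, hg huL⟩ (hdiff g)
  · exact h

/-- **D2 (i)** -/
theorem SEDatum.card_sylow_eq_two (D : SEDatum p T M) {a u : G} (ha : orderOf a = 2)
    (hdiff : ∀ g : G, ¬ (a ∈ cj g M ∧ u ∈ cj g M)) (L : Subgroup G) (hL : L ≠ ⊤) (haL : a ∈ L) (huL : u ∈ L)
    (S : Sylow 2 ↥L) : Nat.card (S : Subgroup ↥L) = 2 :=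
  (D.pair_local ha hdiff L hL haL huL S).1

/-- an involution inverting `z` normalises `⟨z⟩` -/
theorem mem_normalizer_zpowers_of_inverts {x z : G} (hx : x * x = 1) (h : x * z * x⁻¹ = z⁻¹) :
    x ∈ Subgroup.normalizer ((Subgroup.zpowers z : Subgroup G) : Set G) := by
  have hxinv : x⁻¹ = x := inv_eq_of_mul_eq_one_left hx
  have key : ∀ y ∈ Subgroup.zpowers z, x * y * x⁻¹ ∈ Subgroup.zpowers z := by
    rintro _ ⟨k, rfl⟩
    have : x * z ^ k * x⁻¹ = (x * z * x⁻¹) ^ k := by
      have := (MulAut.conj x).toMonoidHom.map_zpow z k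
      simpa [MulAut.conj_apply] using this
    rw [this, h]
    exact Subgroup.zpow_mem _ (Subgroup.inv_mem _ (Subgroup.mem_zpowers z)) k
  rw [Subgroup.mem_normalizer_iff]
  intro y
  refine ⟨key y, fun hy => ?_⟩
  have := key _ hy
  rw [hxinv] at this
  have e : x * (x * y * x) * x = y := by
    calc x * (x * y * x) * x = (x * x) * y * (x * x) := by group
      _ = y := by rw [hx, one_mul, mul_one]
  rw [e] at this
  exact this

/-- in a group whose Sylow 2-subgroups have order 2, two commuting involutions are equal -/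
theorem eq_of_commute_of_card_sylow_two {H : Type*} [Group H] [Finite H] (hS2 : ∀ S : Sylow 2 H, Nat.card (S : Subgroup H) = 2)
    {a w : H} (ha : orderOf a = 2) (hw : orderOf w = 2) (hc : a * w = w * a) : a = w := by
  have hpa : IsPGroup 2 (Subgroup.zpowers a) := by
    apply IsPGroup.of_card (n := 1)
    rw [Nat.card_zpowers, ha, pow_one]
  have hpw : IsPGroup 2 (Subgroup.zpowers w) := by
    apply IsPGroup.of_card (n := 1)
    rw [Nat.card_zpowers, hw, pow_one]
  have hn : Subgroup.zpowers a ≤ Subgroup.normalizer ((Subgroup.zpowers w : Subgroup H) : Set H) := by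
    rw [Subgroup.zpowers_le]
    apply mem_normalizer_zpowers_of_inverts (sq_of_orderOf_two ha)
    rw [inv_of_orderOf_two hw, hc, mul_inv_cancel_right]
  have hV := IsPGroup.to_sup_of_normal_right' hpa hpw hn
  obtain ⟨Q, hQ⟩ := hV.exists_le_sylow
  have haQ : a ∈ (Q : Subgroup H) := hQ (Subgroup.mem_sup_left (Subgroup.mem_zpowers a))
  have hwQ : w ∈ (Q : Subgroup H) := hQ (Subgroup.mem_sup_right (Subgroup.mem_zpowers w))
  obtain ⟨y, _, hy⟩ := (Nat.card_eq_two_iff' (1 : (Q : Subgroup H))).1 (hS2 Q)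
  have e1 : (⟨a, haQ⟩ : (Q : Subgroup H)) = y :=
    hy _ (fun h => ne_one_of_orderOf_two ha (congrArg Subtype.val h))
  have e2 : (⟨w, hwQ⟩ : (Q : Subgroup H)) = y :=
    hy _ (fun h => ne_one_of_orderOf_two hw (congrArg Subtype.val h))
  exact congrArg Subtype.val (e1.trans e2.symm)

/-- **D2 (ii)**: the product of two involutions lying in no common conjugate of `M` is a non-trivial `p`-element -/
theorem SEDatum.mul_isPElement (D : SEDatum p T M) [IsSimpleGroup G] (hnc : ¬ ∀ x y : G, x * y = y * x)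
    {a u : G} (ha : orderOf a = 2) (hu : orderOf u = 2)
    (hdiff : ∀ g : G, ¬ (a ∈ cj g M ∧ u ∈ cj g M)) :
    a * u ≠ 1 ∧ ∃ k : ℕ, orderOf (a * u) = p ^ k := by
  have hp : p.Prime := Fact.out
  have ha2 := sq_of_orderOf_two ha
  have hu2 := sq_of_orderOf_two hu
  have hainv := inv_of_orderOf_two ha
  have huinv := inv_of_orderOf_two hu
  set z := a * u with hz
  have hzinv : z⁻¹ = u * a := by rw [hz, _root_.mul_inv_rev, hainv, huinv]
  have haz : a * z * a⁻¹ = z⁻¹ := by
    rw [hzinv, hainv, hz]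
    calc a * (a * u) * a = (a * a) * (u * a) := by group
      _ = u * a := by rw [ha2, one_mul]
  have huz : u * z * u⁻¹ = z⁻¹ := by
    rw [hzinv, huinv, hz]
    calc u * (a * u) * u = u * a * (u * u) := by group
      _ = u * a := by rw [hu2, mul_one]
  have hz1 : z ≠ 1 := by
    intro h
    have hua : u = a := by
      have : u = a⁻¹ := (inv_eq_of_mul_eq_one_right h).symm
      rw [this, hainv]
    obtain ⟨g, hg⟩ := D.exists_mem_cj ha
    exact hdiff g ⟨hg, by rw [hua]; exact hg⟩
  refine ⟨hz1, ?_⟩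
  set L0 : Subgroup G := Subgroup.closure {a, u} with hL0def
  have haL0 : a ∈ L0 := Subgroup.subset_closure (by simp)
  have huL0 : u ∈ L0 := Subgroup.subset_closure (by simp)
  have hzL0 : z ∈ L0 := L0.mul_mem haL0 huL0
  have hL0 : L0 ≠ ⊤ := by
    intro htop
    have hN : Subgroup.normalizer ((Subgroup.zpowers z : Subgroup G) : Set G) = ⊤ := by
      rw [eq_top_iff, ← htop, hL0def, Subgroup.closure_le]
      intro x hx
      rcases hx with rfl | rfl
      · exact mem_normalizer_zpowers_of_inverts ha2 haz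
      · exact mem_normalizer_zpowers_of_inverts hu2 huz
    have hNn : (Subgroup.zpowers z).Normal := Subgroup.normalizer_eq_top_iff.1 hN
    rcases hNn.eq_bot_or_eq_top with h | h
    · exact hz1 ((Subgroup.zpowers_eq_bot).1 h)
    · apply hnc
      intro x y
      have hx : x ∈ Subgroup.zpowers z := by rw [h]; exact Subgroup.mem_top x
      have hy : y ∈ Subgroup.zpowers z := by rw [h]; exact Subgroup.mem_top y
      obtain ⟨i, rfl⟩ := hx
      obtain ⟨j, rfl⟩ := hy
      exact zpow_mul_comm z i j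
  have hS2 : ∀ S : Sylow 2 ↥L0, Nat.card (S : Subgroup ↥L0) = 2 :=
    fun S => D.card_sylow_eq_two ha hdiff L0 hL0 haL0 huL0 S
  have hpos : orderOf z ≠ 0 := (orderOf_pos z).ne'
  -- `z` has odd order
  have hodd : Odd (orderOf z) := by
    by_contra hcon
    rw [Nat.not_odd_iff_even] at hcon
    set w := z ^ (orderOf z / 2) with hw
    have how : orderOf w = 2 := orderOf_pow_orderOf_div hpos (even_iff_two_dvd.1 hcon)
    have hw2 := sq_of_orderOf_two how
    have hwinv := inv_of_orderOf_two how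
    have haw : a * w * a⁻¹ = w := by
      rw [hw, ← conj_pow, haz, inv_pow, ← hw, hwinv]
    have hcomm : a * w = w * a := by
      calc a * w = a * w * a⁻¹ * a := by group
        _ = w * a := by rw [haw]
    have hwL0 : w ∈ L0 := L0.pow_mem hzL0 _
    have hEq : (⟨a, haL0⟩ : ↥L0) = ⟨w, hwL0⟩ :=
      eq_of_commute_of_card_sylow_two hS2 (by rw [← ha]; exact Subgroup.orderOf_mk a haL0)
        (by rw [← how]; exact Subgroup.orderOf_mk w hwL0) (Subtype.ext hcomm)
    have haw' : a = w := congrArg Subtype.val hEq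
    -- then `a` commutes with `z`
    have hcz : a * z = z * a := by
      rw [haw', hw]
      exact pow_mul_comm' z _
    have hzz : z⁻¹ = z := by
      rw [← haz, hcz, mul_inv_cancel_right]
    have hzsq : z ^ 2 = 1 := by
      rw [pow_two]
      nth_rewrite 1 [← hzz]
      exact inv_mul_cancel z
    have ho2 : orderOf z = 2 := orderOf_eq_prime hzsq hz1
    have hwz : w = z := by rw [hw, ho2]; simp
    have : a = a * u := by rw [← hz, ← hwz]; exact haw'
    exact ne_one_of_orderOf_two hu (by simpa using this.symm)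
  -- the `p'`-part of `z` is trivial
  obtain ⟨k, m, hm, hn⟩ := Nat.exists_eq_pow_mul_and_not_dvd hpos p hp.ne_one
  refine ⟨k, ?_⟩
  set w := z ^ (p ^ k) with hw
  have how : orderOf w = m := by
    rw [hw, orderOf_pow_of_dvd (pow_ne_zero k hp.ne_zero) (Dvd.intro m hn.symm), hn,
      Nat.mul_div_cancel_left _ (pow_pos hp.pos k)]
  have hmodd : Odd m := Odd.of_dvd_nat hodd (Dvd.intro_left _ hn.symm)
  have hmcop : m.Coprime p := ((Nat.Prime.coprime_iff_not_dvd hp).2 hm).symm
  have haw : a * w * a⁻¹ = w⁻¹ := by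
    rw [hw, ← conj_pow, haz, inv_pow]
  have hw1 : w = 1 := D.hINV a w ha haw (by rw [how]; exact hmodd) (by rw [how]; exact hmcop)
  have hm1 : m = 1 := by rw [← how, hw1, orderOf_one]
  rw [hn, hm1, mul_one]

/-- a `p`-subgroup which is a maximal `p`-subgroup of its own normaliser is a Sylow `p`-subgroup -/
theorem exists_sylow_eq_of_max_in_normalizer (S : Subgroup G) (hS : IsPGroup p S)
    (hmax : ∀ S2 : Subgroup G, IsPGroup p S2 → S ≤ S2 → S2 ≤ Subgroup.normalizer (S : Set G) → S2 = S) :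
    ∃ P : Sylow p G, (P : Subgroup G) = S := by
  obtain ⟨P, hP⟩ := hS.exists_le_sylow
  refine ⟨P, ?_⟩
  by_contra hne
  set H : Subgroup ↥(P : Subgroup G) := S.subgroupOf (P : Subgroup G) with hH
  have hHtop : H < ⊤ := by
    rw [lt_top_iff_ne_top]
    intro h
    exact hne (le_antisymm (Subgroup.subgroupOf_eq_top.1 h) hP)
  have hnil : Group.IsNilpotent ↥(P : Subgroup G) := P.2.isNilpotent
  have hnc := (Group.normalizerCondition_of_isNilpotent (G := ↥(P : Subgroup G))) H hHtop
  obtain ⟨x, hxN, hxH⟩ := SetLike.exists_of_lt hnc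
  have hxS : (x : G) ∉ S := fun h => hxH (Subgroup.mem_subgroupOf.2 h)
  have hxn : (x : G) ∈ Subgroup.normalizer (S : Set G) := by
    rw [Subgroup.mem_normalizer_iff]
    intro h
    rw [Subgroup.mem_normalizer_iff] at hxN
    constructor
    · intro hh
      have := (hxN ⟨h, hP hh⟩).1 (Subgroup.mem_subgroupOf.2 hh)
      exact Subgroup.mem_subgroupOf.1 this
    · intro hh
      have hhP : h ∈ (P : Subgroup G) := by
        have h1 : (x : G)⁻¹ * ((x : G) * h * (x : G)⁻¹) * (x : G) ∈ (P : Subgroup G) :=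
          (P : Subgroup G).mul_mem ((P : Subgroup G).mul_mem ((P : Subgroup G).inv_mem x.2) (hP hh)) x.2
        have e : (x : G)⁻¹ * ((x : G) * h * (x : G)⁻¹) * (x : G) = h := by group
        rw [e] at h1
        exact h1
      have := (hxN ⟨h, hhP⟩).2 (Subgroup.mem_subgroupOf.2 hh)
      exact Subgroup.mem_subgroupOf.1 this
  have hS2 := hmax (S ⊔ Subgroup.zpowers (x : G))
    (P.2.to_le (sup_le hP (Subgroup.zpowers_le.2 x.2))) le_sup_left
    (sup_le Subgroup.le_normalizer (Subgroup.zpowers_le.2 hxn))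
  apply hxS
  rw [← hS2]
  exact Subgroup.mem_sup_right (Subgroup.mem_zpowers _)

/-- **D2 (iii)**: two involutions lying in no common conjugate of `M` normalise a common Sylow `p`-subgroup -/
theorem SEDatum.exists_sylow_normalized (D : SEDatum p T M) [IsSimpleGroup G] (hnc : ¬ ∀ x y : G, x * y = y * x)
    {a u : G} (ha : orderOf a = 2) (hu : orderOf u = 2)
    (hdiff : ∀ g : G, ¬ (a ∈ cj g M ∧ u ∈ cj g M)) :
    ∃ P : Sylow p G, a ∈ Subgroup.normalizer ((P : Subgroup G) : Set G) ∧
      u ∈ Subgroup.normalizer ((P : Subgroup G) : Set G) ∧ a * u ∈ (P : Subgroup G) := by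
  classical
  have hp : p.Prime := Fact.out
  obtain ⟨hz1, k, hk⟩ := D.mul_isPElement hnc ha hu hdiff
  have ha2 := sq_of_orderOf_two ha
  have hu2 := sq_of_orderOf_two hu
  have hainv := inv_of_orderOf_two ha
  have huinv := inv_of_orderOf_two hu
  set z := a * u with hz
  have hzinv : z⁻¹ = u * a := by rw [hz, _root_.mul_inv_rev, hainv, huinv]
  have haz : a * z * a⁻¹ = z⁻¹ := by
    rw [hzinv, hainv, hz]
    calc a * (a * u) * a = (a * a) * (u * a) := by group
      _ = u * a := by rw [ha2, one_mul]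
  have huaz : u = a * z := by rw [hz, ← mul_assoc, ha2, one_mul]
  -- a maximal `a`-invariant `p`-subgroup containing `z`
  let 𝒮 : Set (Subgroup G) := {S | IsPGroup p S ∧ z ∈ S ∧ a ∈ Subgroup.normalizer (S : Set G)}
  have hne : 𝒮.Nonempty := by
    refine ⟨Subgroup.zpowers z, ?_, Subgroup.mem_zpowers z, mem_normalizer_zpowers_of_inverts ha2 haz⟩
    apply IsPGroup.of_card (n := k)
    rw [Nat.card_zpowers, hk]
  obtain ⟨S, ⟨hSp, hzS, haS⟩, hSmax⟩ := Set.exists_max_image 𝒮 (fun S => Nat.card S) (Set.toFinite _) hne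
  set L : Subgroup G := Subgroup.normalizer (S : Set G) with hLdef
  have hSL : S ≤ L := Subgroup.le_normalizer
  have haL : a ∈ L := haS
  have hzL : z ∈ L := hSL hzS
  have huL : u ∈ L := by rw [huaz]; exact L.mul_mem haL hzL
  have hL : L ≠ ⊤ := by
    intro htop
    have hSn : S.Normal := Subgroup.normalizer_eq_top_iff.1 htop
    rcases hSn.eq_bot_or_eq_top with h | h
    · rw [h, Subgroup.mem_bot] at hzS
      exact hz1 hzS
    · have haS' : a ∈ S := by rw [h]; exact Subgroup.mem_top a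
      obtain ⟨j, hj⟩ := hSp ⟨a, haS'⟩
      have hj' : a ^ p ^ j = 1 := by
        have := congrArg Subtype.val hj
        simpa using this
      have hdvd : 2 ∣ p ^ j := by rw [← ha]; exact orderOf_dvd_of_pow_eq_one hj'
      have h2p : 2 ∣ p := Nat.Prime.dvd_of_dvd_pow Nat.prime_two hdvd
      exact D.hp2 ((Nat.prime_dvd_prime_iff_eq Nat.prime_two hp).1 h2p).symm
  -- the local structure of `L`
  have hpa : IsPGroup 2 (Subgroup.zpowers (⟨a, haL⟩ : ↥L)) := by
    apply IsPGroup.of_card (n := 1)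
    rw [Nat.card_zpowers, pow_one, ← ha]
    exact Subgroup.orderOf_mk a haL
  obtain ⟨S2, hS2⟩ := hpa.exists_le_sylow
  obtain ⟨_, R, hRn, hRp, hRC⟩ := D.pair_local ha hdiff L hL haL huL S2
  have hfact : ∀ x ∈ L, ∃ r ∈ R.map L.subtype, ∃ c ∈ L, c * a = a * c ∧ x = r * c := by
    intro x hx
    obtain ⟨r, hr, c, hc, hxe⟩ := hRC ⟨a, haL⟩ (hS2 (Subgroup.mem_zpowers _)) ⟨x, hx⟩
    refine ⟨r, ⟨r, hr, rfl⟩, c, c.2, ?_, ?_⟩
    · have := congrArg Subtype.val hc
      simpa using this
    · have := congrArg Subtype.val hxe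
      simpa using this
  set RG : Subgroup G := R.map L.subtype with hRG
  have hRGp : IsPGroup p RG := hRp.map _
  have hRGL : RG ≤ L := by
    rintro _ ⟨x, _, rfl⟩
    exact x.2
  have hLnRG : L ≤ Subgroup.normalizer (RG : Set G) := by
    have h1 := Subgroup.le_normalizer_map (H := R) L.subtype
    rw [Subgroup.normalizer_eq_top_iff.2 hRn] at h1
    intro x hx
    exact h1 ⟨⟨x, hx⟩, Subgroup.mem_top _, rfl⟩
  set R' : Subgroup G := RG ⊔ S with hR'
  have hR'p : IsPGroup p R' := IsPGroup.to_sup_of_normal_right' hRGp hSp hRGL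
  have hLnR' : L ≤ Subgroup.normalizer (R' : Set G) :=
    (le_inf hLnRG le_rfl).trans (Subgroup.normalizer_inf_normalizer_le_normalizer_sup RG S)
  set C : Subgroup G := L ⊓ Subgroup.centralizer {a} with hC
  obtain ⟨Q0⟩ : Nonempty (Sylow p ↥C) := inferInstance
  set Q : Subgroup G := (Q0 : Subgroup ↥C).map C.subtype with hQ
  have hQp : IsPGroup p Q := Q0.2.map _
  have hQC : Q ≤ C := by
    rintro _ ⟨x, _, rfl⟩
    exact x.2
  have hQL : Q ≤ L := hQC.trans inf_le_left
  set P : Subgroup G := Q ⊔ R' with hP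
  have hPp : IsPGroup p P := IsPGroup.to_sup_of_normal_right' hQp hR'p (hQL.trans hLnR')
  have haQ : a ∈ Subgroup.normalizer (Q : Set G) := by
    apply Subgroup.centralizer_le_normalizer
    rw [Subgroup.mem_centralizer_iff]
    intro q hq
    have := (Subgroup.mem_inf.1 (hQC hq)).2
    rw [Subgroup.mem_centralizer_singleton_iff] at this
    exact this
  have haP : a ∈ Subgroup.normalizer (P : Set G) :=
    Subgroup.normalizer_inf_normalizer_le_normalizer_sup Q R' (Subgroup.mem_inf.2 ⟨haQ, hLnR' haL⟩)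
  have hSP : S ≤ P := le_sup_right.trans le_sup_right
  have hPS : S = P :=
    Subgroup.eq_of_le_of_card_ge hSP (hSmax P ⟨hPp, hSP hzS, haP⟩)
  have hQS : Q ≤ S := by rw [hPS]; exact le_sup_left
  have hRGS : RG ≤ S := by rw [hPS]; exact le_sup_left.trans le_sup_right
  have hR'S : R' ≤ S := by rw [hPS]; exact le_sup_right
  -- `S` is a maximal `p`-subgroup of `L`
  have hmax : ∀ S3 : Subgroup G, IsPGroup p S3 → S ≤ S3 → S3 ≤ L → S3 = S := by
    intro S3 hS3p hSS3 hS3L
    have hS3R' : IsPGroup p (S3 ⊔ R' : Subgroup G) :=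
      IsPGroup.to_sup_of_normal_right' hS3p hR'p (hS3L.trans hLnR')
    set X : Subgroup G := (S3 ⊔ R') ⊓ C with hX
    have hXp : IsPGroup p X := hS3R'.to_le inf_le_left
    have hXC : IsPGroup p (X.subgroupOf C) := hXp.comap_subtype
    obtain ⟨Q1, hQ1⟩ := hXC.exists_le_sylow
    obtain ⟨c, hc⟩ := MulAction.exists_smul_eq ↥C Q1 Q0
    have hcL : (c : G) ∈ L := (Subgroup.mem_inf.1 c.2).1
    have hconjX : ∀ x ∈ X, (c : G) * x * (c : G)⁻¹ ∈ Q := by
      intro x hx
      have hxC : x ∈ C := (Subgroup.mem_inf.1 hx).2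
      have h1 : (⟨x, hxC⟩ : ↥C) ∈ (Q1 : Subgroup ↥C) := hQ1 (Subgroup.mem_subgroupOf.2 hx)
      have h2 : c * ⟨x, hxC⟩ * c⁻¹ ∈ (Q0 : Subgroup ↥C) := by
        rw [← hc]
        have : MulAut.conj c • (⟨x, hxC⟩ : ↥C) ∈ MulAut.conj c • (Q1 : Subgroup ↥C) :=
          Subgroup.smul_mem_pointwise_smul _ _ _ h1
        show c * ⟨x, hxC⟩ * c⁻¹ ∈ MulAut.conj c • (Q1 : Subgroup ↥C)
        simpa [MulAut.smul_def] using this
      exact ⟨_, h2, rfl⟩
    have hconj : ∀ x ∈ S3, (c : G) * x * (c : G)⁻¹ ∈ S := by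
      intro x hx
      obtain ⟨r, hr, c', hc'L, hc'a, hxe⟩ := hfact x (hS3L hx)
      have hc'X : c' ∈ X := by
        refine Subgroup.mem_inf.2 ⟨?_, Subgroup.mem_inf.2 ⟨hc'L, ?_⟩⟩
        · have : c' = r⁻¹ * x := by rw [hxe]; group
          rw [this]
          exact Subgroup.mul_mem _ (Subgroup.mem_sup_right (Subgroup.mem_sup_left (RG.inv_mem hr)))
            (Subgroup.mem_sup_left hx)
        · rw [Subgroup.mem_centralizer_singleton_iff]
          exact hc'a
      have e : (c : G) * x * (c : G)⁻¹ = ((c : G) * r * (c : G)⁻¹) * ((c : G) * c' * (c : G)⁻¹) := by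
        rw [hxe]; group
      rw [e]
      refine S.mul_mem (hRGS ?_) (hQS (hconjX c' hc'X))
      exact (Subgroup.mem_normalizer_iff.1 (hLnRG hcL) r).1 hr
    have hle : S3.map (MulAut.conj (c : G)).toMonoidHom ≤ S := by
      rintro _ ⟨x, hx, rfl⟩
      exact hconj x hx
    have hcard : Nat.card S3 ≤ Nat.card S := by
      have h1 : Nat.card (S3.map (MulAut.conj (c : G)).toMonoidHom) = Nat.card S3 :=
        Subgroup.card_map_of_injective (MulAut.conj (c : G)).injective
      rw [← h1]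
      exact Subgroup.card_le_of_le hle
    exact (Subgroup.eq_of_le_of_card_ge hSS3 hcard).symm
  obtain ⟨P0, hP0⟩ := exists_sylow_eq_of_max_in_normalizer S hSp hmax
  refine ⟨P0, ?_, ?_, ?_⟩
  · rw [hP0]; exact haS
  · rw [hP0]; exact huL
  · rw [hP0]; exact hzS

end D2

end Cfsg.Agent.Lib.Helper50.S1936
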