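/-
helper50: project S1936 (helper22), modules DICH-[D1] [D2i] [D2ii] [D2iii]: the EXACT skeleton statements
(`notes/helper22_S1936_modules.lean.txt`), from the abstract versions of `Lib/Helper50/S1936Dich.lean`, LOC-[U2] (helper39)
and RED-[INV] (helper15).
-/
import Mathlib
import Cfsg.Agent.Lib.Helper22.S1936Defs
import Cfsg.Agent.Lib.Helper39.S1936LocU
import Cfsg.Agent.Lib.Helper15.S1936Quot
import Cfsg.Agent.Lib.Helper50.S1936Dich

set_option autoImplicit false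
universe u

namespace Cfsg.Agent.Lib.Helper50.S1936

open Cfsg.Agent.Lib.Helper22.S1936

variable {G : Type u} [Group G] [Finite G] {p : ℕ} [Fact p.Prime]

/-- the abstract datum of `S1936Dich.lean` from the skeleton hypotheses -/
theorem sEDatum_of (hG : MinCE p G) {T : Sylow 2 G} {M : Subgroup G}
    (hD : Cfsg.Agent.Lib.Helper22.S1936.SEDatum T M) : Cfsg.Agent.Lib.Helper50.S1936.SEDatum p T M := by
  have hp2 : p ≠ 2 := by have := hG.hp5; omega
  refine ⟨hp2, fun t ht => by rw [← pow_two]; exact hD.elem t ht,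
    Subgroup.le_normalizer.trans hD.normT, hD.se, ?_,
    fun t w ht hinv hodd hcop => Cfsg.Agent.Lib.Helper15.S1936.eq_one_of_inverted hG.hp hp2 ht hinv hodd hcop⟩
  intro L hL S
  refine ⟨Cfsg.pCore p ↥L, Cfsg.Agent.Lib.Helper1.pCore_normal p, Cfsg.Agent.Lib.Helper1.pCore_isPGroup p, fun x => ?_⟩
  set SG : Subgroup G := (S : Subgroup ↥L).map L.subtype with hSG
  have hSGL : SG ≤ L := by
    rintro _ ⟨y, _, rfl⟩
    exact y.2
  have hSGp : IsPGroup 2 SG := S.2.map _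
  have hodd : Odd (SG.relIndex L) := by
    have h1 : SG.subgroupOf L = (S : Subgroup ↥L) :=
      Subgroup.comap_map_eq_self_of_injective L.subtype_injective _
    unfold Subgroup.relIndex
    rw [h1, ← Nat.not_even_iff_odd, even_iff_two_dvd]
    exact S.not_dvd_index
  obtain ⟨r, hr, n, hn, hxe⟩ :=
    Cfsg.Agent.Lib.Helper39.S1936.factor_pCoreOf_normalizer hG.hp hp2 L (hG.proper L hL) SG hSGL hSGp hodd x x.2
  obtain ⟨r', hr', rfl⟩ := hr
  obtain ⟨hnL, hnN⟩ := Subgroup.mem_inf.1 hn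
  refine ⟨r', hr', ⟨n, hnL⟩, ?_, Subtype.ext hxe⟩
  rw [Subgroup.mem_normalizer_iff]
  intro h
  rw [Subgroup.mem_normalizer_iff] at hnN
  have e1 : h ∈ (S : Subgroup ↥L) ↔ (h : G) ∈ SG := (Subgroup.mem_map_iff_mem L.subtype_injective).symm
  have e2 : (⟨n, hnL⟩ : ↥L) * h * (⟨n, hnL⟩ : ↥L)⁻¹ ∈ (S : Subgroup ↥L) ↔ n * (h : G) * n⁻¹ ∈ SG :=
    (Subgroup.mem_map_iff_mem (f := L.subtype) L.subtype_injective
      (x := (⟨n, hnL⟩ : ↥L) * h * (⟨n, hnL⟩ : ↥L)⁻¹)).symm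
  rw [e1, e2]
  exact hnN (h : G)

omit [Finite G] [Fact p.Prime] in
theorem not_comm_of_minCE (hG : MinCE p G) : ¬ ∀ x y : G, x * y = y * x :=
  fun h => hG.nonsolv (Group.isSolvable_of_comm h)

/-- DICH-[D1]: the dichotomy (exact skeleton statement). -/
theorem dichotomy_exact (hG : MinCE p G) {T : Sylow 2 G} {M : Subgroup G}
    (hD : Cfsg.Agent.Lib.Helper22.S1936.SEDatum T M)
    (L : Subgroup G) (hL : L ≠ ⊤) (heven : Even (Nat.card ↥L)) :
    (∃ g : G, L ≤ conjSub M g) ∨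
      (¬ 4 ∣ Nat.card ↥L ∧ ∀ a ∈ L, orderOf a = 2 → ∀ x ∈ L,
        ∃ r ∈ Cfsg.pCoreOf p L, ∃ c ∈ L ⊓ Subgroup.centralizer ({a} : Set G), x = r * c) := by
  have D := sEDatum_of hG hD
  by_cases hex : ∃ g : G, L ≤ conjSub M g
  · exact Or.inl hex
  right
  have key : ∀ S : Sylow 2 ↥L, Nat.card (S : Subgroup ↥L) = 2 ∧ ∃ R : Subgroup ↥L, R.Normal ∧ IsPGroup p R ∧
      ∀ b ∈ (S : Subgroup ↥L), ∀ x : ↥L, ∃ r ∈ R, ∃ c : ↥L, c * b = b * c ∧ x = r * c := by
    intro S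
    have hS : (S : Subgroup ↥L) ≠ ⊥ := S.ne_bot_of_dvd_card (even_iff_two_dvd.1 heven)
    rcases dichotomy D.hp2 T D.hT D.hTM D.hSE D.hLOC L hL S hS with h | h
    · exact absurd h hex
    · exact h
  constructor
  · intro h4
    obtain ⟨S⟩ : Nonempty (Sylow 2 ↥L) := inferInstance
    have h1 : 2 ^ 2 ∣ Nat.card (S : Subgroup ↥L) := S.pow_dvd_card_of_pow_dvd_card (by norm_num; exact h4)
    rw [(key S).1] at h1
    norm_num at h1
  · intro a haL ha x hx
    have hpa : IsPGroup 2 (Subgroup.zpowers (⟨a, haL⟩ : ↥L)) := by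
      apply IsPGroup.of_card (n := 1)
      rw [Nat.card_zpowers, pow_one, ← ha]
      exact Subgroup.orderOf_mk a haL
    obtain ⟨S, hS⟩ := hpa.exists_le_sylow
    obtain ⟨_, R, hRn, hRp, hRC⟩ := key S
    obtain ⟨r, hr, c, hc, hxe⟩ := hRC ⟨a, haL⟩ (hS (Subgroup.mem_zpowers _)) ⟨x, hx⟩
    have hle : R ≤ Cfsg.pCore p ↥L :=
      le_sSup (show R ∈ {N : Subgroup ↥L | N.Normal ∧ IsPGroup p N} from ⟨hRn, hRp⟩)
    refine ⟨r, ⟨r, hle hr, rfl⟩, c, Subgroup.mem_inf.2 ⟨c.2, ?_⟩, ?_⟩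
    · rw [Subgroup.mem_centralizer_singleton_iff]
      have := congrArg Subtype.val hc
      simpa using this
    · have := congrArg Subtype.val hxe
      simpa using this

/-- DICH-[D2i] (exact skeleton statement). -/
theorem not_four_dvd_of_apart (hG : MinCE p G) {T : Sylow 2 G} {M : Subgroup G}
    (hD : Cfsg.Agent.Lib.Helper22.S1936.SEDatum T M)
    {a u : G} (ha : orderOf a = 2) (_hu : orderOf u = 2) (hau : Apart M a u)
    (L : Subgroup G) (hL : L ≠ ⊤) (haL : a ∈ L) (huL : u ∈ L) : ¬ 4 ∣ Nat.card ↥L := by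
  have D := sEDatum_of hG hD
  intro h4
  obtain ⟨S⟩ : Nonempty (Sylow 2 ↥L) := inferInstance
  have h1 : 2 ^ 2 ∣ Nat.card (S : Subgroup ↥L) := S.pow_dvd_card_of_pow_dvd_card (by norm_num; exact h4)
  rw [D.card_sylow_eq_two ha hau L hL haL huL S] at h1
  norm_num at h1

/-- DICH-[D2ii] (exact skeleton statement). -/
theorem mul_isPElement_of_apart (hG : MinCE p G) {T : Sylow 2 G} {M : Subgroup G}
    (hD : Cfsg.Agent.Lib.Helper22.S1936.SEDatum T M)
    {a u : G} (ha : orderOf a = 2) (hu : orderOf u = 2) (hau : Apart M a u) :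
    a * u ≠ 1 ∧ ∃ n : ℕ, orderOf (a * u) = p ^ n := by
  have := hG.simple
  exact (sEDatum_of hG hD).mul_isPElement (not_comm_of_minCE hG) ha hu hau

/-- DICH-[D2iii] (exact skeleton statement). -/
theorem exists_sylow_of_apart (hG : MinCE p G) {T : Sylow 2 G} {M : Subgroup G}
    (hD : Cfsg.Agent.Lib.Helper22.S1936.SEDatum T M)
    {a u : G} (ha : orderOf a = 2) (hu : orderOf u = 2) (hau : Apart M a u) :
    ∃ P : Sylow p G, a ∈ Subgroup.normalizer ((P : Subgroup G) : Set G) ∧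
      u ∈ Subgroup.normalizer ((P : Subgroup G) : Set G) := by
  have := hG.simple
  obtain ⟨P, h1, h2, _⟩ := (sEDatum_of hG hD).exists_sylow_normalized (not_comm_of_minCE hG) ha hu hau
  exact ⟨P, h1, h2⟩

end Cfsg.Agent.Lib.Helper50.S1936
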