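import Mathlib
import Cfsg.Prelude.Def_Transfer

/-!
# SL₂-lemma (S2999), step [T-FAITH]: the kernel of the action on `V / C_V(P)` is trivial

If `P` acts faithfully on the elementary abelian `p`-group `V`, and `V` is generated by the `P`-conjugates of
`C_V(T)` for a Sylow `p`-subgroup `T` of `P`, then no non-identity element of `P` centralizes `V / C_V(P)`.
(Same argument as `eq_one_of_centralizes_quotient` of `SL2LemmaK.lean`, with the generation hypothesis `hgen`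
in place of the irreducibility hypothesis.)
-/

set_option autoImplicit false

namespace Cfsg.Agent.Lib.Helper50.SL2Lemma

open Cfsg
open Pointwise

variable {G : Type*} [Group G]

/-- **[T-FAITH]** `C_P(V / C_V(P)) = 1` when `V = ⟨C_V(T)^P⟩`. -/
theorem eq_one_of_centralizes_quotient_of_gen [Finite G] {p : ℕ} [Fact p.Prime] (V P : Subgroup G)
    (hV : IsElementaryAbelian p V) (hPV : P ≤ Subgroup.normalizer (V : Set G))
    (hfaith : P ⊓ Subgroup.centralizer (V : Set G) = ⊥) (T : Sylow p ↥P)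
    (hgen : ∀ W : Subgroup G, (∀ g ∈ P, ∀ z ∈ V ⊓ Subgroup.centralizer
      ((((T : Subgroup ↥P).map P.subtype) : Subgroup G) : Set G), g * z * g⁻¹ ∈ W) → V ≤ W)
    (g : G) (hg : g ∈ P) (hgV : ∀ v ∈ V, g * v * g⁻¹ * v⁻¹ ∈ V ⊓ Subgroup.centralizer (P : Set G)) :
    g = 1 := by
  classical
  set Z₀ : Subgroup G := V ⊓ Subgroup.centralizer (P : Set G) with hZ₀
  have hconjV : ∀ x ∈ P, ∀ v ∈ V, x * v * x⁻¹ ∈ V := fun x hx v hv =>
    (Subgroup.mem_normalizer_iff.1 (hPV hx) v).1 hv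
  -- elements of `Z₀` commute with elements of `P`
  have hZ₀P : ∀ z ∈ Z₀, ∀ x ∈ P, x * z = z * x := by
    intro z hz x hx
    exact (Subgroup.mem_centralizer_iff.1 hz.2 x hx)
  -- `Z₀` is invariant under `P`
  have hZ₀conj : ∀ x ∈ P, ∀ z ∈ Z₀, x * z * x⁻¹ ∈ Z₀ := by
    intro x hx z hz
    rw [hZ₀P z hz x hx, mul_assoc, mul_inv_cancel, mul_one]
    exact hz
  -- the kernel `K`
  let K : Subgroup G :=
    { carrier := {k | k ∈ P ∧ ∀ v ∈ V, k * v * k⁻¹ * v⁻¹ ∈ Z₀}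
      one_mem' := ⟨P.one_mem, fun v _ => by simp⟩
      mul_mem' := by
        rintro a b ⟨haP, ha⟩ ⟨hbP, hb⟩
        refine ⟨P.mul_mem haP hbP, fun v hv => ?_⟩
        have h1 := hb v hv
        have h2 := ha v hv
        -- `ab v b⁻¹a⁻¹ v⁻¹ = a (b v b⁻¹ v⁻¹) a⁻¹ * (a v a⁻¹ v⁻¹)`
        have : a * b * v * (a * b)⁻¹ * v⁻¹ = a * (b * v * b⁻¹ * v⁻¹) * a⁻¹ * (a * v * a⁻¹ * v⁻¹) := by
          group
        rw [this]
        exact Z₀.mul_mem (hZ₀conj a haP _ h1) h2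
      inv_mem' := by
        rintro a ⟨haP, ha⟩
        refine ⟨P.inv_mem haP, fun v hv => ?_⟩
        have hv' : a⁻¹ * v * a ∈ V := by simpa using hconjV a⁻¹ (P.inv_mem haP) v hv
        have h1 := ha _ hv'
        -- `a (a⁻¹ v a) a⁻¹ (a⁻¹ v a)⁻¹ = v a⁻¹ v⁻¹ a`, its inverse conjugated
        have h2 : a⁻¹ * v * a⁻¹⁻¹ * v⁻¹ = (a * (a⁻¹ * v * a) * a⁻¹ * (a⁻¹ * v * a)⁻¹)⁻¹ := by
          group
        rw [h2]
        exact Z₀.inv_mem h1 }
  have hKmem : ∀ k, k ∈ K ↔ k ∈ P ∧ ∀ v ∈ V, k * v * k⁻¹ * v⁻¹ ∈ Z₀ := fun k => Iff.rfl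
  have hKP : K ≤ P := fun k hk => ((hKmem k).1 hk).1
  have hgK : g ∈ K := (hKmem g).2 ⟨hg, hgV⟩
  -- `K` is normalized by `P`
  have hKnorm : ∀ x ∈ P, ∀ k ∈ K, x * k * x⁻¹ ∈ K := by
    intro x hx k hk
    obtain ⟨hkP, hkV⟩ := (hKmem k).1 hk
    refine (hKmem _).2 ⟨P.mul_mem (P.mul_mem hx hkP) (P.inv_mem hx), fun v hv => ?_⟩
    have hv' : x⁻¹ * v * x ∈ V := by simpa using hconjV x⁻¹ (P.inv_mem hx) v hv
    have h1 := hkV _ hv'
    have : x * k * x⁻¹ * v * (x * k * x⁻¹)⁻¹ * v⁻¹ =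
        x * (k * (x⁻¹ * v * x) * k⁻¹ * (x⁻¹ * v * x)⁻¹) * x⁻¹ := by group
    rw [this]
    exact hZ₀conj x hx _ h1
  -- every element of `K` has `p`-th power one
  have hKexp : ∀ k ∈ K, k ^ p = 1 := by
    intro k hk
    obtain ⟨hkP, hkV⟩ := (hKmem k).1 hk
    have hpow : ∀ n : ℕ, ∀ v ∈ V, k ^ n * v * (k ^ n)⁻¹ = (k * v * k⁻¹ * v⁻¹) ^ n * v := by
      intro n
      induction n with
      | zero => intro v _; simp
      | succ n ih =>
        intro v hv
        have hz := hkV v hv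
        obtain ⟨z, hzdef⟩ : ∃ z, z = k * v * k⁻¹ * v⁻¹ := ⟨_, rfl⟩
        rw [← hzdef] at hz ⊢
        have ih' : k ^ n * v * (k ^ n)⁻¹ = z ^ n * v := by rw [hzdef]; exact ih v hv
        have hkz : k * z = z * k := hZ₀P z hz k hkP
        have hkv : k * v * k⁻¹ = z * v := by rw [hzdef]; group
        have hzn : k ^ n * z = z * k ^ n := (Commute.pow_left (show Commute k z from hkz) n).eq
        calc k ^ (n + 1) * v * (k ^ (n + 1))⁻¹ = k ^ n * (k * v * k⁻¹) * (k ^ n)⁻¹ := by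
              rw [pow_succ, mul_inv_rev]; simp only [mul_assoc]
          _ = k ^ n * (z * v) * (k ^ n)⁻¹ := by rw [hkv]
          _ = z * (k ^ n * v * (k ^ n)⁻¹) := by
              rw [← mul_assoc, hzn]; simp only [mul_assoc]
          _ = z * (z ^ n * v) := by rw [ih']
          _ = z ^ (n + 1) * v := by rw [pow_succ', mul_assoc]
    have hcent : k ^ p ∈ P ⊓ Subgroup.centralizer (V : Set G) := by
      refine Subgroup.mem_inf.2 ⟨P.pow_mem hkP p, ?_⟩
      rw [Subgroup.mem_centralizer_iff]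
      intro v hv
      have h1 := hpow p v hv
      have hz := hkV v hv
      rw [hV.2 _ hz.1, one_mul] at h1
      -- `k^p v k^-p = v`
      calc v * k ^ p = (k ^ p * v * (k ^ p)⁻¹) * k ^ p := by rw [h1]
        _ = k ^ p * v := by group
    rw [hfaith, Subgroup.mem_bot] at hcent
    exact hcent
  -- `K` is a `p`-group, normal in `P`, hence inside `T`
  have hKT : K ≤ (T : Subgroup ↥P).map P.subtype := by
    have hKp : IsPGroup p (K.subgroupOf P) := by
      intro x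
      refine ⟨1, ?_⟩
      have := hKexp (x : ↥P) x.2
      ext
      simpa using this
    have hKn : (K.subgroupOf P).Normal := by
      constructor
      intro n hn x
      rw [Subgroup.mem_subgroupOf] at hn ⊢
      simpa using hKnorm x x.2 n hn
    obtain ⟨Q, hQ⟩ := hKp.exists_le_sylow
    obtain ⟨x, hx⟩ := MulAction.exists_smul_eq ↥P Q T
    intro k hk
    refine ⟨⟨k, hKP hk⟩, ?_, rfl⟩
    have hk' : (⟨k, hKP hk⟩ : ↥P) ∈ K.subgroupOf P := by
      rw [Subgroup.mem_subgroupOf]; exact hk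
    have hk'' : x⁻¹ * (⟨k, hKP hk⟩ : ↥P) * x⁻¹⁻¹ ∈ K.subgroupOf P := hKn.conj_mem _ hk' x⁻¹
    have h2 := hQ hk''
    rw [← hx, Sylow.coe_subgroup_smul]
    show (⟨k, hKP hk⟩ : ↥P) ∈ MulAut.conj x • (Q : Subgroup ↥P)
    rw [Subgroup.mem_pointwise_smul_iff_inv_smul_mem]
    simpa [MulAut.smul_def, MulAut.conj_apply] using h2
  -- `C_V(K)` is `P`-invariant between `Z₀` and `V`
  set U : Subgroup G := V ⊓ Subgroup.centralizer (K : Set G) with hU
  have hZ₀U : Z₀ ≤ U := by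
    intro z hz
    exact ⟨hz.1, Subgroup.centralizer_le (show (K : Set G) ⊆ P from hKP) hz.2⟩
  have hPU : P ≤ Subgroup.normalizer (U : Set G) := by
    have hconjU : ∀ x ∈ P, ∀ u ∈ U, x * u * x⁻¹ ∈ U := by
      intro x hx u hu
      refine Subgroup.mem_inf.2 ⟨hconjV x hx u hu.1, ?_⟩
      rw [Subgroup.mem_centralizer_iff]
      intro k hk
      have hk' : x⁻¹ * k * x ∈ K := by simpa using hKnorm x⁻¹ (P.inv_mem hx) k hk
      have := Subgroup.mem_centralizer_iff.1 hu.2 _ hk'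
      calc k * (x * u * x⁻¹) = x * ((x⁻¹ * k * x) * u) * x⁻¹ := by group
        _ = x * (u * (x⁻¹ * k * x)) * x⁻¹ := by rw [this]
        _ = x * u * x⁻¹ * k := by group
    intro x hx
    rw [Subgroup.mem_normalizer_iff]
    intro u
    constructor
    · exact hconjU x hx u
    · intro h
      have := hconjU x⁻¹ (P.inv_mem hx) _ h
      simpa [mul_assoc] using this
  -- `V = ⟨C_V(T)^P⟩ ≤ C_V(K)`
  have hVU : V ≤ U := by
    apply hgen
    intro x hx z hz
    have hzU : z ∈ U := ⟨hz.1, Subgroup.centralizer_le (show (K : Set G) ⊆ _ from hKT) hz.2⟩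
    exact (Subgroup.mem_normalizer_iff.1 (hPU hx) z).1 hzU
  -- `K` centralizes `V`
  have : g ∈ P ⊓ Subgroup.centralizer (V : Set G) := by
    refine Subgroup.mem_inf.2 ⟨hg, ?_⟩
    rw [Subgroup.mem_centralizer_iff]
    intro v hv
    have hvU : v ∈ U := hVU hv
    exact (Subgroup.mem_centralizer_iff.1 hvU.2 g hgK).symm
  rw [hfaith, Subgroup.mem_bot] at this
  exact this

end Cfsg.Agent.Lib.Helper50.SL2Lemma
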