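import Mathlib
import Cfsg.Prelude.Def_LocalEven

/-!
# SL₂-lemma (S2999), step F1: facts on `p`-minimal groups

For a finite `p`-minimal group `H` with Sylow `p`-subgroup `T` and the maximal subgroup `M ≥ T`:
* every proper subgroup containing `T` lies in `M`;
* `T^g ≤ M` implies `g ∈ M`;
* there is a normal `p`-subgroup `D ≤ T` containing every `p`-element of the core of `M`.
-/

set_option autoImplicit false

namespace Cfsg.Agent.Lib.Helper50.SL2Lemma

open Cfsg
open Pointwise

variable {H : Type*} [Group H] [Finite H] {p : ℕ} [Fact p.Prime]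

/-- every proper subgroup containing a Sylow `p`-subgroup `S` lies in any coatom over `S` -/
theorem pmin_le_coatom (hmin : IsPMinimal p H) (S : Sylow p H) (M : Subgroup H) (hM : IsCoatom M)
    (hSM : (S : Subgroup H) ≤ M) (K : Subgroup H) (hSK : (S : Subgroup H) ≤ K) (hK : K ≠ ⊤) : K ≤ M := by
  rcases eq_top_or_exists_le_coatom K with h | ⟨M₁, hM₁, hKM₁⟩
  · exact absurd h hK
  · obtain ⟨M₀, -, huniq⟩ := (hmin S).2
    have h1 := huniq M ⟨hM, hSM⟩
    have h2 := huniq M₁ ⟨hM₁, hSK.trans hKM₁⟩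
    rw [h1, ← h2]
    exact hKM₁

theorem isCoatom_map_conj (M : Subgroup H) (hM : IsCoatom M) (g : H) :
    IsCoatom (M.map (MulAut.conj g).toMonoidHom) := by
  have := (MulEquiv.mapSubgroup (MulAut.conj g)).isCoatom_iff M
  exact this.2 hM

/-- `T^g ≤ M` implies `g ∈ M` -/
theorem pmin_mem_of_conj_le (hmin : IsPMinimal p H) (T : Sylow p H) (M : Subgroup H) (hM : IsCoatom M)
    (hTM : (T : Subgroup H) ≤ M) (g : H) (hg : ∀ t ∈ (T : Subgroup H), g * t * g⁻¹ ∈ M) : g ∈ M := by
  by_contra hgM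
  -- `S = g • T ≤ M ⊓ M^g`
  have hS1 : ((g • T : Sylow p H) : Subgroup H) ≤ M := by
    intro x hx
    rw [Sylow.coe_subgroup_smul, Subgroup.mem_pointwise_smul_iff_inv_smul_mem] at hx
    have := hg _ hx
    simpa [MulAut.smul_def, MulAut.conj_apply, mul_assoc] using this
  have hS2 : ((g • T : Sylow p H) : Subgroup H) ≤ M.map (MulAut.conj g).toMonoidHom := by
    intro x hx
    rw [Sylow.coe_subgroup_smul, Subgroup.mem_pointwise_smul_iff_inv_smul_mem] at hx
    refine ⟨_, hTM hx, ?_⟩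
    simp [MulAut.smul_def, MulAut.conj_apply, mul_assoc]
  obtain ⟨M₀, -, huniq⟩ := (hmin (g • T)).2
  have h1 := huniq M ⟨hM, hS1⟩
  have h2 := huniq _ ⟨isCoatom_map_conj M hM g, hS2⟩
  have hMg : M.map (MulAut.conj g).toMonoidHom = M := h2.trans h1.symm
  -- `g` normalizes `M`, so `M` is normal in `M ⊔ ⟨g⟩ = ⊤`
  have hgN : g ∈ Subgroup.normalizer (M : Set H) := by
    rw [Subgroup.mem_normalizer_iff]
    intro h
    constructor
    · intro hh
      rw [← hMg]
      exact ⟨h, hh, by simp [MulAut.conj_apply]⟩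
    · intro hh
      rw [← hMg] at hh
      obtain ⟨y, hy, hyh⟩ := hh
      have : y = h := by
        have := hyh
        simp only [MulEquiv.coe_toMonoidHom, MulAut.conj_apply] at this
        have h3 : g⁻¹ * (g * y * g⁻¹) * g = g⁻¹ * (g * h * g⁻¹) * g := by rw [this]
        simpa [mul_assoc] using h3
      rw [← this]
      exact hy
  have hNtop : Subgroup.normalizer (M : Set H) = ⊤ := by
    have hlt : M < Subgroup.normalizer (M : Set H) :=
      lt_of_le_of_ne Subgroup.le_normalizer (fun h => hgM (h ▸ hgN))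
    exact hM.2 _ hlt
  have hMn : M.Normal := Subgroup.normalizer_eq_top_iff.mp hNtop
  have hfr := Sylow.normalizer_sup_eq_top' T hTM
  have hNT : Subgroup.normalizer ((T : Subgroup H) : Set H) ≠ ⊤ := by
    intro h
    exact (hmin T).1 (Subgroup.normalizer_eq_top_iff.mp h)
  have hle := pmin_le_coatom hmin T M hM hTM _ Subgroup.le_normalizer hNT
  have : (⊤ : Subgroup H) ≤ M := by
    rw [← hfr]
    exact sup_le hle le_rfl
  exact hM.1 (top_le_iff.mp this)

/-- a normal `p`-subgroup `D ≤ T` containing all `p`-elements of the core of `M` -/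
theorem pmin_exists_core (hmin : IsPMinimal p H) (T : Sylow p H) (M : Subgroup H) (hM : IsCoatom M)
    (hTM : (T : Subgroup H) ≤ M) :
    ∃ D : Subgroup H, D.Normal ∧ D ≤ (T : Subgroup H) ∧
      ∀ a : H, (∀ g : H, g * a * g⁻¹ ∈ M) → (∃ k : ℕ, a ^ p ^ k = 1) → a ∈ D := by
  classical
  let R : Subgroup H := M.normalCore
  have hRM : R ≤ M := Subgroup.normalCore_le M
  let Q : Sylow p R := default
  let D : Subgroup H := (Q : Subgroup R).map R.subtype
  have hDR : D ≤ R := Subgroup.map_subtype_le _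
  have hDp : IsPGroup p D := Q.isPGroup'.map _
  have hfr : Subgroup.normalizer (D : Set H) ⊔ R = ⊤ := Sylow.normalizer_sup_eq_top Q
  obtain ⟨S, hDS⟩ := hDp.exists_le_sylow
  -- `S ⊓ R = D`
  have hSR : (S : Subgroup H) ⊓ R = D := by
    have hp' : IsPGroup p (((S : Subgroup H) ⊓ R).subgroupOf R) := by
      have : IsPGroup p ((S : Subgroup H) ⊓ R : Subgroup H) := S.isPGroup'.to_le inf_le_left
      exact this.comap_subtype
    have hle : (Q : Subgroup R) ≤ ((S : Subgroup H) ⊓ R).subgroupOf R := by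
      intro x hx
      rw [Subgroup.mem_subgroupOf]
      exact ⟨hDS ⟨x, hx, rfl⟩, x.2⟩
    have heq := Q.is_maximal' hp' hle
    change ((S : Subgroup H) ⊓ R) = (Q : Subgroup R).map R.subtype
    rw [← heq, Subgroup.subgroupOf_map_subtype]
    exact (inf_of_le_left inf_le_right).symm
  -- `S` normalizes `D`
  have hSN : (S : Subgroup H) ≤ Subgroup.normalizer (D : Set H) := by
    have hconj : ∀ s ∈ (S : Subgroup H), ∀ h ∈ D, s * h * s⁻¹ ∈ D := by
      intro s hs h hh
      rw [← hSR] at hh ⊢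
      refine Subgroup.mem_inf.2 ⟨?_, ?_⟩
      · exact (S : Subgroup H).mul_mem ((S : Subgroup H).mul_mem hs (Subgroup.mem_inf.1 hh).1)
          ((S : Subgroup H).inv_mem hs)
      · exact (Subgroup.normalCore_normal M).conj_mem _ (Subgroup.mem_inf.1 hh).2 s
    intro s hs
    rw [Subgroup.mem_normalizer_iff]
    intro h
    constructor
    · exact hconj s hs h
    · intro hh
      have := hconj s⁻¹ ((S : Subgroup H).inv_mem hs) _ hh
      simpa [mul_assoc] using this
  -- `D` is normal in `H`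
  have hDn : D.Normal := by
    rw [← Subgroup.normalizer_eq_top_iff]
    by_contra hne
    obtain ⟨g, hg⟩ := MulAction.exists_smul_eq H T S
    have hS2 : (S : Subgroup H) ≤ M.map (MulAut.conj g).toMonoidHom := by
      intro x hx
      rw [← hg, Sylow.coe_subgroup_smul, Subgroup.mem_pointwise_smul_iff_inv_smul_mem] at hx
      refine ⟨_, hTM hx, ?_⟩
      simp [MulAut.smul_def, MulAut.conj_apply, mul_assoc]
    have hle := pmin_le_coatom hmin S _ (isCoatom_map_conj M hM g) hS2 _ hSN hne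
    have hR2 : R ≤ M.map (MulAut.conj g).toMonoidHom := by
      intro r hr
      have h1 : g⁻¹ * r * g⁻¹⁻¹ ∈ R := (Subgroup.normalCore_normal M).conj_mem r hr g⁻¹
      refine ⟨_, hRM h1, ?_⟩
      simp [MulAut.conj_apply, mul_assoc]
    have : (⊤ : Subgroup H) ≤ M.map (MulAut.conj g).toMonoidHom := by
      rw [← hfr]
      exact sup_le hle hR2
    exact (isCoatom_map_conj M hM g).1 (top_le_iff.mp this)
  refine ⟨D, hDn, hDp.le_sylow_of_normal T, ?_⟩
  intro a ha hap
  have haR : a ∈ R := ha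
  -- `D ⊔ ⟨a⟩` is a `p`-subgroup of `R` containing `D`
  obtain ⟨k, hk⟩ := hap
  have hza : IsPGroup p (Subgroup.zpowers a) := by
    rw [IsPGroup.iff_orderOf]
    intro x
    obtain ⟨n, hn⟩ : ∃ n, orderOf (x : H) = p ^ n := by
      have hdvd : orderOf (x : H) ∣ p ^ k := by
        obtain ⟨m, hm⟩ := Subgroup.mem_zpowers_iff.1 x.2
        apply orderOf_dvd_of_pow_eq_one
        rw [← hm, ← zpow_natCast, ← zpow_mul, mul_comm, zpow_mul, zpow_natCast, hk, one_zpow]
      exact (Nat.dvd_prime_pow Fact.out).1 hdvd |>.imp fun n hn => hn.2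
    exact ⟨n, by rw [← hn, Subgroup.orderOf_coe]⟩
  have hsup : IsPGroup p (D ⊔ Subgroup.zpowers a : Subgroup H) := hDp.to_sup_of_normal_left hza
  have hsupR : D ⊔ Subgroup.zpowers a ≤ R := sup_le hDR (by
    rw [Subgroup.zpowers_le]; exact haR)
  have hp' : IsPGroup p ((D ⊔ Subgroup.zpowers a).subgroupOf R) := hsup.comap_subtype
  have hle : (Q : Subgroup R) ≤ (D ⊔ Subgroup.zpowers a).subgroupOf R := by
    intro x hx
    rw [Subgroup.mem_subgroupOf]
    exact (le_sup_left : D ≤ D ⊔ Subgroup.zpowers a) ⟨x, hx, rfl⟩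
  have heq := Q.is_maximal' hp' hle
  have : (⟨a, haR⟩ : R) ∈ (Q : Subgroup R) := by
    rw [← heq, Subgroup.mem_subgroupOf]
    exact (le_sup_right : Subgroup.zpowers a ≤ D ⊔ Subgroup.zpowers a) (Subgroup.mem_zpowers a)
  exact ⟨⟨a, haR⟩, this, rfl⟩

end Cfsg.Agent.Lib.Helper50.SL2Lemma
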