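import Mathlib
import Cfsg.Agent.Lib.Helper97.Replacement3

/-!
# SL₂-lemma (S2999), step [Q]: a strict offender acts quadratically

`quadratic_of_strict_offender`: if `A` is an elementary abelian `p`-group normalizing the elementary abelian
`p`-group `V` with `|V| ≤ |A| |C_V(A)|` and `|A₀| |C_V(A₀)| < |A| |C_V(A)|` for all `1 ≠ A₀ < A`, then `[V, A, A] = 1`.
(Timmesfeld replacement + strictness.)
-/

set_option autoImplicit false

namespace Cfsg.Agent.Lib.Helper50.SL2Lemma

open Cfsg
open Cfsg.Agent.Lib.Helper97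

variable {G : Type*} [Group G]

/-- a strict offender is a best offender -/
theorem isBestOffenderOn_of_strict [Finite G] {p : ℕ} [Fact p.Prime] (V A : Subgroup G)
    (hAel : IsElementaryAbelian p A)
    (hi : Nat.card ↥V ≤ Nat.card ↥A * Nat.card ↥(V ⊓ Subgroup.centralizer ((A : Subgroup G) : Set G)) ∧
      ∀ A₀ : Subgroup G, A₀ ≤ A → A₀ ≠ ⊥ → A₀ ≠ A →
        Nat.card ↥A₀ * Nat.card ↥(V ⊓ Subgroup.centralizer ((A₀ : Subgroup G) : Set G)) <
          Nat.card ↥A * Nat.card ↥(V ⊓ Subgroup.centralizer ((A : Subgroup G) : Set G))) :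
    IsBestOffenderOn p V A := by
  refine ⟨?_, ?_, ?_⟩
  · intro B hB
    by_cases hB1 : B = ⊥
    · subst hB1
      have h1 : V ⊓ Subgroup.centralizer (((⊥ : Subgroup G) : Subgroup G) : Set G) = V := by
        apply inf_of_le_left
        intro v _
        rw [Subgroup.mem_centralizer_iff]
        intro g hg
        have : g = 1 := by simpa using hg
        subst this
        simp
      rw [h1, Subgroup.card_bot, one_mul]
      exact hi.1
    · by_cases hBA : B = A
      · subst hBA
        exact le_rfl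
      · exact (hi.2 B hB hB1 hBA).le
  · have hc : IsMulCommutative A := hAel.1
    have : ⁅A, A⁆ = ⊥ := by
      rw [Subgroup.commutator_eq_bot_iff_le_centralizer]
      intro a ha
      rw [Subgroup.mem_centralizer_iff]
      intro b hb
      have := hc.is_comm.comm (⟨b, hb⟩ : A) ⟨a, ha⟩
      exact congrArg Subtype.val this
    rw [this]
    exact bot_le
  · intro a ha
    rw [hAel.2 a ha]
    exact Subgroup.one_mem _

/-- **[Q]** a strict offender acts quadratically. -/
theorem quadratic_of_strict_offender [Finite G] {p : ℕ} [Fact p.Prime] (V A : Subgroup G)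
    (hV : IsElementaryAbelian p V) (hAV : A ≤ Subgroup.normalizer (V : Set G))
    (hAel : IsElementaryAbelian p A)
    (hi : Nat.card ↥V ≤ Nat.card ↥A * Nat.card ↥(V ⊓ Subgroup.centralizer ((A : Subgroup G) : Set G)) ∧
      ∀ A₀ : Subgroup G, A₀ ≤ A → A₀ ≠ ⊥ → A₀ ≠ A →
        Nat.card ↥A₀ * Nat.card ↥(V ⊓ Subgroup.centralizer ((A₀ : Subgroup G) : Set G)) <
          Nat.card ↥A * Nat.card ↥(V ⊓ Subgroup.centralizer ((A : Subgroup G) : Set G))) :
    ⁅⁅V, A⁆, A⁆ = ⊥ := by
  have hbest := isBestOffenderOn_of_strict V A hAel hi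
  have hVc : IsMulCommutative V := hV.1
  obtain ⟨hmax, hab, hpow⟩ := hbest
  have hmax' : ∀ X : Subgroup G, X ≤ A → offProd V X ≤ offProd V A := hmax
  obtain ⟨h1, h2⟩ := replacement (U := V) hAV hab le_rfl hmax'
  obtain ⟨-, -, h3⟩ := timmesfeld_replacement V A hV hAV ⟨hmax, hab, hpow⟩ V le_rfl
  by_cases hVA : ⁅V, A⁆ = ⊥
  · rw [hVA]
    exact Subgroup.commutator_bot_left A
  set As : Subgroup G := A ⊓ Subgroup.centralizer ((⁅V, A⁆ : Subgroup G) : Set G) with hAs
  have hAs1 : As ≠ ⊥ := by
    intro h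
    apply h3 hVA
    rw [h]
    exact Subgroup.commutator_bot_right V
  have hAsA : As = A := by
    by_contra hne
    have := hi.2 As inf_le_left hAs1 hne
    unfold offProd cv at h1
    omega
  rw [Subgroup.commutator_eq_bot_iff_le_centralizer]
  -- `A ≤ C([V,A])`, so `[V,A] ≤ C(A)`
  have hA : A ≤ Subgroup.centralizer ((⁅V, A⁆ : Subgroup G) : Set G) := by
    have : As ≤ Subgroup.centralizer ((⁅V, A⁆ : Subgroup G) : Set G) := by
      rw [hAs]
      exact inf_le_right (a := A) (b := Subgroup.centralizer ((⁅V, A⁆ : Subgroup G) : Set G))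
    rwa [hAsA] at this
  exact Subgroup.le_centralizer_iff.mp hA

end Cfsg.Agent.Lib.Helper50.SL2Lemma
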