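import Mathlib
import Cfsg.Prelude.Def_Transfer
import Cfsg.Prelude.Def_LocalEven
import Cfsg.Agent.Lib.Helper50.ChermakDelgado
import Cfsg.Agent.Lib.Helper50.SL2LemmaQ
import Cfsg.Agent.Lib.Helper50.SL2LemmaMin
import Cfsg.Agent.Lib.Helper50.SL2LemmaFaith

/-!
# SL₂-lemma (S2999), the front part ([TIGHT]): from the literal hypotheses to the rank-one configuration

Ambient form.  `C = C_V(P)`, `U = C_V(A)`, `Z = C_V(T)`, `V₁ = ⟨Z^P⟩`.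
-/

set_option autoImplicit false
set_option linter.unusedSectionVars false

namespace Cfsg.Agent.Lib.Helper50.SL2Lemma

open Cfsg
open Pointwise
open scoped commutatorElement

variable {G : Type*} [Group G]

/-- conjugation by `x` as a monoid hom -/
abbrev cj (x : G) : G →* G := (MulAut.conj x).toMonoidHom

theorem mem_map_cj {H : Subgroup G} {x v : G} : v ∈ H.map (cj x) ↔ x⁻¹ * v * x ∈ H := by
  constructor
  · rintro ⟨w, hw, rfl⟩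
    simpa [cj, MulAut.conj_apply, mul_assoc] using hw
  · intro h
    refine ⟨x⁻¹ * v * x, h, ?_⟩
    simp [cj, MulAut.conj_apply, mul_assoc]

theorem card_map_cj [Finite G] (H : Subgroup G) (x : G) : Nat.card (H.map (cj x)) = Nat.card H :=
  Subgroup.card_map_of_injective (MulAut.conj x).injective

/-- Elements of the join of two elementwise commuting subgroups are products. -/
theorem mem_sup_of_commute {H K : Subgroup G} (hc : ∀ h ∈ H, ∀ k ∈ K, h * k = k * h) {x : G} :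
    x ∈ H ⊔ K ↔ ∃ h ∈ H, ∃ k ∈ K, x = h * k := by
  constructor
  · intro hx
    let S : Subgroup G :=
      { carrier := {x | ∃ h ∈ H, ∃ k ∈ K, x = h * k}
        one_mem' := ⟨1, H.one_mem, 1, K.one_mem, by simp⟩
        mul_mem' := by
          rintro _ _ ⟨h, hh, k, hk, rfl⟩ ⟨h', hh', k', hk', rfl⟩
          refine ⟨h * h', H.mul_mem hh hh', k * k', K.mul_mem hk hk', ?_⟩
          have := hc h' hh' k hk
          calc h * k * (h' * k') = h * (k * h') * k' := by group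
            _ = h * (h' * k) * k' := by rw [this]
            _ = h * h' * (k * k') := by group
        inv_mem' := by
          rintro _ ⟨h, hh, k, hk, rfl⟩
          refine ⟨h⁻¹, H.inv_mem hh, k⁻¹, K.inv_mem hk, ?_⟩
          have := hc h hh k hk
          rw [this, mul_inv_rev] }
    have hle : H ⊔ K ≤ S :=
      sup_le (fun h hh => ⟨h, hh, 1, K.one_mem, by simp⟩) (fun k hk => ⟨1, H.one_mem, k, hk, by simp⟩)
    exact hle hx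
  · rintro ⟨h, hh, k, hk, rfl⟩
    exact Subgroup.mul_mem _ (Subgroup.mem_sup_left hh) (Subgroup.mem_sup_right hk)

theorem le_normalizer_of_conj_mem {H K : Subgroup G} (h : ∀ x ∈ K, ∀ u ∈ H, x * u * x⁻¹ ∈ H) :
    K ≤ Subgroup.normalizer (H : Set G) := by
  intro x hx
  rw [Subgroup.mem_normalizer_iff]
  intro u
  constructor
  · exact h x hx u
  · intro hu
    have := h x⁻¹ (K.inv_mem hx) _ hu
    simpa [mul_assoc] using this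

/-- `C_V(X) = V ∩ C_G(X)`. -/
abbrev cV (V X : Subgroup G) : Subgroup G := V ⊓ Subgroup.centralizer (X : Set G)

theorem cV_anti (V : Subgroup G) {X Y : Subgroup G} (h : X ≤ Y) : cV V Y ≤ cV V X :=
  inf_le_inf_left _ (Subgroup.centralizer_le h)

/-- The Sylow subgroup `T` of `↥P` as a subgroup of `G`. -/
abbrev Tsub {p : ℕ} {P : Subgroup G} (T : Sylow p ↥P) : Subgroup G := (T : Subgroup ↥P).map P.subtype

/-- `V₁ = ⟨C_V(T)^P⟩`. -/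
def genV (V P T' : Subgroup G) : Subgroup G :=
  Subgroup.closure {w | ∃ g ∈ P, ∃ z ∈ cV V T', w = g * z * g⁻¹}

/-- The literal hypotheses of S2999. -/
structure Hyp [Finite G] (p : ℕ) [Fact p.Prime] (V P : Subgroup G) (T : Sylow p ↥P) (M : Subgroup ↥P)
    (A : Subgroup G) : Prop where
  hV : IsElementaryAbelian p V
  hPV : P ≤ Subgroup.normalizer (V : Set G)
  hfaith : P ⊓ Subgroup.centralizer (V : Set G) = ⊥
  hmin : IsPMinimal p ↥P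
  hM : IsCoatom M
  hTM : (T : Subgroup ↥P) ≤ M
  hAT : A ≤ ((T : Subgroup ↥P).map P.subtype)
  hAel : IsElementaryAbelian p A
  hi : Nat.card ↥V ≤ Nat.card ↥A * Nat.card ↥(V ⊓ Subgroup.centralizer ((A : Subgroup G) : Set G)) ∧
    ∀ A₀ : Subgroup G, A₀ ≤ A → A₀ ≠ ⊥ → A₀ ≠ A →
      Nat.card ↥A₀ * Nat.card ↥(V ⊓ Subgroup.centralizer ((A₀ : Subgroup G) : Set G)) <
        Nat.card ↥A * Nat.card ↥(V ⊓ Subgroup.centralizer ((A : Subgroup G) : Set G))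
  hii : ⁅(V ⊓ Subgroup.centralizer ((((T : Subgroup ↥P).map P.subtype) : Subgroup G) : Set G)), P⁆ ≠ ⊥
  hiii : ∀ x : ↥P, x ∉ M → A ⊔ A.map (MulAut.conj (x : G)).toMonoidHom = P

namespace Hyp

variable [Finite G] {p : ℕ} [Fact p.Prime] {V P : Subgroup G} {T : Sylow p ↥P} {M : Subgroup ↥P}
  {A : Subgroup G} (h : Hyp p V P T M A)
include h

theorem conjV {x v : G} (hx : x ∈ P) (hv : v ∈ V) : x * v * x⁻¹ ∈ V :=
  (Subgroup.mem_normalizer_iff.1 (h.hPV hx) v).1 hv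

theorem conjV' {x v : G} (hx : x ∈ P) (hv : v ∈ V) : x⁻¹ * v * x ∈ V := by
  simpa using h.conjV (P.inv_mem hx) hv

theorem commV {v w : G} (hv : v ∈ V) (hw : w ∈ V) : v * w = w * v := by
  have := h.hV.1.is_comm.comm ⟨v, hv⟩ ⟨w, hw⟩
  exact congrArg Subtype.val this

theorem T'_le_P : (T : Subgroup ↥P).map P.subtype ≤ P := by
  rintro _ ⟨t, _, rfl⟩
  exact t.2

theorem A_le_P : A ≤ P := h.hAT.trans h.T'_le_P

theorem A_mem_M {a : G} (ha : a ∈ A) : (⟨a, h.A_le_P ha⟩ : ↥P) ∈ M := by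
  obtain ⟨t, ht, hta⟩ := h.hAT ha
  have : t = ⟨a, h.A_le_P ha⟩ := Subtype.ext hta
  rw [← this]
  exact h.hTM ht

theorem C_le_U : cV V P ≤ cV V A := cV_anti V h.A_le_P

theorem C_le_Z : cV V P ≤ cV V ((T : Subgroup ↥P).map P.subtype) := cV_anti V h.T'_le_P

theorem Z_le_U : cV V ((T : Subgroup ↥P).map P.subtype) ≤ cV V A := cV_anti V h.hAT

/-- elements of `C` commute with elements of `P` -/
theorem C_comm {c x : G} (hc : c ∈ cV V P) (hx : x ∈ P) : x * c = c * x :=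
  Subgroup.mem_centralizer_iff.1 hc.2 x hx

theorem C_conj {c x : G} (hc : c ∈ cV V P) (hx : x ∈ P) : x * c * x⁻¹ = c := by
  rw [h.C_comm hc hx, mul_assoc, mul_inv_cancel, mul_one]

/-- quadratic action: `[V, A] ≤ C_V(A)`. -/
theorem quad {v a : G} (hv : v ∈ V) (ha : a ∈ A) : a * v * a⁻¹ * v⁻¹ ∈ cV V A := by
  have hq := quadratic_of_strict_offender V A h.hV (h.A_le_P.trans h.hPV) h.hAel h.hi
  rw [Subgroup.commutator_eq_bot_iff_le_centralizer] at hq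
  refine Subgroup.mem_inf.2 ⟨V.mul_mem (h.conjV (h.A_le_P ha) hv) (V.inv_mem hv), ?_⟩
  apply hq
  have h1 : ⁅v, a⁆ ∈ ⁅V, A⁆ := Subgroup.commutator_mem_commutator hv ha
  have h2 : a * v * a⁻¹ * v⁻¹ = ⁅v, a⁆⁻¹ := by
    rw [commutatorElement_def]; group
  rw [h2]
  exact Subgroup.inv_mem _ h1

local notation "𝐓" => Tsub T
local notation "𝐂" => cV V P
local notation "𝐔" => cV V A
local notation "𝐙" => cV V (Tsub T)
local notation "𝐕₁" => genV V P (Tsub T)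

theorem Z_le_V1 : 𝐙 ≤ 𝐕₁ := by
  intro z hz
  apply Subgroup.subset_closure
  exact ⟨1, P.one_mem, z, hz, by simp⟩

theorem V1_le_of {W : Subgroup G} (hW : ∀ g ∈ P, ∀ z ∈ 𝐙, g * z * g⁻¹ ∈ W) : 𝐕₁ ≤ W := by
  rw [genV, Subgroup.closure_le]
  rintro _ ⟨g, hg, z, hz, rfl⟩
  exact hW g hg z hz

theorem V1_le_V : 𝐕₁ ≤ V :=
  h.V1_le_of fun _ hg _ hz => h.conjV hg hz.1

theorem V1_conj {x w : G} (hx : x ∈ P) (hw : w ∈ 𝐕₁) : x * w * x⁻¹ ∈ 𝐕₁ := by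
  have : 𝐕₁ ≤ (𝐕₁).comap (cj x) := by
    apply h.V1_le_of
    intro g hg z hz
    rw [Subgroup.mem_comap]
    apply Subgroup.subset_closure
    refine ⟨x * g, P.mul_mem hx hg, z, hz, ?_⟩
    simp [cj, MulAut.conj_apply, mul_assoc]
  have h2 := this hw
  rw [Subgroup.mem_comap] at h2
  simpa [cj, MulAut.conj_apply] using h2

theorem V1_conj' {x w : G} (hx : x ∈ P) (hw : w ∈ 𝐕₁) : x⁻¹ * w * x ∈ 𝐕₁ := by
  simpa using h.V1_conj (P.inv_mem hx) hw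

theorem C_le_V1 : 𝐂 ≤ 𝐕₁ := h.C_le_Z.trans h.Z_le_V1

/-- **F2**: `U ∩ U^x = C` for `x ∉ M`. -/
theorem inter (x : ↥P) (hx : x ∉ M) {v : G} (hv : v ∈ 𝐔) (hv' : (x : G)⁻¹ * v * x ∈ 𝐔) : v ∈ 𝐂 := by
  refine Subgroup.mem_inf.2 ⟨hv.1, ?_⟩
  have hle : A ⊔ A.map (MulAut.conj (x : G)).toMonoidHom ≤ Subgroup.centralizer ({v} : Set G) := by
    apply sup_le
    · intro a ha
      rw [Subgroup.mem_centralizer_iff]
      intro w hw
      rw [Set.mem_singleton_iff.1 hw]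
      exact (Subgroup.mem_centralizer_iff.1 hv.2 a ha).symm
    · rintro _ ⟨a, ha, rfl⟩
      rw [Subgroup.mem_centralizer_iff]
      intro w hw
      rw [Set.mem_singleton_iff.1 hw]
      have := Subgroup.mem_centralizer_iff.1 hv'.2 a ha
      simp only [MulEquiv.coe_toMonoidHom, MulAut.conj_apply]
      calc v * ((x : G) * a * (x : G)⁻¹) = x * (((x : G)⁻¹ * v * x) * a) * (x : G)⁻¹ := by group
        _ = x * (a * ((x : G)⁻¹ * v * x)) * (x : G)⁻¹ := by rw [this]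
        _ = (x : G) * a * (x : G)⁻¹ * v := by group
  rw [h.hiii x hx] at hle
  rw [Subgroup.mem_centralizer_iff]
  intro g hg
  have := Subgroup.mem_centralizer_iff.1 (hle hg) v rfl
  exact this.symm

/-- commutators with `A` of elements of `V₁` lie in `V₁ ∩ U` -/
theorem comm_mem_H1 {a w : G} (ha : a ∈ A) (hw : w ∈ 𝐕₁) : a * w * a⁻¹ * w⁻¹ ∈ 𝐕₁ ⊓ 𝐔 :=
  Subgroup.mem_inf.2 ⟨Subgroup.mul_mem _ (h.V1_conj (h.A_le_P ha) hw) (Subgroup.inv_mem _ hw),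
    h.quad (h.V1_le_V hw) ha⟩

/-- **F4**: `V₁ = (V₁ ∩ U)(V₁ ∩ U^y)` for `y ∉ M`. -/
theorem decomp (y : ↥P) (hy : y ∉ M) {v : G} (hv : v ∈ 𝐕₁) :
    ∃ u ∈ 𝐕₁ ⊓ 𝐔, ∃ u' ∈ 𝐕₁, (y : G)⁻¹ * u' * y ∈ 𝐔 ∧ v = u * u' := by
  obtain ⟨H1, hH1⟩ : ∃ H1 : Subgroup G, H1 = 𝐕₁ ⊓ 𝐔 := ⟨_, rfl⟩
  obtain ⟨H2, hH2⟩ : ∃ H2 : Subgroup G, H2 = H1.map (cj (y : G)) := ⟨_, rfl⟩
  have hH1V1 : H1 ≤ 𝐕₁ := hH1 ▸ inf_le_left
  have hH2V1 : H2 ≤ 𝐕₁ := by
    intro w hw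
    rw [hH2, mem_map_cj] at hw
    have := h.V1_conj y.2 (hH1V1 hw)
    simpa [mul_assoc] using this
  have hYV1 : H1 ⊔ H2 ≤ 𝐕₁ := sup_le hH1V1 hH2V1
  -- `Y` is normalized by `A` and by `A^y`
  have hAY : A ≤ Subgroup.normalizer ((H1 ⊔ H2 : Subgroup G) : Set G) := by
    apply le_normalizer_of_conj_mem
    intro a ha w hw
    have h1 : a * w * a⁻¹ * w⁻¹ ∈ H1 := hH1 ▸ h.comm_mem_H1 ha (hYV1 hw)
    have h2 : a * w * a⁻¹ = a * w * a⁻¹ * w⁻¹ * w := by group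
    rw [h2]
    exact Subgroup.mul_mem _ (Subgroup.mem_sup_left h1) hw
  have hAyY : A.map (MulAut.conj (y : G)).toMonoidHom ≤
      Subgroup.normalizer ((H1 ⊔ H2 : Subgroup G) : Set G) := by
    apply le_normalizer_of_conj_mem
    rintro _ ⟨a, ha, rfl⟩ w hw
    simp only [MulEquiv.coe_toMonoidHom, MulAut.conj_apply]
    have hw' : (y : G)⁻¹ * w * y ∈ 𝐕₁ := h.V1_conj' y.2 (hYV1 hw)
    have h1 : a * ((y : G)⁻¹ * w * y) * a⁻¹ * ((y : G)⁻¹ * w * y)⁻¹ ∈ H1 := hH1 ▸ h.comm_mem_H1 ha hw'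
    have h3 : (y : G) * a * (y : G)⁻¹ * w * ((y : G) * a * (y : G)⁻¹)⁻¹ * w⁻¹ ∈ H2 := by
      rw [hH2, mem_map_cj]
      have : (y : G)⁻¹ * ((y : G) * a * (y : G)⁻¹ * w * ((y : G) * a * (y : G)⁻¹)⁻¹ * w⁻¹) * y =
          a * ((y : G)⁻¹ * w * y) * a⁻¹ * ((y : G)⁻¹ * w * y)⁻¹ := by group
      rw [this]
      exact h1
    have h2 : (y : G) * a * (y : G)⁻¹ * w * ((y : G) * a * (y : G)⁻¹)⁻¹ =
        (y : G) * a * (y : G)⁻¹ * w * ((y : G) * a * (y : G)⁻¹)⁻¹ * w⁻¹ * w := by group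
    rw [h2]
    exact Subgroup.mul_mem _ (Subgroup.mem_sup_right h3) hw
  have hPY : P ≤ Subgroup.normalizer ((H1 ⊔ H2 : Subgroup G) : Set G) := by
    rw [← h.hiii y hy]
    exact sup_le hAY hAyY
  have hV1Y : 𝐕₁ ≤ H1 ⊔ H2 := by
    apply h.V1_le_of
    intro g hg z hz
    have hz1 : z ∈ H1 ⊔ H2 :=
      Subgroup.mem_sup_left (hH1 ▸ Subgroup.mem_inf.2 ⟨h.Z_le_V1 hz, h.Z_le_U hz⟩)
    exact (Subgroup.mem_normalizer_iff.1 (hPY hg) z).1 hz1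
  have hcomm : ∀ a ∈ H1, ∀ b ∈ H2, a * b = b * a := fun a ha b hb =>
    h.commV (h.V1_le_V (hH1V1 ha)) (h.V1_le_V (hH2V1 hb))
  obtain ⟨u, hu, u', hu', hvu⟩ := (mem_sup_of_commute hcomm).1 (hV1Y hv)
  refine ⟨u, hH1 ▸ hu, u', hH2V1 hu', ?_, hvu⟩
  rw [hH2, mem_map_cj, hH1] at hu'
  exact hu'.2

/-- a normal subgroup of `P` inside `T` centralizes `V₁` -/
theorem core_centralizes (D : Subgroup ↥P) (hD : D.Normal) (hDT : D ≤ (T : Subgroup ↥P)) {d : ↥P} (hd : d ∈ D)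
    {w : G} (hw : w ∈ 𝐕₁) : (d : G) * w = w * d := by
  have hle : 𝐕₁ ≤ Subgroup.centralizer ({(d : G)} : Set G) := by
    apply h.V1_le_of
    intro g hg z hz
    rw [Subgroup.mem_centralizer_iff]
    intro e he
    rw [Set.mem_singleton_iff.1 he]
    have hd' : (⟨g, hg⟩ : ↥P)⁻¹ * d * (⟨g, hg⟩ : ↥P)⁻¹⁻¹ ∈ D := hD.conj_mem d hd _
    have hd'T : ((⟨g, hg⟩ : ↥P)⁻¹ * d * (⟨g, hg⟩ : ↥P)⁻¹⁻¹ : ↥P).1 ∈ Tsub T := ⟨_, hDT hd', rfl⟩
    have hcomm := Subgroup.mem_centralizer_iff.1 hz.2 _ hd'T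
    simp only [inv_inv, Subgroup.coe_mul, Subgroup.coe_inv] at hcomm
    calc (d : G) * (g * z * g⁻¹) = g * ((g⁻¹ * d * g) * z) * g⁻¹ := by group
      _ = g * (z * (g⁻¹ * d * g)) * g⁻¹ := by rw [hcomm]
      _ = g * z * g⁻¹ * d := by group
  exact (Subgroup.mem_centralizer_iff.1 (hle hw) _ rfl)

/-- **F5b** an element of `A` not centralizing `V₁` has a conjugate outside `M` -/
theorem exists_conj_not_mem {a : G} (ha : a ∈ A) (haV : a ∉ Subgroup.centralizer ((𝐕₁ : Subgroup G) : Set G)) :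
    ∃ y : ↥P, y ∉ M ∧ y⁻¹ * (⟨a, h.A_le_P ha⟩ : ↥P) * y ∉ M := by
  by_contra hcon
  push Not at hcon
  apply haV
  obtain ⟨D, hDn, hDT, hD⟩ := pmin_exists_core h.hmin T M h.hM h.hTM
  have haD : (⟨a, h.A_le_P ha⟩ : ↥P) ∈ D := by
    apply hD
    · intro g
      by_cases hg : g⁻¹ ∈ M
      · have hgM : g ∈ M := by simpa using M.inv_mem hg
        exact M.mul_mem (M.mul_mem hgM (h.A_mem_M ha)) hg
      · have := hcon g⁻¹ hg
        simpa using this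
    · refine ⟨1, ?_⟩
      ext
      simpa using h.hAel.2 a ha
  rw [Subgroup.mem_centralizer_iff]
  intro w hw
  exact (h.core_centralizes D hDn hDT haD hw).symm

/-- **F5c** -/
theorem fpf_aux (y : ↥P) {a : G} (ha : a ∈ A) (hb : y⁻¹ * (⟨a, h.A_le_P ha⟩ : ↥P) * y ∉ M) {v : G}
    (hvy : (y : G)⁻¹ * v * y ∈ 𝐔) (hc : a * v * a⁻¹ * v⁻¹ ∈ 𝐂) : v ∈ 𝐂 := by
  have haP := h.A_le_P ha
  have hcinv : (a * v * a⁻¹ * v⁻¹)⁻¹ ∈ 𝐂 := Subgroup.inv_mem _ hc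
  have hca : a⁻¹ * (a * v * a⁻¹ * v⁻¹)⁻¹ * a = (a * v * a⁻¹ * v⁻¹)⁻¹ := by
    have := h.C_conj hcinv (P.inv_mem haP)
    simpa using this
  have e1 : a⁻¹ * v * a = (a * v * a⁻¹ * v⁻¹)⁻¹ * v := by
    calc a⁻¹ * v * a = a⁻¹ * (a * v * a⁻¹ * v⁻¹)⁻¹ * a * v := by group
      _ = (a * v * a⁻¹ * v⁻¹)⁻¹ * v := by rw [hca]
  have e2 : (y : G)⁻¹ * ((a * v * a⁻¹ * v⁻¹)⁻¹ * v) * y =
      (a * v * a⁻¹ * v⁻¹)⁻¹ * ((y : G)⁻¹ * v * y) := by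
    have := h.C_comm hcinv (P.inv_mem y.2)
    calc (y : G)⁻¹ * ((a * v * a⁻¹ * v⁻¹)⁻¹ * v) * y
        = ((y : G)⁻¹ * (a * v * a⁻¹ * v⁻¹)⁻¹) * v * y := by group
      _ = ((a * v * a⁻¹ * v⁻¹)⁻¹ * (y : G)⁻¹) * v * y := by rw [this]
      _ = (a * v * a⁻¹ * v⁻¹)⁻¹ * ((y : G)⁻¹ * v * y) := by group
  have hkey : ((y⁻¹ * (⟨a, h.A_le_P ha⟩ : ↥P) * y : ↥P) : G)⁻¹ * ((y : G)⁻¹ * v * y) *
      ((y⁻¹ * (⟨a, h.A_le_P ha⟩ : ↥P) * y : ↥P) : G) ∈ 𝐔 := by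
    have e3 : ((y⁻¹ * (⟨a, h.A_le_P ha⟩ : ↥P) * y : ↥P) : G)⁻¹ * ((y : G)⁻¹ * v * y) *
        ((y⁻¹ * (⟨a, h.A_le_P ha⟩ : ↥P) * y : ↥P) : G) = (y : G)⁻¹ * (a⁻¹ * v * a) * y := by
      simp only [Subgroup.coe_mul, Subgroup.coe_inv]
      group
    rw [e3, e1, e2]
    exact Subgroup.mul_mem _ (h.C_le_U hcinv) hvy
  have hv'C := h.inter _ hb hvy hkey
  have := h.C_conj hv'C y.2
  have e4 : (y : G) * ((y : G)⁻¹ * v * y) * (y : G)⁻¹ = v := by group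
  rw [e4] at this
  rw [this]
  exact hv'C

/-- **F5** on `V₁`: if `a ∈ A` does not centralize `V₁` then `C_{V₁/C}(a) = (V₁ ∩ U)/C`. -/
theorem fpf_V1 {a : G} (ha : a ∈ A) (haV : a ∉ Subgroup.centralizer ((𝐕₁ : Subgroup G) : Set G)) {v : G}
    (hv : v ∈ 𝐕₁) (hc : a * v * a⁻¹ * v⁻¹ ∈ 𝐂) : v ∈ 𝐔 := by
  obtain ⟨y, hyM, hb⟩ := h.exists_conj_not_mem ha haV
  obtain ⟨u, hu, u', hu', hu'y, rfl⟩ := h.decomp y hyM hv
  have hau : a * u = u * a := Subgroup.mem_centralizer_iff.1 hu.2.2 a ha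
  have hu'V := h.V1_le_V hu'
  have hwV : a * u' * a⁻¹ * u'⁻¹ ∈ V := V.mul_mem (h.conjV (h.A_le_P ha) hu'V) (V.inv_mem hu'V)
  have e1 : a * (u * u') * a⁻¹ * (u * u')⁻¹ = a * u' * a⁻¹ * u'⁻¹ := by
    have e2 : a * (u * u') * a⁻¹ * (u * u')⁻¹ = (a * u) * u' * a⁻¹ * u'⁻¹ * u⁻¹ := by group
    rw [e2, hau]
    have e3 : u * a * u' * a⁻¹ * u'⁻¹ * u⁻¹ = u * (a * u' * a⁻¹ * u'⁻¹) * u⁻¹ := by group
    rw [e3, h.commV hu.2.1 hwV]
    group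
  rw [e1] at hc
  have := h.fpf_aux y ha hb hu'y hc
  exact Subgroup.mul_mem _ hu.2 (h.C_le_U this)

theorem exists_x : ∃ x : ↥P, x ∉ M := by
  obtain ⟨x, -, hx⟩ := SetLike.exists_of_lt (lt_top_iff_ne_top.2 h.hM.1)
  exact ⟨x, hx⟩

theorem exists_z : ∃ z ∈ 𝐙, z ∉ 𝐂 := by
  by_contra hcon
  push Not at hcon
  apply h.hii
  rw [Subgroup.commutator_eq_bot_iff_le_centralizer]
  intro z hz
  exact (hcon z hz).2

/-- **F6**: `|A| |C| ≤ |C_A(V₁)| |V₁ ∩ U|`. -/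
theorem count_le : Nat.card A * Nat.card 𝐂 ≤
    Nat.card (A ⊓ Subgroup.centralizer ((𝐕₁ : Subgroup G) : Set G) : Subgroup G) * Nat.card (𝐕₁ ⊓ 𝐔 : Subgroup G) := by
  obtain ⟨x, hx⟩ := h.exists_x
  obtain ⟨z, hz, hzC⟩ := h.exists_z
  obtain ⟨u', hu'def⟩ : ∃ u' : G, u' = (x : G) * z * (x : G)⁻¹ := ⟨_, rfl⟩
  have hu'V1 : u' ∈ 𝐕₁ := hu'def ▸ h.V1_conj x.2 (h.Z_le_V1 hz)
  have hu'x : (x : G)⁻¹ * u' * x ∈ 𝐔 := by
    have : (x : G)⁻¹ * u' * x = z := by rw [hu'def]; group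
    rw [this]; exact h.Z_le_U hz
  have hu'C : u' ∉ 𝐂 := by
    intro hc
    apply hzC
    have e := h.C_conj hc (P.inv_mem x.2)
    have : (x : G)⁻¹ * u' * (x : G)⁻¹⁻¹ = z := by rw [hu'def]; group
    rw [this] at e
    rw [e]; exact hc
  -- an element `a` of `A` with `[u', a] ∈ C` centralizes `V₁`
  have hker : ∀ a ∈ A, a * u' * a⁻¹ * u'⁻¹ ∈ 𝐂 → a ∈ Subgroup.centralizer ((𝐕₁ : Subgroup G) : Set G) := by
    intro a ha hc
    by_contra haV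
    exact hu'C (h.inter x hx (h.fpf_V1 ha haV hu'V1 hc) hu'x)
  -- the evaluation homomorphism
  let φ : ↥A →* G :=
    { toFun := fun a => (a : G) * u' * (a : G)⁻¹ * u'⁻¹
      map_one' := by simp
      map_mul' := by
        intro a b
        have hw := h.comm_mem_H1 b.2 hu'V1
        have hwa : (a : G) * ((b : G) * u' * (b : G)⁻¹ * u'⁻¹) = ((b : G) * u' * (b : G)⁻¹ * u'⁻¹) * a :=
          Subgroup.mem_centralizer_iff.1 hw.2.2 a a.2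
        have hw2 := h.comm_mem_H1 a.2 hu'V1
        have hcomm := h.commV hw.2.1 hw2.2.1
        simp only [Subgroup.coe_mul]
        calc (a : G) * b * u' * ((a : G) * b)⁻¹ * u'⁻¹
            = ((a : G) * ((b : G) * u' * (b : G)⁻¹ * u'⁻¹)) * u' * (a : G)⁻¹ * u'⁻¹ := by group
          _ = (((b : G) * u' * (b : G)⁻¹ * u'⁻¹) * a) * u' * (a : G)⁻¹ * u'⁻¹ := by rw [hwa]
          _ = ((b : G) * u' * (b : G)⁻¹ * u'⁻¹) * ((a : G) * u' * (a : G)⁻¹ * u'⁻¹) := by group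
          _ = ((a : G) * u' * (a : G)⁻¹ * u'⁻¹) * ((b : G) * u' * (b : G)⁻¹ * u'⁻¹) := hcomm }
  have hφ : ∀ a : ↥A, φ a = (a : G) * u' * (a : G)⁻¹ * u'⁻¹ := fun a => rfl
  have hrange : φ.range ≤ 𝐕₁ ⊓ 𝐔 := by
    rintro _ ⟨a, rfl⟩
    rw [hφ]
    exact h.comm_mem_H1 a.2 hu'V1
  have hBC : φ.range ⊓ 𝐂 = ⊥ := by
    rw [eq_bot_iff]
    rintro w ⟨⟨a, rfl⟩, hwC⟩
    rw [Subgroup.mem_bot]
    rw [hφ] at hwC ⊢
    have hcent := hker a a.2 hwC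
    have := Subgroup.mem_centralizer_iff.1 hcent u' hu'V1
    rw [← this]
    group
  have hkercard : Nat.card φ.ker ≤
      Nat.card (A ⊓ Subgroup.centralizer ((𝐕₁ : Subgroup G) : Set G) : Subgroup G) := by
    refine Nat.card_le_card_of_injective
      (fun k => ⟨(k : ↥A), Subgroup.mem_inf.2 ⟨(k : ↥A).2, hker _ (k : ↥A).2 ?_⟩⟩) ?_
    · have := k.2
      rw [MonoidHom.mem_ker, hφ] at this
      rw [this]
      exact Subgroup.one_mem _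
    · intro k k' hkk
      simp only [Subtype.mk.injEq] at hkk
      exact Subtype.ext (Subtype.ext hkk)
  have h1 : Nat.card φ.ker * Nat.card φ.range = Nat.card ↥A := by
    rw [← Subgroup.index_ker]
    exact Subgroup.card_mul_index φ.ker
  have h2 : Nat.card φ.range * Nat.card 𝐂 ≤ Nat.card (𝐕₁ ⊓ 𝐔 : Subgroup G) := by
    have := card_mul_card_le_card_inf_mul_card_sup φ.range 𝐂
    rw [hBC, Subgroup.card_bot, one_mul] at this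
    refine this.trans (Subgroup.card_le_of_le (sup_le hrange ?_))
    exact le_inf h.C_le_V1 h.C_le_U
  calc Nat.card A * Nat.card 𝐂 = Nat.card φ.ker * (Nat.card φ.range * Nat.card 𝐂) := by
        rw [← h1, mul_assoc]
    _ ≤ Nat.card (A ⊓ Subgroup.centralizer ((𝐕₁ : Subgroup G) : Set G) : Subgroup G) *
          Nat.card (𝐕₁ ⊓ 𝐔 : Subgroup G) := Nat.mul_le_mul hkercard h2

/-- `U ∩ U^x ≤ C` as subgroups -/
theorem inf_map_le (x : ↥P) (hx : x ∉ M) {H : Subgroup G} (hH : H ≤ 𝐔) : H ⊓ H.map (cj (x : G)) ≤ 𝐂 := by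
  intro w hw
  have h2 : w ∈ H.map (cj (x : G)) := (Subgroup.mem_inf.1 hw).2
  rw [mem_map_cj] at h2
  exact h.inter x hx (hH (Subgroup.mem_inf.1 hw).1) (hH h2)

theorem map_V1_le (x : ↥P) {H : Subgroup G} (hH : H ≤ 𝐕₁) : H.map (cj (x : G)) ≤ 𝐕₁ := by
  intro w hw
  rw [mem_map_cj] at hw
  have := h.V1_conj x.2 (hH hw)
  simpa [mul_assoc] using this

/-- **F7**: `C_A(V₁) = 1`. -/
theorem A1_eq_bot : A ⊓ Subgroup.centralizer ((𝐕₁ : Subgroup G) : Set G) = ⊥ := by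
  by_contra hne
  obtain ⟨x, hx⟩ := h.exists_x
  obtain ⟨A1, hA1⟩ : ∃ A1 : Subgroup G, A1 = A ⊓ Subgroup.centralizer ((𝐕₁ : Subgroup G) : Set G) := ⟨_, rfl⟩
  rw [← hA1] at hne
  have hA1A : A1 ≤ A := hA1 ▸ inf_le_left
  have hA1c : A1 ≤ Subgroup.centralizer ((𝐕₁ : Subgroup G) : Set G) := hA1 ▸ inf_le_right
  have hneA : A1 ≠ A := by
    intro heq
    rw [heq] at hA1c
    obtain ⟨z, hz, hzC⟩ := h.exists_z
    apply hzC
    refine Subgroup.mem_inf.2 ⟨hz.1, ?_⟩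
    have hle : A ⊔ A.map (MulAut.conj (x : G)).toMonoidHom ≤
        Subgroup.centralizer ((𝐕₁ : Subgroup G) : Set G) := by
      apply sup_le hA1c
      rintro _ ⟨a, ha, rfl⟩
      rw [Subgroup.mem_centralizer_iff]
      intro w hw
      have hw' := h.V1_conj' x.2 hw
      have := Subgroup.mem_centralizer_iff.1 (hA1c ha) _ hw'
      simp only [MulEquiv.coe_toMonoidHom, MulAut.conj_apply]
      calc w * ((x : G) * a * (x : G)⁻¹) = x * (((x : G)⁻¹ * w * x) * a) * (x : G)⁻¹ := by group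
        _ = x * (a * ((x : G)⁻¹ * w * x)) * (x : G)⁻¹ := by rw [this]
        _ = (x : G) * a * (x : G)⁻¹ * w := by group
    rw [h.hiii x hx] at hle
    rw [Subgroup.mem_centralizer_iff]
    intro g hg
    exact (Subgroup.mem_centralizer_iff.1 (hle hg) z (h.Z_le_V1 hz)).symm
  have n4 := h.hi.2 A1 hA1A hne hneA
  have n5 := h.count_le
  rw [← hA1] at n5
  have n1 : Nat.card (𝐕₁ ⊓ 𝐔 : Subgroup G) * Nat.card (𝐕₁ ⊓ 𝐔 : Subgroup G) ≤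
      Nat.card 𝐂 * Nat.card 𝐕₁ := by
    have := card_mul_card_le_card_inf_mul_card_sup (𝐕₁ ⊓ 𝐔) ((𝐕₁ ⊓ 𝐔).map (cj (x : G)))
    rw [card_map_cj] at this
    refine this.trans (Nat.mul_le_mul (Subgroup.card_le_of_le (h.inf_map_le x hx inf_le_right))
      (Subgroup.card_le_of_le (sup_le inf_le_left (h.map_V1_le x inf_le_left))))
  have n2 := card_mul_card_le_card_inf_mul_card_sup 𝐕₁ 𝐔
  have n3 : Nat.card (𝐕₁ ⊔ 𝐔 : Subgroup G) ≤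
      Nat.card (V ⊓ Subgroup.centralizer ((A1 : Subgroup G) : Set G) : Subgroup G) := by
    apply Subgroup.card_le_of_le
    apply sup_le
    · exact le_inf h.V1_le_V (Subgroup.le_centralizer_iff.1 hA1c)
    · exact cV_anti V hA1A
  have hc : 0 < Nat.card 𝐂 := Nat.card_pos
  have hu1 : 0 < Nat.card (𝐕₁ ⊓ 𝐔 : Subgroup G) := Nat.card_pos
  obtain ⟨a, ha⟩ : ∃ a : ℕ, a = Nat.card A := ⟨_, rfl⟩
  obtain ⟨a1, ha1⟩ : ∃ a : ℕ, a = Nat.card A1 := ⟨_, rfl⟩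
  obtain ⟨c, hcd⟩ : ∃ a : ℕ, a = Nat.card 𝐂 := ⟨_, rfl⟩
  obtain ⟨u, hu⟩ : ∃ a : ℕ, a = Nat.card 𝐔 := ⟨_, rfl⟩
  obtain ⟨u1, hu1d⟩ : ∃ a : ℕ, a = Nat.card (𝐕₁ ⊓ 𝐔 : Subgroup G) := ⟨_, rfl⟩
  obtain ⟨v1, hv1⟩ : ∃ a : ℕ, a = Nat.card 𝐕₁ := ⟨_, rfl⟩
  obtain ⟨k, hk⟩ : ∃ a : ℕ, a = Nat.card (V ⊓ Subgroup.centralizer ((A1 : Subgroup G) : Set G) : Subgroup G) :=
    ⟨_, rfl⟩
  obtain ⟨k', hk'⟩ : ∃ a : ℕ, a = Nat.card (𝐕₁ ⊔ 𝐔 : Subgroup G) := ⟨_, rfl⟩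
  rw [← ha, ← ha1, ← hu, ← hk] at n4
  rw [← ha, ← ha1, ← hcd, ← hu1d] at n5
  rw [← hu1d, ← hcd, ← hv1] at n1
  rw [← hv1, ← hu, ← hu1d, ← hk'] at n2
  rw [← hk', ← hk] at n3
  rw [← hcd] at hc
  rw [← hu1d] at hu1
  have s1 : a * c * (u1 * u) ≤ a1 * u1 * (u1 * u) := Nat.mul_le_mul_right _ n5
  have s2 : (u1 * u1) * (a1 * u) ≤ (c * v1) * (a1 * u) := Nat.mul_le_mul_right _ n1
  have s3 : (v1 * u) * (c * a1) ≤ (u1 * k') * (c * a1) := Nat.mul_le_mul_right _ n2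
  have s4 : (u1 * k') * (c * a1) ≤ (u1 * k) * (c * a1) :=
    Nat.mul_le_mul_right _ (Nat.mul_le_mul_left _ n3)
  have s5 : (a1 * k) * (c * u1) < (a * u) * (c * u1) :=
    Nat.mul_lt_mul_of_pos_right n4 (Nat.mul_pos hc hu1)
  have t1 : a1 * u1 * (u1 * u) = (u1 * u1) * (a1 * u) := by ring
  have t2 : (c * v1) * (a1 * u) = (v1 * u) * (c * a1) := by ring
  have t3 : (u1 * k) * (c * a1) = (a1 * k) * (c * u1) := by ring
  have t4 : (a * u) * (c * u1) = a * c * (u1 * u) := by ring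
  omega

theorem map_U_le_V (y : ↥P) : (𝐔).map (cj (y : G)) ≤ V := by
  intro w hw
  rw [mem_map_cj] at hw
  have := h.conjV y.2 hw.1
  simpa [mul_assoc] using this

/-- `|U|² ≤ |C| |U ⊔ U^y|` -/
theorem sq_le (y : ↥P) (hy : y ∉ M) :
    Nat.card 𝐔 * Nat.card 𝐔 ≤ Nat.card 𝐂 * Nat.card (𝐔 ⊔ (𝐔).map (cj (y : G)) : Subgroup G) := by
  have := card_mul_card_le_card_inf_mul_card_sup 𝐔 ((𝐔).map (cj (y : G)))
  rw [card_map_cj] at this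
  exact this.trans (Nat.mul_le_mul_right _ (Subgroup.card_le_of_le (h.inf_map_le y hy le_rfl)))

/-- `|A| |C| = |U| = |V₁ ∩ U|`. -/
theorem card_U : Nat.card A * Nat.card 𝐂 = Nat.card 𝐔 ∧ Nat.card 𝐔 ≤ Nat.card (𝐕₁ ⊓ 𝐔 : Subgroup G) := by
  obtain ⟨x, hx⟩ := h.exists_x
  have n5 := h.count_le
  rw [h.A1_eq_bot, Subgroup.card_bot, one_mul] at n5
  have n6 : Nat.card (𝐕₁ ⊓ 𝐔 : Subgroup G) ≤ Nat.card 𝐔 := Subgroup.card_le_of_le inf_le_right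
  have n7 := h.hi.1
  have n8 := h.sq_le x hx
  have n9 : Nat.card (𝐔 ⊔ (𝐔).map (cj (x : G)) : Subgroup G) ≤ Nat.card V :=
    Subgroup.card_le_of_le (sup_le inf_le_left (h.map_U_le_V x))
  have hu : 0 < Nat.card 𝐔 := Nat.card_pos
  have n10 : Nat.card 𝐔 * Nat.card 𝐔 ≤ (Nat.card A * Nat.card 𝐂) * Nat.card 𝐔 := by
    calc Nat.card 𝐔 * Nat.card 𝐔 ≤ Nat.card 𝐂 * Nat.card V := n8.trans (Nat.mul_le_mul_left _ n9)
      _ ≤ Nat.card 𝐂 * (Nat.card A * Nat.card 𝐔) := Nat.mul_le_mul_left _ n7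
      _ = (Nat.card A * Nat.card 𝐂) * Nat.card 𝐔 := by ring
  have n11 : Nat.card 𝐔 ≤ Nat.card A * Nat.card 𝐂 := Nat.le_of_mul_le_mul_right n10 hu
  constructor
  · exact le_antisymm (n5.trans n6) n11
  · exact n11.trans n5

theorem U_le_V1 : 𝐔 ≤ 𝐕₁ := by
  have := Subgroup.eq_of_le_of_card_ge (inf_le_right : (𝐕₁ ⊓ 𝐔 : Subgroup G) ≤ 𝐔) h.card_U.2
  rw [← this]
  exact inf_le_left

theorem sup_eq (y : ↥P) (hy : y ∉ M) : 𝐔 ⊔ (𝐔).map (cj (y : G)) = V := by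
  apply Subgroup.eq_of_le_of_card_ge (sup_le inf_le_left (h.map_U_le_V y))
  have n7 := h.hi.1
  have n8 := h.sq_le y hy
  have hc : 0 < Nat.card 𝐂 := Nat.card_pos
  have n12 : Nat.card 𝐂 * Nat.card V ≤ Nat.card 𝐂 * Nat.card (𝐔 ⊔ (𝐔).map (cj (y : G)) : Subgroup G) := by
    calc Nat.card 𝐂 * Nat.card V ≤ Nat.card 𝐂 * (Nat.card A * Nat.card 𝐔) := Nat.mul_le_mul_left _ n7
      _ = (Nat.card A * Nat.card 𝐂) * Nat.card 𝐔 := by ring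
      _ = Nat.card 𝐔 * Nat.card 𝐔 := by rw [h.card_U.1]
      _ ≤ _ := n8
  exact Nat.le_of_mul_le_mul_left n12 hc

theorem inf_eq (y : ↥P) (hy : y ∉ M) : 𝐔 ⊓ (𝐔).map (cj (y : G)) = 𝐂 := by
  apply le_antisymm (h.inf_map_le y hy le_rfl)
  apply le_inf h.C_le_U
  intro c hc
  rw [mem_map_cj]
  have := h.C_conj hc (P.inv_mem y.2)
  rw [inv_inv] at this
  rw [this]
  exact h.C_le_U hc

theorem V_le_V1 : V ≤ 𝐕₁ := by
  obtain ⟨x, hx⟩ := h.exists_x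
  have h1 : 𝐔 ⊔ (𝐔).map (cj (x : G)) ≤ 𝐕₁ := sup_le h.U_le_V1 (h.map_V1_le x h.U_le_V1)
  exact (h.sup_eq x hx).ge.trans h1

theorem fpf {a : G} (ha : a ∈ A) (ha1 : a ≠ 1) {v : G} (hv : v ∈ V) (hc : a * v * a⁻¹ * v⁻¹ ∈ 𝐂) :
    v ∈ Subgroup.centralizer (A : Set G) := by
  have haV : a ∉ Subgroup.centralizer ((𝐕₁ : Subgroup G) : Set G) := by
    intro hcon
    have : a ∈ A ⊓ Subgroup.centralizer ((𝐕₁ : Subgroup G) : Set G) := Subgroup.mem_inf.2 ⟨ha, hcon⟩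
    rw [h.A1_eq_bot, Subgroup.mem_bot] at this
    exact ha1 this
  exact (h.fpf_V1 ha haV (h.V_le_V1 hv) hc).2

theorem faithful {g : G} (hg : g ∈ P) (hgV : ∀ v ∈ V, g * v * g⁻¹ * v⁻¹ ∈ 𝐂) : g = 1 :=
  eq_one_of_centralizes_quotient_of_gen V P h.hV h.hPV h.hfaith T
    (fun _ hW => h.V_le_V1.trans (h.V1_le_of hW)) g hg hgV

end Hyp

/-- **[TIGHT]** for S2999 (exact interface of helper11, board #3746). -/
theorem tight {G : Type*} [Group G] [Finite G] {p : ℕ} [Fact p.Prime] (V P : Subgroup G)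
    (hV : Cfsg.IsElementaryAbelian p V) (hPV : P ≤ Subgroup.normalizer (V : Set G))
    (hfaith : P ⊓ Subgroup.centralizer (V : Set G) = ⊥) (hmin : Cfsg.IsPMinimal p ↥P) (T : Sylow p ↥P)
    (M : Subgroup ↥P) (hM : IsCoatom M) (hTM : (T : Subgroup ↥P) ≤ M) (A : Subgroup G)
    (hAT : A ≤ ((T : Subgroup ↥P).map P.subtype)) (hAel : Cfsg.IsElementaryAbelian p A)
    (hi : Nat.card ↥V ≤ Nat.card ↥A * Nat.card ↥(V ⊓ Subgroup.centralizer ((A : Subgroup G) : Set G)) ∧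
      ∀ A₀ : Subgroup G, A₀ ≤ A → A₀ ≠ ⊥ → A₀ ≠ A →
        Nat.card ↥A₀ * Nat.card ↥(V ⊓ Subgroup.centralizer ((A₀ : Subgroup G) : Set G)) <
          Nat.card ↥A * Nat.card ↥(V ⊓ Subgroup.centralizer ((A : Subgroup G) : Set G)))
    (hii : ⁅(V ⊓ Subgroup.centralizer ((((T : Subgroup ↥P).map P.subtype) : Subgroup G) : Set G)), P⁆ ≠ ⊥)
    (hiii : ∀ x : ↥P, x ∉ M → A ⊔ A.map (MulAut.conj (x : G)).toMonoidHom = P) :
    ⁅V, A⁆ ≤ Subgroup.centralizer (A : Set G) ∧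
    (∀ y : ↥P, y ∉ M →
      (V ⊓ Subgroup.centralizer (A : Set G)) ⊔
          (V ⊓ Subgroup.centralizer (A : Set G)).map (MulAut.conj (y : G)).toMonoidHom = V ∧
        (V ⊓ Subgroup.centralizer (A : Set G)) ⊓
          (V ⊓ Subgroup.centralizer (A : Set G)).map (MulAut.conj (y : G)).toMonoidHom =
            V ⊓ Subgroup.centralizer (P : Set G)) ∧
    (∀ a ∈ A, a ≠ 1 → ∀ v ∈ V, a * v * a⁻¹ * v⁻¹ ∈ V ⊓ Subgroup.centralizer (P : Set G) →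
      v ∈ Subgroup.centralizer (A : Set G)) ∧
    Nat.card ↥A * Nat.card ↥(V ⊓ Subgroup.centralizer (P : Set G)) =
      Nat.card ↥(V ⊓ Subgroup.centralizer (A : Set G)) ∧
    (∀ g ∈ P, (∀ v ∈ V, g * v * g⁻¹ * v⁻¹ ∈ V ⊓ Subgroup.centralizer (P : Set G)) → g = 1) := by
  have h : Hyp p V P T M A := ⟨hV, hPV, hfaith, hmin, hM, hTM, hAT, hAel, hi, hii, hiii⟩
  refine ⟨?_, fun y hy => ⟨h.sup_eq y hy, h.inf_eq y hy⟩, fun a ha ha1 v hv hc => h.fpf ha ha1 hv hc,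
    h.card_U.1, fun g hg hgV => h.faithful hg hgV⟩
  have hq := quadratic_of_strict_offender V A hV (h.A_le_P.trans hPV) hAel hi
  rwa [Subgroup.commutator_eq_bot_iff_le_centralizer] at hq

end Cfsg.Agent.Lib.Helper50.SL2Lemma
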