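/-
helper50: S2286 (helper53's sheet `notes/helper53_S2286_modules.lean.txt`), module [CLOS3] `comm_of_three` (hedge):
the closure lemma of the even case.
-/
import Mathlib
import Cfsg.Agent.Lib.Helper53.SL2Pres.Defs

set_option autoImplicit false

namespace Cfsg.Agent.Lib.Helper50.SL2Pres

open Cfsg.Agent.Lib.Helper53 Cfsg.Agent.Lib.Helper53.Steinberg Cfsg.Agent.Lib.Helper53.SL2Pres

variable {G : Type*} [Group G] {K : Type*} [Field K]

/-- S2286-[CLOS3]: closure lemma, even case. -/
theorem comm_of_three (h u : G) (k : ℕ) (hu : u * u = 1)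
    (rel : uc h u k = u * uc h u 1) :
    ∀ i j : ℕ, Commute (uc h u i) (uc h u j) := by
  set v : ℤ → G := fun z => h ^ z * u * (h ^ z)⁻¹ with hv
  have v_nat : ∀ i : ℕ, v (i : ℤ) = uc h u i := fun i => by simp [hv, uc]
  have v0 : v 0 = u := by simp [hv]
  have v1 : v 1 = uc h u 1 := by simpa using v_nat 1
  have v_add : ∀ a d : ℤ, v (a + d) = h ^ d * v a * (h ^ d)⁻¹ := by
    intro a d
    simp only [hv, zpow_add]
    group
  have v_sq : ∀ z : ℤ, v z * v z = 1 := by
    intro z
    simp only [hv]
    calc h ^ z * u * (h ^ z)⁻¹ * (h ^ z * u * (h ^ z)⁻¹) = h ^ z * (u * u) * (h ^ z)⁻¹ := by group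
      _ = 1 := by rw [hu]; group
  have shift : ∀ a b d : ℤ, Commute (v (a + d)) (v (b + d)) ↔ Commute (v a) (v b) := by
    intro a b d
    rw [v_add, v_add]
    exact Commute.conj_iff _
  have relz : ∀ d : ℤ, v (d + k) = v d * v (d + 1) := by
    intro d
    have h0 : v (k : ℤ) = v 0 * v 1 := by rw [v_nat, v0, v1]; exact rel
    have e1 : v (d + k) = h ^ d * v (k : ℤ) * (h ^ d)⁻¹ := by rw [add_comm]; exact v_add _ _
    have e2 : v d = h ^ d * v 0 * (h ^ d)⁻¹ := by rw [← v_add, zero_add]
    have e3 : v (d + 1) = h ^ d * v 1 * (h ^ d)⁻¹ := by rw [add_comm]; exact v_add _ _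
    rw [e1, e2, e3, h0]
    group
  -- the relation `D m : v 0` commutes with `v m`
  have hC : ∀ a b : ℤ, Commute (v a) (v b) ↔ Commute (v 0) (v (b - a)) := by
    intro a b
    have := shift 0 (b - a) a
    rw [zero_add, sub_add_cancel] at this
    exact this
  have Dneg : ∀ m : ℤ, Commute (v 0) (v m) → Commute (v 0) (v (-m)) := by
    intro m hm
    have := (hC m 0).1 hm.symm
    rwa [zero_sub] at this
  -- the three rules
  have tA : ∀ d j : ℤ, Commute (v d) (v j) → Commute (v (d + 1)) (v j) → Commute (v (d + k)) (v j) := by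
    intro d j h1 h2
    rw [relz]
    exact h1.mul_left h2
  have tB : ∀ d j : ℤ, Commute (v (d + k)) (v j) → Commute (v (d + 1)) (v j) → Commute (v d) (v j) := by
    intro d j h1 h2
    have e : v d = v (d + k) * v (d + 1) := by
      rw [relz, mul_assoc, v_sq, mul_one]
    rw [e]
    exact h1.mul_left h2
  have tD : ∀ d j : ℤ, Commute (v d) (v j) → Commute (v (d + k)) (v j) → Commute (v (d + 1)) (v j) := by
    intro d j h1 h2
    have e : v (d + 1) = v d * v (d + k) := by
      rw [relz, ← mul_assoc, v_sq, one_mul]
    rw [e]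
    exact h1.mul_left h2
  -- `D 1`
  have D1 : Commute (v 0) (v 1) := by
    have hk : (v 0 * v 1) * (v 0 * v 1) = 1 := by
      have := v_sq (0 + k)
      rwa [relz, zero_add] at this
    have h00 := v_sq 0
    have h11 := v_sq 1
    show v 0 * v 1 = v 1 * v 0
    have e1 : v 0 * v 1 = (v 0 * v 1)⁻¹ := eq_inv_of_mul_eq_one_left hk
    have e2 : (v 0)⁻¹ = v 0 := inv_eq_of_mul_eq_one_left h00
    have e3 : (v 1)⁻¹ = v 1 := inv_eq_of_mul_eq_one_left h11
    rw [e1, mul_inv_rev, e2, e3]
  -- the induction
  have P : ∀ m : ℕ, (∀ i : ℕ, i ≤ m + 1 → Commute (v 0) (v (i : ℤ))) ∧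
      (∀ i : ℕ, i ≤ m + 1 → Commute (v 0) (v ((k : ℤ) - i))) := by
    intro m
    induction m with
    | zero =>
      have hk0 : Commute (v 0) (v (k : ℤ)) := by
        have := tA 0 0 (Commute.refl _) (by rw [zero_add]; exact D1.symm)
        rw [zero_add] at this
        exact this.symm
      have hk1 : Commute (v 0) (v ((k : ℤ) - 1)) := by
        have := tA 0 1 D1 (by rw [zero_add])
        rw [zero_add] at this
        exact (hC 1 k).1 this.symm
      constructor
      · intro i hi
        interval_cases i
        · exact Commute.refl _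
        · exact_mod_cast D1
      · intro i hi
        interval_cases i
        · simpa using hk0
        · exact_mod_cast hk1
    | succ m ih =>
      obtain ⟨ih1, ih2⟩ := ih
      -- new1 : D (k - (m+2))
      have new1 : Commute (v 0) (v ((k : ℤ) - ((m + 2 : ℕ) : ℤ))) := by
        have a1 : Commute (v 0) (v ((k : ℤ) - ((m + 1 : ℕ) : ℤ))) := ih2 (m + 1) le_rfl
        have a2 : Commute (v (0 + (k : ℤ))) (v ((k : ℤ) - ((m + 1 : ℕ) : ℤ))) := by
          rw [hC, zero_add]
          have := Dneg _ (ih1 (m + 1) le_rfl)
          convert this using 2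
          ring
        have := tD 0 _ a1 a2
        rw [zero_add, hC] at this
        convert this using 2
        push_cast
        ring
      have new2 : Commute (v 0) (v ((m + 2 : ℕ) : ℤ)) := by
        have b1 : Commute (v (0 + (k : ℤ))) (v ((m + 2 : ℕ) : ℤ)) := by
          rw [hC, zero_add]
          have := Dneg _ new1
          convert this using 2
          ring
        have b2 : Commute (v (0 + 1)) (v ((m + 2 : ℕ) : ℤ)) := by
          rw [hC, zero_add]
          have := ih1 (m + 1) le_rfl
          convert this using 2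
          push_cast
          ring
        exact tB 0 _ b1 b2
      constructor
      · intro i hi
        rcases Nat.lt_or_ge i (m + 2) with h | h
        · exact ih1 i (by omega)
        · have : i = m + 2 := by omega
          subst this
          exact new2
      · intro i hi
        rcases Nat.lt_or_ge i (m + 2) with h | h
        · exact ih2 i (by omega)
        · have : i = m + 2 := by omega
          subst this
          exact new1
  have Dall : ∀ m : ℕ, Commute (v 0) (v (m : ℤ)) := fun m => (P m).1 m (by omega)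
  intro i j
  rw [← v_nat, ← v_nat, hC]
  rcases le_total i j with hij | hij
  · have := Dall (j - i)
    rwa [Nat.cast_sub hij] at this
  · have := Dneg _ (Dall (i - j))
    rwa [Nat.cast_sub hij, neg_sub] at this

end Cfsg.Agent.Lib.Helper50.SL2Pres
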