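/-
helper50: S2286 (helper53's sheet `notes/helper53_S2286_modules.lean.txt`), module [T1-EVEN] `core_of_relsEven` (hedge):
the relators of the even presentation give `Core`.
-/
import Mathlib
import Cfsg.Agent.Lib.Helper53.SL2Pres.Defs
import Cfsg.Agent.Lib.Helper47.SL2PresComm1
import Cfsg.Agent.Lib.Helper50.SL2PresClos3

set_option autoImplicit false

namespace Cfsg.Agent.Lib.Helper50.SL2Pres

open Cfsg.Agent.Lib.Helper53 Cfsg.Agent.Lib.Helper53.Steinberg Cfsg.Agent.Lib.Helper53.SL2Pres

variable {G : Type*} [Group G] {K : Type*} [Field K]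

/-- a product of pairwise commuting involutions squares to `1` -/
theorem list_prod_mul_self (l : List G) (h1 : ∀ x ∈ l, x * x = 1)
    (h2 : ∀ x ∈ l, ∀ y ∈ l, Commute x y) : l.prod * l.prod = 1 := by
  induction l with
  | nil => simp
  | cons a l ih =>
    have ha : a * a = 1 := h1 a (List.mem_cons_self)
    have hc : Commute a l.prod :=
      Commute.list_prod_right l a (fun x hx => h2 a (List.mem_cons_self) x (List.mem_cons_of_mem _ hx))
    have ih' := ih (fun x hx => h1 x (List.mem_cons_of_mem _ hx))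
      (fun x hx y hy => h2 x (List.mem_cons_of_mem _ hx) y (List.mem_cons_of_mem _ hy))
    rw [List.prod_cons]
    calc a * l.prod * (a * l.prod) = a * (l.prod * a) * l.prod := by group
      _ = a * (a * l.prod) * l.prod := by rw [hc.eq]
      _ = (a * a) * (l.prod * l.prod) := by group
      _ = 1 := by rw [ha, ih', one_mul]

/-- for `e = 1` the product `pp h u b` is a power of `u` -/
theorem pp_eq_pow_of_eq_one (h u : G) (e : ℕ) (b : Fin e → ℕ) (he : e = 1) : ∃ n : ℕ, pp h u b = u ^ n := by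
  subst he
  exact ⟨b 0, by simp [pp, uc_zero]⟩

/-- `y = (x y) x (x y)⁻¹` when `x y x = y x y` -/
theorem eq_conj_of_braid (x y : G) (hb : x * y * x = y * x * y) : y = (x * y) * x * (x * y)⁻¹ := by
  rw [hb]
  group

theorem mul_self_of_braid (x y : G) (hx : x * x = 1) (hb : x * y * x = y * x * y) : y * y = 1 := by
  have e := eq_conj_of_braid x y hb
  calc y * y = ((x * y) * x * (x * y)⁻¹) * ((x * y) * x * (x * y)⁻¹) := by rw [← e]
    _ = (x * y) * (x * x) * (x * y)⁻¹ := by group
    _ = 1 := by rw [hx]; group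

/-- S2286-[T1-EVEN] -/
theorem core_of_relsEven (D : FieldData K) (hp : D.p = 2) {u t s : G}
    (h : AllOne (relsEven D u t s)) : Core D u t s := by
  set hh : G := s * t⁻¹ with hhh
  set Xl : G := pp hh u D.c with hXl
  -- the single relators
  have r1 : u * u = 1 := h _ (by simp [relsEven])
  have r2 : u * t * u * (t * u * t)⁻¹ = 1 := h _ (by simp [relsEven])
  have r3 : Xl * s * Xl * (s * Xl * s)⁻¹ = 1 := h _ (by simp [relsEven, hXl, hhh])
  have r4 : uc hh u D.e * (pp hh u D.b)⁻¹ = 1 := h _ (by simp [relsEven, hhh])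
  have b2 : u * t * u = t * u * t := mul_inv_eq_one.1 r2
  have b3 : Xl * s * Xl = s * Xl * s := mul_inv_eq_one.1 r3
  have hpoly : uc hh u D.e = pp hh u D.b := mul_inv_eq_one.1 r4
  have ht : t * t = 1 := mul_self_of_braid u t r1 b2
  have htinv : t⁻¹ = t := inv_eq_of_mul_eq_one_left ht
  have huinv : u⁻¹ = u := inv_eq_of_mul_eq_one_left r1
  -- commutation of the conjugates
  have hcomm : ∀ i j : ℕ, Commute (uc hh u i) (uc hh u j) := by
    by_cases he2 : 2 ≤ D.e
    · have r5 : u * uc hh u 1 * (uc hh u D.k)⁻¹ = 1 := h _ (by simp [relsEven, he2, hhh])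
      exact comm_of_three hh u D.k r1 (mul_inv_eq_one.1 r5).symm
    · have he1 : D.e = 1 := by have := D.he; omega
      obtain ⟨n, hn⟩ := pp_eq_pow_of_eq_one hh u D.e D.b he1
      have : uc hh u 1 = u ^ n := by rw [← hn, ← hpoly, he1]
      exact Cfsg.Agent.Lib.Helper47.SL2Pres.comm_of_cyclic hh u n this
  -- `Xl` is an involution
  have hucsq : ∀ i : ℕ, uc hh u i * uc hh u i = 1 := by
    intro i
    simp only [uc]
    calc hh ^ i * u * (hh ^ i)⁻¹ * (hh ^ i * u * (hh ^ i)⁻¹) = hh ^ i * (u * u) * (hh ^ i)⁻¹ := by group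
      _ = 1 := by rw [r1]; group
  have hXl2 : Xl * Xl = 1 := by
    rw [hXl]
    unfold pp
    apply list_prod_mul_self
    · intro x hx
      obtain ⟨i, rfl⟩ := (List.mem_ofFn' _ _).1 hx
      rw [← (Commute.refl (uc hh u i)).mul_pow, hucsq, one_pow]
    · intro x hx y hy
      obtain ⟨i, rfl⟩ := (List.mem_ofFn' _ _).1 hx
      obtain ⟨j, rfl⟩ := (List.mem_ofFn' _ _).1 hy
      exact (hcomm i j).pow_pow _ _
  have hs : s * s = 1 := mul_self_of_braid Xl s hXl2 b3
  have hsinv : s⁻¹ = s := inv_eq_of_mul_eq_one_left hs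
  refine ⟨?_, hcomm, hpoly, ?_, ?_, ?_, ?_⟩
  · rw [hp, pow_two]; exact r1
  · -- u (t u t⁻¹) u = t
    rw [htinv]
    calc u * (t * u * t) * u = (u * t * u) * t * u := by group
      _ = (t * u * t) * t * u := by rw [b2]
      _ = t * u * (t * t) * u := by group
      _ = t * (u * u) := by rw [ht]; group
      _ = t := by rw [r1, mul_one]
  · rw [ht, one_mul, mul_one]
  · rw [hs, ht]
  · show Xl * (s * Xl * s⁻¹) * Xl = s
    rw [hsinv]
    calc Xl * (s * Xl * s) * Xl = (Xl * s * Xl) * s * Xl := by group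
      _ = (s * Xl * s) * s * Xl := by rw [b3]
      _ = s * Xl * (s * s) * Xl := by group
      _ = s * (Xl * Xl) := by rw [hs]; group
      _ = s := by rw [hXl2, mul_one]

end Cfsg.Agent.Lib.Helper50.SL2Pres
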