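/-
helper50: project S4538 (helper82), module S4538-[RAD]: a `p`-regular element of `SL_n(q)` centralizing a non-trivial
radical `p`-subgroup is central.
-/
import Mathlib
import Cfsg.Prelude.Def_Solvable

set_option autoImplicit false
set_option linter.unusedSectionVars false
set_option linter.style.haveILetI false

namespace Cfsg.Agent.Lib.Helper50.SLDZ

open Cfsg Matrix

/-! ### Part A: a `p`-subgroup normalized by `N(Q)` lies in the radical `p`-subgroup `Q` -/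

theorem le_of_radical {G : Type*} [Group G] [Finite G] (p : ℕ) [Fact p.Prime] (Q R : Subgroup G)
    (hQ : IsPGroup p Q) (hR : IsPGroup p R)
    (hrad : (Cfsg.pCore p (Subgroup.normalizer (Q : Set G))).map
      (Subgroup.normalizer (Q : Set G)).subtype = Q)
    (hnorm : Subgroup.normalizer (Q : Set G) ≤ Subgroup.normalizer (R : Set G)) : R ≤ Q := by
  set N := Subgroup.normalizer (Q : Set G) with hN
  have hQN : Q ≤ N := Subgroup.le_normalizer
  have hP : IsPGroup p (Q ⊔ R : Subgroup G) := hQ.to_sup_of_normal_right' hR (hQN.trans hnorm)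
  -- `N` normalizes `Q ⊔ R`
  have hNP : N ≤ Subgroup.normalizer ((Q ⊔ R : Subgroup G) : Set G) := by
    intro g hg
    rw [Subgroup.mem_normalizer_iff_map_conj_eq, Subgroup.map_sup,
      Subgroup.mem_normalizer_iff_map_conj_eq.mp hg,
      Subgroup.mem_normalizer_iff_map_conj_eq.mp (hnorm hg)]
  -- `D = (Q ⊔ R) ⊓ N ≤ Q`
  have hD : (Q ⊔ R) ⊓ N ≤ Q := by
    have hDN : (Q ⊔ R) ⊓ N ≤ N := inf_le_right
    have hK1 : (((Q ⊔ R) ⊓ N).subgroupOf N).Normal := by
      rw [Subgroup.normal_subgroupOf_iff_le_normalizer hDN]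
      intro g hg
      rw [Subgroup.mem_normalizer_iff_map_conj_eq, Subgroup.map_inf_eq _ _ _ (MulAut.conj g).injective]
      · rw [Subgroup.mem_normalizer_iff_map_conj_eq.mp (hNP hg)]
        congr 1
        exact Subgroup.mem_normalizer_iff_map_conj_eq.mp (Subgroup.le_normalizer hg)
    have hK2 : IsPGroup p (((Q ⊔ R) ⊓ N).subgroupOf N) := (hP.to_le inf_le_left).comap_subtype
    have hK3 : ((Q ⊔ R) ⊓ N).subgroupOf N ≤ Cfsg.pCore p N := le_sSup ⟨hK1, hK2⟩
    have := Subgroup.map_mono (f := N.subtype) hK3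
    rwa [Subgroup.map_subgroupOf_eq_of_le hDN, hrad] at this
  -- normalizers grow in `Q ⊔ R`
  have : Group.IsNilpotent ↥(Q ⊔ R : Subgroup G) := hP.isNilpotent
  have hnc := Group.normalizerCondition_of_isNilpotent (G := ↥(Q ⊔ R : Subgroup G))
  have htop : Q.subgroupOf (Q ⊔ R) = ⊤ := by
    by_contra hne
    have hlt := hnc _ (lt_top_iff_ne_top.mpr hne)
    obtain ⟨y, hy, hyQ⟩ := SetLike.exists_of_lt hlt
    apply hyQ
    rw [← Subgroup.subgroupOf_normalizer_eq (le_sup_left : Q ≤ Q ⊔ R)] at hy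
    exact hD ⟨y.2, hy⟩
  exact le_sup_right.trans (Subgroup.subgroupOf_eq_top.mp htop)

/-! ### Part B: linear algebra -/

section linalg
variable {F : Type*} [Field F] {n : ℕ}

/-- a linear functional on `Fin n → F` is the dot product with a vector -/
theorem dual_eq_dot (f : Module.Dual F (Fin n → F)) (w : Fin n → F) :
    f w = (fun i => f (Pi.single i 1)) ⬝ᵥ w := by
  rw [LinearMap.pi_apply_eq_sum_univ f w, dotProduct]
  refine Finset.sum_congr rfl fun i _ => ?_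
  rw [smul_eq_mul, mul_comm]
  congr 2
  funext j
  rw [Pi.single_apply]
  simp only [eq_comm]

/-- a vector outside a subspace is separated from it by a dot product -/
theorem exists_dot_of_notMem (V₁ : Submodule F (Fin n → F)) (u : Fin n → F) (hu : u ∉ V₁) :
    ∃ φ : Fin n → F, φ ⬝ᵥ u ≠ 0 ∧ ∀ w ∈ V₁, φ ⬝ᵥ w = 0 := by
  obtain ⟨f, hf, hf'⟩ := Submodule.exists_dual_map_eq_bot_of_notMem hu inferInstance
  refine ⟨fun i => f (Pi.single i 1), ?_, fun w hw => ?_⟩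
  · rwa [← dual_eq_dot]
  · rw [← dual_eq_dot]
    have : f w ∈ V₁.map f := Submodule.mem_map_of_mem hw
    rw [hf'] at this
    exact (Submodule.mem_bot F).mp this

/-- a matrix commuting with the transvections attached to a proper non-zero subspace `V₁` is a scalar `c` on
`V₁` and modulo `V₁` -/
theorem exists_scalar_of_commute (V₁ : Submodule F (Fin n → F)) (hbot : V₁ ≠ ⊥) (htop : V₁ ≠ ⊤)
    (M : Matrix (Fin n) (Fin n) F)
    (hcomm : ∀ v ∈ V₁, ∀ φ : Fin n → F, (∀ w ∈ V₁, φ ⬝ᵥ w = 0) →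
      M * vecMulVec v φ = vecMulVec v φ * M) :
    ∃ c : F, (∀ v ∈ V₁, M *ᵥ v = c • v) ∧ ∀ w, M *ᵥ w - c • w ∈ V₁ := by
  obtain ⟨v₀, hv₀, hv₀0⟩ := Submodule.exists_mem_ne_zero_of_ne_bot hbot
  obtain ⟨u₀, hu₀⟩ : ∃ u₀ : Fin n → F, u₀ ∉ V₁ := by
    by_contra h
    push Not at h
    exact htop (eq_top_iff.mpr fun x _ => h x)
  obtain ⟨φ₀, hφ₀u, hφ₀⟩ := exists_dot_of_notMem V₁ u₀ hu₀
  -- the key identity
  have key : ∀ v ∈ V₁, ∀ φ : Fin n → F, (∀ w ∈ V₁, φ ⬝ᵥ w = 0) → ∀ w : Fin n → F,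
      (φ ⬝ᵥ w) • (M *ᵥ v) = (φ ⬝ᵥ (M *ᵥ w)) • v := by
    intro v hv φ hφ w
    have h : (M * vecMulVec v φ) *ᵥ w = (vecMulVec v φ * M) *ᵥ w := by rw [hcomm v hv φ hφ]
    rw [← mulVec_mulVec, ← mulVec_mulVec, vecMulVec_mulVec, vecMulVec_mulVec, op_smul_eq_smul,
      op_smul_eq_smul, mulVec_smul] at h
    exact h
  set w₀ : Fin n → F := (φ₀ ⬝ᵥ u₀)⁻¹ • u₀ with hw₀
  have hw₀1 : φ₀ ⬝ᵥ w₀ = 1 := by
    rw [hw₀, dotProduct_smul, smul_eq_mul, inv_mul_cancel₀ hφ₀u]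
  refine ⟨φ₀ ⬝ᵥ (M *ᵥ w₀), fun v hv => ?_, fun w => ?_⟩
  · have := key v hv φ₀ hφ₀ w₀
    rwa [hw₀1, one_smul] at this
  · by_contra hnot
    obtain ⟨φ, hφu, hφ⟩ := exists_dot_of_notMem V₁ _ hnot
    apply hφu
    have h1 := key v₀ hv₀ φ hφ w
    have h2 := key v₀ hv₀ φ₀ hφ₀ w₀
    rw [hw₀1, one_smul] at h2
    rw [h2, smul_smul] at h1
    have h3 : (φ ⬝ᵥ w * φ₀ ⬝ᵥ (M *ᵥ w₀) - φ ⬝ᵥ (M *ᵥ w)) • v₀ = 0 := by
      rw [sub_smul, h1, sub_self]
    rcases smul_eq_zero.mp h3 with h4 | h4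
    · rw [dotProduct_sub, dotProduct_smul, smul_eq_mul]
      linear_combination -h4
    · exact absurd h4 hv₀0

/-- powers of `c + N₀` with `N₀² = 0` -/
theorem pow_succ_of_sq_zero (M N₀ : Matrix (Fin n) (Fin n) F) (c : F)
    (hM : M = c • (1 : Matrix (Fin n) (Fin n) F) + N₀) (hN : N₀ * N₀ = 0) (k : ℕ) :
    M ^ (k + 1) = c ^ (k + 1) • (1 : Matrix (Fin n) (Fin n) F) + (((k + 1 : ℕ) : F) * c ^ k) • N₀ := by
  induction k with
  | zero => simp [hM]
  | succ k ih =>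
    rw [pow_succ, ih]
    conv_lhs => rw [hM]
    simp only [Matrix.add_mul, Matrix.mul_add, Matrix.smul_mul, Matrix.mul_smul, Matrix.one_mul, Matrix.mul_one,
      hN, smul_zero, add_zero]
    push_cast
    module

/-- a matrix of finite order prime to the characteristic which is `c` on `V₁ ≠ 0` and modulo `V₁` is the
scalar `c` -/
theorem eq_scalar_of_pow_eq_one (V₁ : Submodule F (Fin n → F)) (hbot : V₁ ≠ ⊥)
    (M : Matrix (Fin n) (Fin n) F) (c : F) (h1 : ∀ v ∈ V₁, M *ᵥ v = c • v)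
    (h2 : ∀ w, M *ᵥ w - c • w ∈ V₁) (k : ℕ) (hk : 0 < k) (hkF : (k : F) ≠ 0) (hMk : M ^ k = 1) :
    M = c • (1 : Matrix (Fin n) (Fin n) F) := by
  obtain ⟨v₀, hv₀, hv₀0⟩ := Submodule.exists_mem_ne_zero_of_ne_bot hbot
  set N₀ : Matrix (Fin n) (Fin n) F := M - c • (1 : Matrix (Fin n) (Fin n) F) with hN₀
  have hN₀v : ∀ w, N₀ *ᵥ w = M *ᵥ w - c • w := by
    intro w
    rw [hN₀, sub_mulVec, smul_mulVec, one_mulVec]
  have hM : M = c • (1 : Matrix (Fin n) (Fin n) F) + N₀ := by rw [hN₀]; abel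
  have hN : N₀ * N₀ = 0 := by
    rw [ext_iff_mulVec]
    intro w
    rw [← mulVec_mulVec, zero_mulVec, hN₀v (N₀ *ᵥ w), h1 _ (by rw [hN₀v]; exact h2 w), sub_self]
  obtain ⟨m, rfl⟩ : ∃ m, k = m + 1 := ⟨k - 1, by omega⟩
  have hpow := pow_succ_of_sq_zero M N₀ c hM hN m
  rw [hMk] at hpow
  have hv : (1 : Matrix (Fin n) (Fin n) F) *ᵥ v₀ =
      (c ^ (m + 1) • (1 : Matrix (Fin n) (Fin n) F) + (((m + 1 : ℕ) : F) * c ^ m) • N₀) *ᵥ v₀ := by
    rw [← hpow]
  rw [one_mulVec, add_mulVec, smul_mulVec, smul_mulVec, one_mulVec, hN₀v v₀, h1 v₀ hv₀, sub_self, smul_zero,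
    add_zero] at hv
  have hc : c ^ (m + 1) = 1 := by
    have : (c ^ (m + 1) - 1) • v₀ = 0 := by rw [sub_smul, one_smul, ← hv, sub_self]
    rcases smul_eq_zero.mp this with h | h
    · exact sub_eq_zero.mp h
    · exact absurd h hv₀0
  have hc0 : c ≠ 0 := by
    intro h0
    rw [h0, zero_pow (Nat.succ_ne_zero m)] at hc
    exact zero_ne_one hc
  rw [hc, one_smul, left_eq_add] at hpow
  rcases smul_eq_zero.mp hpow with h | h
  · exact absurd h (mul_ne_zero hkF (pow_ne_zero m hc0))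
  · rw [hM, h, add_zero]

end linalg

/-! ### Part D: the special linear group -/

section main
variable {F : Type*} [Field F] [Fintype F] {n : ℕ}

/-- the fixed space of a subgroup of `SL_n(F)` -/
def fixSpace (Q : Subgroup (Matrix.SpecialLinearGroup (Fin n) F)) : Submodule F (Fin n → F) where
  carrier := {v | ∀ g ∈ Q, (g : Matrix (Fin n) (Fin n) F) *ᵥ v = v}
  add_mem' := by
    intro a b ha hb g hg
    rw [mulVec_add, ha g hg, hb g hg]
  zero_mem' := by
    intro g _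
    rw [mulVec_zero]
  smul_mem' := by
    intro c a ha g hg
    rw [mulVec_smul, ha g hg]

theorem mem_fixSpace (Q : Subgroup (Matrix.SpecialLinearGroup (Fin n) F)) (v : Fin n → F) :
    v ∈ fixSpace Q ↔ ∀ g ∈ Q, (g : Matrix (Fin n) (Fin n) F) *ᵥ v = v := Iff.rfl

theorem inv_mulVec_mulVec (g : Matrix.SpecialLinearGroup (Fin n) F) (v : Fin n → F) :
    ((g⁻¹ : Matrix.SpecialLinearGroup (Fin n) F) : Matrix (Fin n) (Fin n) F) *ᵥ
      ((g : Matrix (Fin n) (Fin n) F) *ᵥ v) = v := by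
  rw [mulVec_mulVec, ← Matrix.SpecialLinearGroup.coe_mul, inv_mul_cancel, Matrix.SpecialLinearGroup.coe_one,
    one_mulVec]

theorem mulVec_inv_mulVec (g : Matrix.SpecialLinearGroup (Fin n) F) (v : Fin n → F) :
    (g : Matrix (Fin n) (Fin n) F) *ᵥ
      (((g⁻¹ : Matrix.SpecialLinearGroup (Fin n) F) : Matrix (Fin n) (Fin n) F) *ᵥ v) = v := by
  rw [mulVec_mulVec, ← Matrix.SpecialLinearGroup.coe_mul, mul_inv_cancel, Matrix.SpecialLinearGroup.coe_one,
    one_mulVec]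

theorem fixSpace_ne_bot (p : ℕ) [Fact p.Prime] [CharP F p] (hn : 0 < n)
    (Q : Subgroup (Matrix.SpecialLinearGroup (Fin n) F)) (hQp : IsPGroup p Q) : fixSpace Q ≠ ⊥ := by
  letI act : MulAction ↥Q (Fin n → F) :=
    { smul := fun g v => ((g : Matrix.SpecialLinearGroup (Fin n) F) : Matrix (Fin n) (Fin n) F) *ᵥ v
      one_smul := fun v => by
        show (((1 : ↥Q) : Matrix.SpecialLinearGroup (Fin n) F) : Matrix (Fin n) (Fin n) F) *ᵥ v = v
        rw [Subgroup.coe_one, Matrix.SpecialLinearGroup.coe_one, one_mulVec]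
      mul_smul := fun g h v => by
        show (((g * h : ↥Q) : Matrix.SpecialLinearGroup (Fin n) F) : Matrix (Fin n) (Fin n) F) *ᵥ v =
          ((g : Matrix.SpecialLinearGroup (Fin n) F) : Matrix (Fin n) (Fin n) F) *ᵥ
            (((h : Matrix.SpecialLinearGroup (Fin n) F) : Matrix (Fin n) (Fin n) F) *ᵥ v)
        rw [Subgroup.coe_mul, Matrix.SpecialLinearGroup.coe_mul, mulVec_mulVec] }
  have hp : p ∣ Nat.card (Fin n → F) := by
    have h1 : p ∣ Nat.card F := by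
      rw [Nat.card_eq_fintype_card, ← CharP.cast_eq_zero_iff F p]
      exact Nat.cast_card_eq_zero F
    rw [Nat.card_fun, Nat.card_fin]
    exact dvd_pow h1 hn.ne'
  have h0 : (0 : Fin n → F) ∈ MulAction.fixedPoints ↥Q (Fin n → F) := fun g => mulVec_zero _
  obtain ⟨b, hb, hb0⟩ := hQp.exists_fixed_point_of_prime_dvd_card_of_fixed_point (Fin n → F) hp h0
  intro hbot
  have hbm : b ∈ fixSpace Q := fun g hg => hb ⟨g, hg⟩
  rw [hbot, Submodule.mem_bot] at hbm
  exact hb0 hbm.symm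

theorem fixSpace_ne_top (Q : Subgroup (Matrix.SpecialLinearGroup (Fin n) F)) (hQ1 : Q ≠ ⊥) :
    fixSpace Q ≠ ⊤ := by
  intro htop
  apply hQ1
  rw [eq_bot_iff]
  intro g hg
  rw [Subgroup.mem_bot]
  apply Subtype.ext
  rw [Matrix.SpecialLinearGroup.coe_one, ext_iff_mulVec]
  intro v
  have hv : v ∈ fixSpace Q := by rw [htop]; exact Submodule.mem_top
  rw [one_mulVec]
  exact hv g hg

/-- the group of the `g` acting trivially on `V₁` and on `V / V₁` -/
def transGroup (V₁ : Submodule F (Fin n → F)) : Subgroup (Matrix.SpecialLinearGroup (Fin n) F) where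
  carrier := {g | (∀ v, (g : Matrix (Fin n) (Fin n) F) *ᵥ v - v ∈ V₁) ∧
    ∀ v ∈ V₁, (g : Matrix (Fin n) (Fin n) F) *ᵥ v = v}
  one_mem' := by
    refine ⟨fun v => ?_, fun v _ => ?_⟩
    · rw [Matrix.SpecialLinearGroup.coe_one, one_mulVec, sub_self]
      exact V₁.zero_mem
    · rw [Matrix.SpecialLinearGroup.coe_one, one_mulVec]
  mul_mem' := by
    rintro g h ⟨hg1, hg2⟩ ⟨hh1, hh2⟩
    refine ⟨fun v => ?_, fun v hv => ?_⟩
    · rw [Matrix.SpecialLinearGroup.coe_mul, ← mulVec_mulVec]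
      have e : (g : Matrix (Fin n) (Fin n) F) *ᵥ ((h : Matrix (Fin n) (Fin n) F) *ᵥ v) - v =
          ((h : Matrix (Fin n) (Fin n) F) *ᵥ v - v) + ((g : Matrix (Fin n) (Fin n) F) *ᵥ v - v) := by
        have := hg2 _ (hh1 v)
        rw [mulVec_sub] at this
        rw [← this]
        abel
      rw [e]
      exact V₁.add_mem (hh1 v) (hg1 v)
    · rw [Matrix.SpecialLinearGroup.coe_mul, ← mulVec_mulVec, hh2 v hv, hg2 v hv]
  inv_mem' := by
    rintro g ⟨hg1, hg2⟩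
    have hfix : ∀ v ∈ V₁, ((g⁻¹ : Matrix.SpecialLinearGroup (Fin n) F) : Matrix (Fin n) (Fin n) F) *ᵥ v = v := by
      intro v hv
      conv_lhs => rw [← hg2 v hv]
      exact inv_mulVec_mulVec g v
    refine ⟨fun v => ?_, hfix⟩
    have h := hg1 (((g⁻¹ : Matrix.SpecialLinearGroup (Fin n) F) : Matrix (Fin n) (Fin n) F) *ᵥ v)
    rw [mulVec_inv_mulVec] at h
    have := V₁.neg_mem h
    rwa [neg_sub] at this

theorem mem_transGroup (V₁ : Submodule F (Fin n → F)) (g : Matrix.SpecialLinearGroup (Fin n) F) :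
    g ∈ transGroup V₁ ↔ (∀ v, (g : Matrix (Fin n) (Fin n) F) *ᵥ v - v ∈ V₁) ∧
      ∀ v ∈ V₁, (g : Matrix (Fin n) (Fin n) F) *ᵥ v = v := Iff.rfl

theorem transGroup_isPGroup (p : ℕ) [Fact p.Prime] [CharP F p] (V₁ : Submodule F (Fin n → F)) :
    IsPGroup p (transGroup V₁) := by
  rintro ⟨g, hg1, hg2⟩
  refine ⟨1, ?_⟩
  apply Subtype.ext
  apply Subtype.ext
  rw [pow_one, Subgroup.coe_pow, Subgroup.coe_one, Matrix.SpecialLinearGroup.coe_pow, Matrix.SpecialLinearGroup.coe_one]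
  set M : Matrix (Fin n) (Fin n) F := (g : Matrix (Fin n) (Fin n) F) with hMdef
  set N₀ : Matrix (Fin n) (Fin n) F := M - 1 with hN₀
  have hN₀v : ∀ w, N₀ *ᵥ w = M *ᵥ w - w := by
    intro w
    rw [hN₀, sub_mulVec, one_mulVec]
  have hM : M = (1 : F) • (1 : Matrix (Fin n) (Fin n) F) + N₀ := by rw [hN₀, one_smul]; abel
  have hN : N₀ * N₀ = 0 := by
    rw [ext_iff_mulVec]
    intro w
    rw [← mulVec_mulVec, zero_mulVec, hN₀v (N₀ *ᵥ w), hg2 _ (by rw [hN₀v]; exact hg1 w), sub_self]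
  have hp1 : p = (p - 1) + 1 := by
    have := (Fact.out : p.Prime).pos
    omega
  rw [hp1, pow_succ_of_sq_zero M N₀ 1 hM hN (p - 1), ← hp1, CharP.cast_eq_zero F p, zero_mul, zero_smul, add_zero,
    one_pow, one_smul]

theorem normalizer_le_normalizer_transGroup (Q : Subgroup (Matrix.SpecialLinearGroup (Fin n) F)) :
    Subgroup.normalizer (Q : Set (Matrix.SpecialLinearGroup (Fin n) F)) ≤
      Subgroup.normalizer ((transGroup (fixSpace Q) : Subgroup (Matrix.SpecialLinearGroup (Fin n) F)) :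
        Set (Matrix.SpecialLinearGroup (Fin n) F)) := by
  -- elements of `N(Q)` preserve the fixed space
  have hpres : ∀ m ∈ Subgroup.normalizer (Q : Set (Matrix.SpecialLinearGroup (Fin n) F)),
      ∀ v ∈ fixSpace Q, (m : Matrix (Fin n) (Fin n) F) *ᵥ v ∈ fixSpace Q := by
    intro m hm v hv g hg
    have hconj : m⁻¹ * g * m ∈ Q := by
      have := (Subgroup.mem_normalizer_iff'.mp hm (m⁻¹ * g)).mpr (by simpa using hg)
      simpa [mul_assoc] using this
    have h1 := hv _ hconj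
    rw [Matrix.SpecialLinearGroup.coe_mul, Matrix.SpecialLinearGroup.coe_mul, ← mulVec_mulVec, ← mulVec_mulVec] at h1
    have h2 : (m : Matrix (Fin n) (Fin n) F) *ᵥ
        (((m⁻¹ : Matrix.SpecialLinearGroup (Fin n) F) : Matrix (Fin n) (Fin n) F) *ᵥ
          ((g : Matrix (Fin n) (Fin n) F) *ᵥ ((m : Matrix (Fin n) (Fin n) F) *ᵥ v))) =
        (m : Matrix (Fin n) (Fin n) F) *ᵥ v := by rw [h1]
    rwa [mulVec_inv_mulVec] at h2
  rw [Subgroup.le_set_normalizer_iff]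
  rintro m hm r ⟨hr1, hr2⟩
  have hm' : m⁻¹ ∈ Subgroup.normalizer (Q : Set (Matrix.SpecialLinearGroup (Fin n) F)) := Subgroup.inv_mem _ hm
  refine ⟨fun v => ?_, fun v hv => ?_⟩
  · rw [Matrix.SpecialLinearGroup.coe_mul, Matrix.SpecialLinearGroup.coe_mul, ← mulVec_mulVec, ← mulVec_mulVec]
    have h := hpres m hm _ (hr1 (((m⁻¹ : Matrix.SpecialLinearGroup (Fin n) F) : Matrix (Fin n) (Fin n) F) *ᵥ v))
    rwa [mulVec_sub, mulVec_inv_mulVec] at h
  · rw [Matrix.SpecialLinearGroup.coe_mul, Matrix.SpecialLinearGroup.coe_mul, ← mulVec_mulVec, ← mulVec_mulVec,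
      hr2 _ (hpres m⁻¹ hm' v hv), mulVec_inv_mulVec]

/-- the transvection `1 + v φᵀ` -/
def transv (v φ : Fin n → F) (h : φ ⬝ᵥ v = 0) : Matrix.SpecialLinearGroup (Fin n) F :=
  ⟨1 + vecMulVec v φ, by
    rw [Matrix.vecMulVec_eq Unit, det_one_add_replicateCol_mul_replicateRow, h, add_zero]⟩

theorem transv_mem (V₁ : Submodule F (Fin n → F)) (v φ : Fin n → F) (hv : v ∈ V₁)
    (hφ : ∀ w ∈ V₁, φ ⬝ᵥ w = 0) : transv v φ (hφ v hv) ∈ transGroup V₁ := by
  refine ⟨fun w => ?_, fun w hw => ?_⟩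
  · show (1 + vecMulVec v φ) *ᵥ w - w ∈ V₁
    rw [add_mulVec, one_mulVec, add_sub_cancel_left, vecMulVec_mulVec, op_smul_eq_smul]
    exact V₁.smul_mem _ hv
  · show (1 + vecMulVec v φ) *ᵥ w = w
    rw [add_mulVec, one_mulVec, vecMulVec_mulVec, op_smul_eq_smul, hφ w hw, zero_smul, add_zero]

/-- S4538-[RAD] -/
theorem mem_center_of_centralizes_radical (p : ℕ) [Fact p.Prime] [CharP F p]
    (Q : Subgroup (Matrix.SpecialLinearGroup (Fin n) F)) (hQp : IsPGroup p Q) (hQ1 : Q ≠ ⊥)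
    (hrad : (Cfsg.pCore p (Subgroup.normalizer (Q : Set (Matrix.SpecialLinearGroup (Fin n) F)))).map
      (Subgroup.normalizer (Q : Set (Matrix.SpecialLinearGroup (Fin n) F))).subtype = Q)
    (x : Matrix.SpecialLinearGroup (Fin n) F) (hx : ¬ p ∣ orderOf x)
    (hxQ : ∀ g ∈ Q, g * x = x * g) :
    x ∈ Subgroup.center (Matrix.SpecialLinearGroup (Fin n) F) := by
  rcases Nat.eq_zero_or_pos n with hn | hn
  · subst hn
    rw [Subgroup.mem_center_iff]
    intro g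
    exact Subsingleton.elim _ _
  set V₁ := fixSpace Q with hV₁
  have hbot : V₁ ≠ ⊥ := fixSpace_ne_bot p hn Q hQp
  have htop : V₁ ≠ ⊤ := fixSpace_ne_top Q hQ1
  have hRQ : transGroup V₁ ≤ Q :=
    le_of_radical p Q (transGroup V₁) hQp (transGroup_isPGroup p V₁) hrad
      (normalizer_le_normalizer_transGroup Q)
  set M : Matrix (Fin n) (Fin n) F := (x : Matrix (Fin n) (Fin n) F) with hM
  have hcomm : ∀ v ∈ V₁, ∀ φ : Fin n → F, (∀ w ∈ V₁, φ ⬝ᵥ w = 0) →
      M * vecMulVec v φ = vecMulVec v φ * M := by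
    intro v hv φ hφ
    have h := hxQ _ (hRQ (transv_mem V₁ v φ hv hφ))
    have h' := congrArg (fun y : Matrix.SpecialLinearGroup (Fin n) F => (y : Matrix (Fin n) (Fin n) F)) h
    simp only [Matrix.SpecialLinearGroup.coe_mul] at h'
    have h'' : (1 + vecMulVec v φ) * M = M * (1 + vecMulVec v φ) := h'
    rw [Matrix.add_mul, Matrix.mul_add, Matrix.one_mul, Matrix.mul_one] at h''
    exact (add_left_cancel h'').symm
  obtain ⟨c, hc1, hc2⟩ := exists_scalar_of_commute V₁ hbot htop M hcomm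
  have hk : 0 < orderOf x := orderOf_pos x
  have hkF : ((orderOf x : ℕ) : F) ≠ 0 := by
    rw [Ne, CharP.cast_eq_zero_iff F p]
    exact hx
  have hMk : M ^ orderOf x = 1 := by
    rw [hM, ← Matrix.SpecialLinearGroup.coe_pow, pow_orderOf_eq_one, Matrix.SpecialLinearGroup.coe_one]
  have hsc := eq_scalar_of_pow_eq_one V₁ hbot M c hc1 hc2 (orderOf x) hk hkF hMk
  rw [Subgroup.mem_center_iff]
  intro g
  apply Subtype.ext
  rw [Matrix.SpecialLinearGroup.coe_mul, Matrix.SpecialLinearGroup.coe_mul]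
  show (g : Matrix (Fin n) (Fin n) F) * M = M * (g : Matrix (Fin n) (Fin n) F)
  rw [hsc, Matrix.mul_smul, Matrix.smul_mul, Matrix.mul_one, Matrix.one_mul]

end main

end Cfsg.Agent.Lib.Helper50.SLDZ
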