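import Mathlib
import Cfsg.Agent.Lib.Helper39.SPW.Defs
import Cfsg.Agent.Lib.Helper74.Coord

/-!
# SPW-[L-FIN] (helper39's project SPW, S2347): helper50

An irreducible representation of dimension `d` gives one on `Fin d → ℂ` (helper74's `toCoord`).
-/

set_option autoImplicit false

namespace Cfsg.Agent.Lib.Helper39.SPW

open Matrix Module

section L
variable {G : Type*} [Group G] {S : Type*} [AddCommGroup S] [Module ℂ S] [FiniteDimensional ℂ S]

/-- **[L-FIN]** an irreducible representation of dimension `d` gives one on `Fin d → ℂ` -/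
theorem exists_irreducible_fin (ρ : Representation ℂ G S) (hρ : ρ.IsIrreducible) (d : ℕ)
    (hd : finrank ℂ S = d) : ∃ ρ' : Representation ℂ G (Fin d → ℂ), ρ'.IsIrreducible := by
  subst hd
  have := hρ
  exact ⟨Cfsg.Agent.Lib.Helper74.toCoord ρ, Cfsg.Agent.Lib.Helper74.toCoord_isIrreducible ρ⟩

end L

end Cfsg.Agent.Lib.Helper39.SPW
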