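import Mathlib
import Cfsg.Agent.Lib.Helper39.SPW.Defs

/-!
# SPW-[L-NORM] (helper39's project SPW, S2347): helper50

A projective representation by operators preserving a subspace `U` with `dim S = 2 dim U + 1`
lifts to a linear representation: normalise `det T / det (T|U)^2 = 1`.
-/

set_option autoImplicit false
set_option linter.unusedSectionVars false
set_option linter.unusedVariables false

namespace Cfsg.Agent.Lib.Helper50.SpwLNorm

open Module

variable {S : Type*} [AddCommGroup S] [Module ℂ S] [FiniteDimensional ℂ S]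

open Classical in
/-- the normalising functional `det T / det (T|U)^2` -/
noncomputable def delta (U : Submodule ℂ S) (T : Module.End ℂ S) : ℂ :=
  if h : ∀ x ∈ U, T x ∈ U then LinearMap.det T / (LinearMap.det (T.restrict h)) ^ 2 else 0

theorem delta_eq (U : Submodule ℂ S) (T : Module.End ℂ S) (h : ∀ x ∈ U, T x ∈ U) :
    delta U T = LinearMap.det T / (LinearMap.det (T.restrict h)) ^ 2 := dif_pos h

theorem delta_smul (U : Submodule ℂ S) (hU : finrank ℂ S = 2 * finrank ℂ U + 1)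
    (T : Module.End ℂ S) (h : ∀ x ∈ U, T x ∈ U) (c : ℂ) : delta U (c • T) = c * delta U T := by
  have hc : ∀ x ∈ U, (c • T) x ∈ U := fun x hx => U.smul_mem c (h x hx)
  rw [delta_eq U _ hc, delta_eq U T h]
  have hr : (c • T).restrict hc = c • T.restrict h := by
    ext x
    rfl
  rw [hr, LinearMap.det_smul, LinearMap.det_smul, hU]
  by_cases c0 : c = 0
  · subst c0
    simp
  · by_cases hD : LinearMap.det (T.restrict h) = 0
    · rw [hD]; simp
    · have hcd : c ^ finrank ℂ U ≠ 0 := pow_ne_zero _ c0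
      field_simp
      ring

theorem delta_mul (U : Submodule ℂ S) (T T' : Module.End ℂ S) (h : ∀ x ∈ U, T x ∈ U)
    (h' : ∀ x ∈ U, T' x ∈ U) : delta U (T * T') = delta U T * delta U T' := by
  have hTT' : ∀ x ∈ U, (T * T') x ∈ U := fun x hx => h _ (h' x hx)
  rw [delta_eq U _ hTT', delta_eq U T h, delta_eq U T' h']
  have hr : (T * T').restrict hTT' = T.restrict h * T'.restrict h' := by
    ext x
    rfl
  rw [hr, map_mul, map_mul, mul_pow, mul_div_mul_comm]

theorem delta_ne_zero (U : Submodule ℂ S) (T : Module.End ℂ S) (h : ∀ x ∈ U, T x ∈ U)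
    (hT : IsUnit T) : delta U T ≠ 0 := by
  rw [delta_eq U T h]
  have h1 : LinearMap.det T ≠ 0 := (hT.map LinearMap.det).ne_zero
  have hker : LinearMap.ker T = ⊥ := (LinearMap.isUnit_iff_ker_eq_bot T).mp hT
  have h2 : IsUnit (T.restrict h) := by
    rw [LinearMap.isUnit_iff_ker_eq_bot, LinearMap.ker_eq_bot']
    intro x hx
    have : T (x : S) = 0 := congrArg Subtype.val hx
    have hx0 : (x : S) = 0 := (LinearMap.ker_eq_bot'.mp hker) _ this
    exact Subtype.ext hx0
  have h3 : LinearMap.det (T.restrict h) ≠ 0 := (h2.map LinearMap.det).ne_zero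
  exact div_ne_zero h1 (pow_ne_zero 2 h3)

end Cfsg.Agent.Lib.Helper50.SpwLNorm

namespace Cfsg.Agent.Lib.Helper39.SPW

open Matrix Module Cfsg.Agent.Lib.Helper50.SpwLNorm

section L
variable {G : Type*} [Group G] {S : Type*} [AddCommGroup S] [Module ℂ S] [FiniteDimensional ℂ S]

/-- **[L-NORM]** a projective representation by operators preserving a subspace `U` with
`dim S = 2 dim U + 1` lifts to a linear representation (normalise `det T / det (T|U)^2 = 1`) -/
theorem exists_hom_of_projective (U : Submodule ℂ S) (hU : finrank ℂ S = 2 * finrank ℂ U + 1)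
    (I : G → Set (Module.End ℂ S))
    (hne : ∀ g, (I g).Nonempty)
    (hunit : ∀ g, ∀ T ∈ I g, IsUnit T)
    (hinv : ∀ g, ∀ T ∈ I g, ∀ x ∈ U, T x ∈ U)
    (hmul : ∀ g h, ∀ T ∈ I g, ∀ T' ∈ I h, T * T' ∈ I (g * h))
    (hsc : ∀ g, ∀ T ∈ I g, ∀ T' ∈ I g, ∃ c : ℂ, T' = c • T)
    (hsmul : ∀ g, ∀ T ∈ I g, ∀ c : ℂ, c ≠ 0 → c • T ∈ I g) :
    ∃ ω : G →* Module.End ℂ S, ∀ g, ω g ∈ I g := by
  classical
  choose T hT using hne
  have hpres : ∀ g, ∀ x ∈ U, T g x ∈ U := fun g => hinv g (T g) (hT g)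
  have hd : ∀ g, delta U (T g) ≠ 0 := fun g =>
    delta_ne_zero U (T g) (hpres g) (hunit g _ (hT g))
  obtain ⟨ω, hωdef⟩ : ∃ ω : G → Module.End ℂ S, ∀ g, ω g = (delta U (T g))⁻¹ • T g :=
    ⟨fun g => (delta U (T g))⁻¹ • T g, fun g => rfl⟩
  have hω : ∀ g, ω g ∈ I g := fun g => by
    rw [hωdef]; exact hsmul g _ (hT g) _ (inv_ne_zero (hd g))
  have hωd : ∀ g, delta U (ω g) = 1 := fun g => by
    rw [hωdef, delta_smul U hU _ (hpres g), inv_mul_cancel₀ (hd g)]
  have hωpres : ∀ g, ∀ x ∈ U, ω g x ∈ U := fun g => hinv g _ (hω g)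
  have hmulω : ∀ g h, ω (g * h) = ω g * ω h := by
    intro g h
    obtain ⟨c, hc⟩ := hsc (g * h) (ω (g * h)) (hω _) (ω g * ω h) (hmul g h _ (hω g) _ (hω h))
    have h1 : delta U (ω g * ω h) = 1 := by
      rw [delta_mul U _ _ (hωpres g) (hωpres h), hωd, hωd, one_mul]
    rw [hc, delta_smul U hU _ (hωpres _), hωd, mul_one] at h1
    rw [hc, h1, one_smul]
  have hone : ω 1 = 1 := by
    have h1 : ω 1 * ω 1 = ω 1 := by rw [← hmulω, mul_one]
    obtain ⟨u, hu⟩ := hunit 1 _ (hω 1)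
    rw [← hu] at h1 ⊢
    have h2 := congrArg (fun z => (↑u⁻¹ : Module.End ℂ S) * z) h1
    simpa [← mul_assoc] using h2
  exact ⟨{ toFun := ω, map_one' := hone, map_mul' := hmulω }, hω⟩

end L

end Cfsg.Agent.Lib.Helper39.SPW
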