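import Mathlib
import Cfsg.Agent.Lib.Helper39.SPW.Defs
import Cfsg.Agent.Lib.Helper94.SPMD.Defs

/-!
# SPW-[O-COUNT] (helper39's project SPW, S2347), relative form: helper50 (hedge)

`orbit_bound_odd_of`: the statement of [O-COUNT] with [O-ZERO], [O-TRANS1], [O-TRANSL] as
hypotheses.
-/

set_option autoImplicit false
set_option linter.unusedSectionVars false
set_option linter.unusedVariables false
set_option linter.style.haveILetI false

namespace Cfsg.Agent.Lib.Helper50.SpwOCount

open Matrix Module Cfsg.Agent.Lib.Helper94.SPMD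

variable {F : Type*} [Field F] [Fintype F] {n : ℕ}

theorem two_ne_zero_of_odd_card (hodd : Odd (Fintype.card F)) : (2 : F) ≠ 0 := by
  intro h2
  have hchar : ringChar F = 2 := by
    have hdvd : ringChar F ∣ 2 := by
      have := (ringChar.spec F 2).mp (by exact_mod_cast h2)
      exact this
    have hp : (ringChar F).Prime := CharP.char_is_prime F (ringChar F)
    rcases (Nat.dvd_prime Nat.prime_two).mp hdvd with h | h
    · exact absurd h hp.one_lt.ne'
    · exact h
  have := FiniteField.even_card_of_char_two hchar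
  rcases hodd with ⟨k, hk⟩
  omega

theorem orbQ_actQ (A : GL (Fin n) F) (Q : QuadraticForm F (Fin n → F)) :
    orbQ (actQ A Q) = orbQ Q := by
  have hcomp : ∀ (B C : GL (Fin n) F) (Q' : QuadraticForm F (Fin n → F)),
      actQ B (actQ C Q') = actQ (B * C) Q' := by
    intro B C Q'
    ext x
    rw [actQ_apply, actQ_apply, actQ_apply, _root_.mul_inv_rev, Units.val_mul, Matrix.mulVec_mulVec]
  ext Q'
  constructor
  · rintro ⟨B, rfl⟩
    exact ⟨B * A, hcomp B A Q⟩
  · rintro ⟨B, rfl⟩
    refine ⟨B * A⁻¹, ?_⟩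
    rw [hcomp, inv_mul_cancel_right]

theorem orbit_bound_odd_of {q : ℕ} (hq : Fintype.card F = q) (hodd : Odd q) (hn : 1 ≤ n)
    (hZ : ∀ Q' : QuadraticForm F (Fin n → F), Q' ≠ 0 → ∀ c : F,
      Nat.card {y : Fin n → F // Q' y = c} ≤ 2 * q ^ (n - 1))
    (hT1 : ∀ x y : Fin n → F, x ≠ 0 → y ≠ 0 →
      ∃ A : GL (Fin n) F, (A : Matrix (Fin n) (Fin n) F) *ᵥ x = y)
    (hTL : ∀ (Q' : QuadraticForm F (Fin n → F)) (y : Fin n → F) (c : F), c ≠ 0 → Q' y = c →
      q ^ (n - 1) ≤ Nat.card {Q'' : QuadraticForm F (Fin n → F) // Q'' ∈ orbQ Q' ∧ Q'' y = c})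
    (Q : QuadraticForm F (Fin n → F)) (hB : ∃ x y, QuadraticMap.polar Q x y ≠ 0) :
    q ^ n - 1 ≤ 2 * Nat.card (orbQ Q) := by
  classical
  -- a vector with `Q e ≠ 0`
  obtain ⟨e, he⟩ : ∃ e, Q e ≠ 0 := by
    obtain ⟨x, y, hxy⟩ := hB
    by_contra hall
    push Not at hall
    apply hxy
    unfold QuadraticMap.polar
    rw [hall, hall, hall]
    simp
  have he0 : e ≠ 0 := by
    rintro rfl
    exact he (map_zero Q)
  obtain ⟨c, hc⟩ : ∃ c, c = Q e := ⟨_, rfl⟩
  have hc0 : c ≠ 0 := by rw [hc]; exact he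
  -- the orbit as a finset
  have hfinQ : Finite (QuadraticForm F (Fin n → F)) :=
    Finite.of_injective (fun Q' : QuadraticForm F (Fin n → F) => (Q' : (Fin n → F) → F))
      DFunLike.coe_injective
  letI : Fintype (QuadraticForm F (Fin n → F)) := Fintype.ofFinite _
  have hfin : (orbQ Q).Finite := Set.toFinite _
  obtain ⟨O, hO⟩ : ∃ O : Finset (QuadraticForm F (Fin n → F)), ∀ Q', Q' ∈ O ↔ Q' ∈ orbQ Q :=
    ⟨hfin.toFinset, fun Q' => hfin.mem_toFinset⟩
  have hOcard : Nat.card (orbQ Q) = O.card := by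
    rw [Nat.card_coe_set_eq, Set.ncard_eq_toFinset_card _ hfin]
    congr 1
    ext Q'
    rw [hO, hfin.mem_toFinset]
  -- double counting
  have hdc := Finset.sum_card_bipartiteAbove_eq_sum_card_bipartiteBelow
    (fun (Q' : QuadraticForm F (Fin n → F)) (y : Fin n → F) => Q' y = c) (s := O)
    (t := (Finset.univ : Finset (Fin n → F)))
  -- upper bound
  have hup : ∑ Q' ∈ O, (Finset.bipartiteAbove
      (fun (Q' : QuadraticForm F (Fin n → F)) (y : Fin n → F) => Q' y = c) Finset.univ Q').card ≤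
      O.card * (2 * q ^ (n - 1)) := by
    rw [← smul_eq_mul]
    refine Finset.sum_le_card_nsmul _ _ _ (fun Q' hQ' => ?_)
    have hQ'0 : Q' ≠ 0 := by
      obtain ⟨A, rfl⟩ := (hO Q').mp hQ'
      intro h0
      have h1 : actQ A Q ((A : Matrix (Fin n) (Fin n) F) *ᵥ e) = 0 := by rw [h0]; rfl
      rw [actQ_apply, Matrix.mulVec_mulVec, ← Units.val_mul, inv_mul_cancel, Units.val_one,
        Matrix.one_mulVec] at h1
      exact he h1
    have h2 := hZ Q' hQ'0 c
    rw [Nat.card_eq_fintype_card, Fintype.card_of_subtype (Finset.bipartiteAbove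
      (fun (Q' : QuadraticForm F (Fin n → F)) (y : Fin n → F) => Q' y = c) Finset.univ Q')] at h2
    · exact h2
    · intro y
      simp [Finset.bipartiteAbove]
  -- lower bound
  have hlow : (q ^ n - 1) * q ^ (n - 1) ≤ ∑ y ∈ (Finset.univ : Finset (Fin n → F)),
      (Finset.bipartiteBelow
        (fun (Q' : QuadraticForm F (Fin n → F)) (y : Fin n → F) => Q' y = c) O y).card := by
    have hsub : (Finset.univ : Finset (Fin n → F)).erase 0 ⊆ Finset.univ := Finset.erase_subset _ _
    refine le_trans ?_ (Finset.sum_le_sum_of_subset hsub)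
    have hcard : ((Finset.univ : Finset (Fin n → F)).erase 0).card = q ^ n - 1 := by
      rw [Finset.card_erase_of_mem (Finset.mem_univ _), Finset.card_univ, Fintype.card_fun,
        Fintype.card_fin, hq]
    rw [← hcard, ← smul_eq_mul]
    refine Finset.card_nsmul_le_sum _ _ _ (fun y hy => ?_)
    have hy0 : y ≠ 0 := Finset.ne_of_mem_erase hy
    obtain ⟨A, hA⟩ := hT1 e y he0 hy0
    have hQ0y : actQ A Q y = c := by
      rw [actQ_apply, ← hA, Matrix.mulVec_mulVec, ← Units.val_mul, inv_mul_cancel, Units.val_one,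
        Matrix.one_mulVec, hc]
    have h3 := hTL (actQ A Q) y c hc0 hQ0y
    rw [orbQ_actQ, Nat.card_eq_fintype_card, Fintype.card_of_subtype (Finset.bipartiteBelow
      (fun (Q' : QuadraticForm F (Fin n → F)) (y : Fin n → F) => Q' y = c) O y)] at h3
    · exact h3
    · intro Q'
      simp [Finset.bipartiteBelow, hO]
  have hpos : 0 < q ^ (n - 1) := by
    have : 0 < q := by rw [← hq]; exact Fintype.card_pos
    exact pow_pos this _
  have hfinal : (q ^ n - 1) * q ^ (n - 1) ≤ (2 * O.card) * q ^ (n - 1) := by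
    calc (q ^ n - 1) * q ^ (n - 1) ≤ _ := hlow
      _ = _ := hdc.symm
      _ ≤ O.card * (2 * q ^ (n - 1)) := hup
      _ = (2 * O.card) * q ^ (n - 1) := by ring
  rw [hOcard]
  exact Nat.le_of_mul_le_mul_right hfinal hpos

end Cfsg.Agent.Lib.Helper50.SpwOCount
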